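import Groth.Agent.Lib.Helper24.FFExt.IntClosure

/-! # Unramifiedness under separable constant field extensions (helper24) -/

set_option autoImplicit false

namespace Groth.Agent.Lib.Helper24.FFExt

open FunFld WithZero IntermediateField Polynomial Groth.Agent.Lib.Helper18.FF

open scoped TensorProduct

universe u v

/-- A valuation which is `≤ 1` on a ring `R` is `≤ 1` on every element integral over `R`. -/
theorem val_le_one_of_isIntegral_ring {R K' : Type*} [CommRing R] [Field K'] [Algebra R K']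
    {Γ : Type*} [LinearOrderedCommGroupWithZero Γ] (v : Valuation K' Γ)
    (h : ∀ y : R, v (algebraMap R K' y) ≤ 1) {s : K'} (hs : IsIntegral R s) : v s ≤ 1 := by
  by_contra hlt
  push Not at hlt
  obtain ⟨p, hp, hps⟩ := hs
  have hsum := hp.as_sum
  have h0 : Polynomial.aeval s p = 0 := hps
  rw [hsum, map_add, map_pow, Polynomial.aeval_X, map_sum] at h0
  have hv0 : v s ≠ 0 := (zero_lt_one.trans hlt).ne'
  have hlt' : v (∑ i ∈ Finset.range p.natDegree,
      Polynomial.aeval s (Polynomial.C (p.coeff i) * Polynomial.X ^ i)) < v s ^ p.natDegree := by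
    apply Valuation.map_sum_lt v (pow_ne_zero _ hv0)
    intro i hi
    rw [Finset.mem_range] at hi
    rw [map_mul, map_pow, Polynomial.aeval_X, Polynomial.aeval_C, map_mul, map_pow]
    calc v (algebraMap R K' (p.coeff i)) * v s ^ i ≤ 1 * v s ^ i := mul_le_mul' (h _) le_rfl
      _ = v s ^ i := one_mul _
      _ < v s ^ p.natDegree := pow_lt_pow_right₀ hlt hi
  have h1 : s ^ p.natDegree = -∑ i ∈ Finset.range p.natDegree,
      Polynomial.aeval s (Polynomial.C (p.coeff i) * Polynomial.X ^ i) :=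
    eq_neg_of_add_eq_zero_left h0
  have h2 : v (s ^ p.natDegree) = v s ^ p.natDegree := map_pow _ _ _
  rw [h1, Valuation.map_neg] at h2
  exact absurd h2 hlt'.ne

variable {k k' : Type u} {K K' : Type v} [Field k] [Field k'] [Field K] [Field K']
  [Algebra k k'] [Algebra k K] [Algebra K K'] [Algebra k' K'] [Algebra k K']
  [IsScalarTower k k' K'] [IsScalarTower k K K']

/-- If `k' ⊗ F_P` is reduced, every place of `k' ⊗ K` above `P` is unramified. -/
theorem isOverWith_one_of_isReduced {P : Place k K}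
    [IsReduced (k' ⊗[k] (P.O ⧸ IsLocalRing.maximalIdeal P.O))]
    [Algebra P.O K'] [IsScalarTower P.O K K'] [FiniteDimensional k k']
    (h : Function.Bijective (Algebra.TensorProduct.productMap
      (IsScalarTower.toAlgHom k k' K') (IsScalarTower.toAlgHom k K K')))
    (hK : IsFunctionField k K) {Q : Place k K'} (hQ : IsOver Q P) : IsOverWith Q P 1 := by
  classical
  haveI := finiteDimensional_of_tensor h
  have he := isOver_isOverWith_ramIdx hQ
  suffices hsuff : ramIdx Q P = 1 by rwa [hsuff] at he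
  have hpos := isOver_ramIdx_pos hQ
  obtain ⟨t, ht⟩ := exists_uniformizer P
  have ht0 := uniformizer_ne_zero' ht
  have hfin := finite_isOver (K' := K') hK P
  set S := hfin.toFinset with hSdef
  have hS : ∀ Q', Q' ∈ S ↔ IsOver Q' P := fun Q' => Set.Finite.mem_toFinset hfin
  obtain ⟨z, hz⟩ := exists_approx_eq S (fun _ => (0 : K')) (fun _ => (-1 : ℤ))
  have hz' : ∀ Q' ∈ S, Q'.1 z = exp (-1 : ℤ) := by
    intro Q' hQ'
    have := hz Q' hQ'
    rwa [sub_zero] at this
  set N := ∑ Q' ∈ S, ramIdx Q' P with hN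
  have hzint : IsIntegral P.O z := isIntegral_of_forall_isOver hK P (fun Q' hQ' => by
    rw [hz' Q' ((hS Q').mpr hQ')]; exact exp_neg_one_lt_one.le)
  have hwint : IsIntegral P.O (z ^ N / algebraMap K K' t) :=
    isIntegral_of_forall_isOver hK P (fun Q' hQ' => by
      have hmem := (hS Q').mpr hQ'
      have he' := isOver_isOverWith_ramIdx hQ'
      have hle : ramIdx Q' P ≤ N := Finset.single_le_sum (f := fun Q' => ramIdx Q' P)
        (fun _ _ => Nat.zero_le _) hmem
      rw [map_div₀, map_pow, hz' Q' hmem, he' t, ht, ← exp_nsmul, ← exp_nsmul]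
      apply div_le_one_of_le₀ _ zero_le'
      rw [exp_le_exp]
      simp only [nsmul_eq_mul, mul_neg, mul_one, neg_le_neg_iff]
      exact_mod_cast hle)
  obtain ⟨x, hx⟩ := exists_tensorO_eq_of_isIntegral h hzint
  obtain ⟨y, hy⟩ := exists_tensorO_eq_of_isIntegral h hwint
  have hxy : x ^ N = ((1 : k') ⊗ₜ (⟨t, uniformizer_le_one ht⟩ : P.O)) * y := by
    apply tensorO_injective h P
    rw [map_pow, hx, map_mul, hy, tensorO_tmul, map_one, one_mul]
    have : algebraMap K K' t ≠ 0 := (_root_.map_ne_zero _).mpr ht0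
    field_simp
  obtain ⟨x', hx'⟩ := eq_mul_of_pow_eq_mul ht hxy
  have hzt : z = algebraMap K K' t * tensorO P x' := by
    rw [← hx, hx', map_mul, tensorO_tmul, map_one, one_mul]
  have hle : Q.1 (tensorO P x') ≤ 1 := by
    refine val_le_one_of_isIntegral_ring (R := P.O) Q.1 (fun c => ?_)
      (adjoin_le_integralClosure P (tensorO_mem_adjoin P x'))
    rw [IsScalarTower.algebraMap_apply P.O K K', isOver_le_one_iff hQ]
    exact c.2
  have h1 := hz' Q ((hS Q).mpr hQ)
  rw [hzt, map_mul, he t, ht] at h1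
  have h2 : (exp (-1 : ℤ) : ℤᵐ⁰) ≤ exp (-1 : ℤ) ^ ramIdx Q P :=
    calc (exp (-1 : ℤ) : ℤᵐ⁰) = exp (-1 : ℤ) ^ ramIdx Q P * Q.1 (tensorO P x') := h1.symm
      _ ≤ exp (-1 : ℤ) ^ ramIdx Q P := mul_le_of_le_one_right' hle
  rw [← exp_nsmul, exp_le_exp] at h2
  simp only [nsmul_eq_mul, mul_neg, mul_one, neg_le_neg_iff] at h2
  have h3 : ramIdx Q P ≤ 1 := by exact_mod_cast h2
  omega

end Groth.Agent.Lib.Helper24.FFExt
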