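import Groth.Agent.Lib.Helper24.FFExt.WeakDeg
import Groth.Agent.Lib.Helper18.FF.Riemann

/-! # The fundamental identity `∑ e f = n` for finite extensions of function fields (helper24) -/

set_option autoImplicit false

namespace Groth.Agent.Lib.Helper24.FFExt

open FunFld WithZero IntermediateField Groth.Agent.Lib.Helper18.FF

section Base

variable {k K : Type*} [Field k] [Field K] [Algebra k K]

/-- Every place is the unique zero of some function. -/
theorem exists_unique_zero (hK : IsFunctionField k K) (P : Place k K) :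
    ∃ x : K, Transcendental k x ∧ ∀ P' : Place k K, P'.1 x < 1 ↔ P' = P := by
  classical
  obtain ⟨N, hN⟩ := exists_delta_eq_genus_of_le_deg hK
  have hdeg := deg_pos hK P
  set m : ℕ := N.toNat + genus k K + 1 with hm
  set D : Divisor k K := Finsupp.single P (m : ℤ) with hD
  have hDdeg : D.deg = (m : ℤ) * P.deg := deg_single P m
  have hmle : (m : ℤ) ≤ (m : ℤ) * P.deg := by
    have : (1 : ℤ) ≤ P.deg := by exact_mod_cast hdeg
    nlinarith
  have hNle : N ≤ D.deg := by
    rw [hDdeg]
    have : N ≤ (m : ℤ) := by
      rw [hm]; push_cast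
      have := Int.self_le_toNat N
      omega
    omega
  have hδ := hN D hNle
  have hell : 2 ≤ ell D := by
    unfold delta at hδ
    have : (genus k K : ℤ) + 1 ≤ D.deg := by
      rw [hDdeg]
      have : (genus k K : ℤ) + 1 ≤ (m : ℤ) := by rw [hm]; push_cast; omega
      omega
    have h2 : (2 : ℤ) ≤ (ell D : ℤ) := by linarith
    exact_mod_cast h2
  have hy : ∃ y ∈ L D, y ∉ Set.range (algebraMap k K) := by
    by_contra hcon
    push Not at hcon
    have hle : L D ≤ Submodule.span k {(1 : K)} := by
      intro y hy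
      obtain ⟨c, rfl⟩ := hcon y hy
      rw [Submodule.mem_span_singleton]
      exact ⟨c, by rw [Algebra.smul_def, mul_one]⟩
    have h1 := Submodule.finrank_mono hle
    rw [finrank_span_singleton (one_ne_zero)] at h1
    unfold ell at hell
    omega
  obtain ⟨y, hyL, hyk⟩ := hy
  have hytr := transcendental_of_not_mem hK hyk
  have hy0 : y ≠ 0 := by rintro rfl; exact hyk ⟨0, map_zero _⟩
  obtain ⟨P₀, hP₀⟩ := exists_pole hK hyk
  have hother : ∀ P' : Place k K, P' ≠ P → P'.1 y ≤ 1 := by
    intro P' hP'
    have := hyL P'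
    rwa [hD, Finsupp.single_apply, if_neg (Ne.symm hP'), exp_zero] at this
  have hP₀P : P₀ = P := by
    by_contra hne
    exact absurd (hother P₀ hne) (not_le.mpr hP₀)
  refine ⟨y⁻¹, transcendental_inv hytr, fun P' => ?_⟩
  have hP'0 : P'.1 y ≠ 0 := (Valuation.ne_zero_iff _).mpr hy0
  rw [map_inv₀, inv_lt_one₀ (zero_lt_iff.mpr hP'0)]
  constructor
  · intro h
    by_contra hne
    exact absurd (hother P' hne) (not_le.mpr h)
  · rintro rfl
    rw [← hP₀P]; exact hP₀

end Base

variable {k K K' : Type*} [Field k] [Field K] [Field K'] [Algebra k K] [Algebra K K'] [Algebra k K']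
  [IsScalarTower k K K']

/-- The ring isomorphism `k(x) ≃ k(x')`, `x'` the image of `x` in `K'`. -/
noncomputable def adjoinEquiv (x : K) :
    IntermediateField.adjoin k ({x} : Set K) ≃+*
      IntermediateField.adjoin k ({algebraMap K K' x} : Set K') := by
  have hmap : IntermediateField.map (IsScalarTower.toAlgHom k K K') (IntermediateField.adjoin k ({x} : Set K)) =
      IntermediateField.adjoin k ({algebraMap K K' x} : Set K') := by
    rw [IntermediateField.adjoin_map, Set.image_singleton]
    rfl
  have hmem : ∀ a : IntermediateField.adjoin k ({x} : Set K),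
      (algebraMap K K').comp (algebraMap (IntermediateField.adjoin k ({x} : Set K)) K) a ∈
        IntermediateField.adjoin k ({algebraMap K K' x} : Set K') := by
    intro a
    rw [← hmap]
    exact ⟨a.1, a.2, rfl⟩
  refine RingEquiv.ofBijective (((algebraMap K K').comp
    (algebraMap (IntermediateField.adjoin k ({x} : Set K)) K)).codRestrict
      (IntermediateField.adjoin k ({algebraMap K K' x} : Set K')) hmem) ⟨?_, ?_⟩
  · intro a b hab
    have h1 : algebraMap K K' a.1 = algebraMap K K' b.1 := congrArg Subtype.val hab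
    exact Subtype.ext ((algebraMap K K').injective h1)
  · rintro ⟨b, hb⟩
    rw [← hmap] at hb
    obtain ⟨a, ha, rfl⟩ := hb
    exact ⟨⟨a, ha⟩, rfl⟩

theorem adjoinEquiv_comm (x : K) :
    (algebraMap (IntermediateField.adjoin k ({algebraMap K K' x} : Set K')) K').comp
        (adjoinEquiv (k := k) (K' := K') x : _ →+* _) =
      ((RingEquiv.refl K' : K' ≃+* K') : K' →+* K').comp
        (algebraMap (IntermediateField.adjoin k ({x} : Set K)) K') := by
  ext a
  rfl

theorem finiteDimensional_adjoin_map [FiniteDimensional K K'] {x : K}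
    (hfin : FiniteDimensional (IntermediateField.adjoin k ({x} : Set K)) K) :
    FiniteDimensional (IntermediateField.adjoin k ({algebraMap K K' x} : Set K')) K' := by
  haveI : Module.Finite (IntermediateField.adjoin k ({x} : Set K)) K' :=
    Module.Finite.trans K K'
  exact Module.Finite.of_equiv_equiv (adjoinEquiv (k := k) (K' := K') x) (RingEquiv.refl K')
    (adjoinEquiv_comm x)

theorem finrank_adjoin_map (x : K) :
    Module.finrank (IntermediateField.adjoin k ({algebraMap K K' x} : Set K')) K' =
      Module.finrank (IntermediateField.adjoin k ({x} : Set K)) K * Module.finrank K K' := by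
  rw [Module.finrank_mul_finrank]
  exact (Algebra.finrank_eq_of_equiv_equiv (adjoinEquiv (k := k) (K' := K') x) (RingEquiv.refl K')
    (adjoinEquiv_comm x)).symm

/-- The set of places above a place is finite, and `∑_{Q | P} e(Q|P) deg Q = [K' : K] deg P`. -/
theorem finite_isOver [FiniteDimensional K K'] (hK : IsFunctionField k K) (P : Place k K) :
    {Q : Place k K' | IsOver Q P}.Finite := by
  obtain ⟨x, hx, hxP⟩ := exists_unique_zero hK P
  have hx' : Transcendental k (algebraMap K K' x) :=
    (transcendental_algebraMap_iff (algebraMap K K').injective).mpr hx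
  have hfin' := finiteDimensional_adjoin_map (K' := K') (finiteDimensional_adjoin_of_transcendental hK hx)
  refine (finite_zeros_weak hx' hfin').subset ?_
  intro Q hQ
  exact (isOver_lt_one_iff hQ x).mpr ((hxP P).mpr rfl)

theorem sum_ramIdx_mul_deg [FiniteDimensional K K'] (hK : IsFunctionField k K) (P : Place k K)
    (Qs : Finset (Place k K')) (hQs : ∀ Q, Q ∈ Qs ↔ IsOver Q P) :
    ∑ Q ∈ Qs, ramIdx Q P * Q.deg = Module.finrank K K' * P.deg := by
  classical
  obtain ⟨x, hx, hxP⟩ := exists_unique_zero hK P
  have hx' : Transcendental k (algebraMap K K' x) :=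
    (transcendental_algebraMap_iff (algebraMap K K').injective).mpr hx
  have hfin := finiteDimensional_adjoin_of_transcendental hK hx
  have hfin' := finiteDimensional_adjoin_map (K' := K') hfin
  have hx0 : x ≠ 0 := by
    rintro rfl
    exact hx ⟨Polynomial.X, Polynomial.X_ne_zero, by simp⟩
  have hr : 0 < P.ord x := (val_lt_one_iff_ord_pos P hx0).mp ((hxP P).mpr rfl)
  -- zeros of `x` in `K'` are the places above `P`
  have hS' : ∀ Q : Place k K', Q ∈ Qs ↔ Q.1 (algebraMap K K' x) < 1 := by
    intro Q
    rw [hQs]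
    constructor
    · intro hQ
      exact (isOver_lt_one_iff hQ x).mpr ((hxP P).mpr rfl)
    · intro hQ
      obtain ⟨P', hP'⟩ := exists_isOver hK Q
      have := (isOver_lt_one_iff hP' x).mp hQ
      rw [(hxP P').mp this] at hP'
      exact hP'
  have h1 := sum_zeros_weak hx' hfin' Qs hS'
  have h2 := sum_zeros_weak hx hfin {P} (fun P' => by rw [Finset.mem_singleton]; exact (hxP P').symm)
  rw [Finset.sum_singleton] at h2
  rw [finrank_adjoin_map, Nat.cast_mul, ← h2] at h1
  have h3 : ∑ Q ∈ Qs, Q.ord (algebraMap K K' x) * (Q.deg : ℤ) =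
      P.ord x * ∑ Q ∈ Qs, ((ramIdx Q P * Q.deg : ℕ) : ℤ) := by
    rw [Finset.mul_sum]
    refine Finset.sum_congr rfl fun Q hQ => ?_
    have hQ' := (hQs Q).mp hQ
    rw [isOverWith_ord_eq (isOver_isOverWith_ramIdx hQ') x]
    push_cast
    ring
  rw [h3, mul_assoc] at h1
  have h4 := mul_left_cancel₀ hr.ne' h1
  have h5 : ((∑ Q ∈ Qs, ramIdx Q P * Q.deg : ℕ) : ℤ) = ((Module.finrank K K' * P.deg : ℕ) : ℤ) := by
    push_cast
    push_cast at h4
    rw [h4]; ring
  exact_mod_cast h5

end Groth.Agent.Lib.Helper24.FFExt
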