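import Groth.Agent.Lib.Helper24.FFExt.Inertia

/-! # The order of the inertia group (helper24) -/

set_option autoImplicit false

namespace Groth.Agent.Lib.Helper24.FFExt

open FunFld WithZero Polynomial Groth.Agent.Lib.Helper18.FF

open scoped Pointwise

variable {k K K' : Type*} [Field k] [Field K] [Field K'] [Algebra k K] [Algebra K K'] [Algebra k K']
  [IsScalarTower k K K']

theorem isScalarTower_residue {Q : Place k K'} {P : Place k K} (h : IsOver Q P) :
    letI := (IsLocalRing.ResidueField.map (overRingHom h)).toAlgebra
    @IsScalarTower k (IsLocalRing.ResidueField P.O) (IsLocalRing.ResidueField Q.O)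
      (Place.algRes P).toSMul Algebra.toSMul (Place.algRes Q).toSMul := by
  letI : Algebra (IsLocalRing.ResidueField P.O) (IsLocalRing.ResidueField Q.O) :=
    (IsLocalRing.ResidueField.map (overRingHom h)).toAlgebra
  refine IsScalarTower.of_algebraMap_eq fun c => ?_
  show IsLocalRing.residue _ (algebraMap k Q.O c) =
    IsLocalRing.ResidueField.map (overRingHom h) (IsLocalRing.residue _ (algebraMap k P.O c))
  rw [IsLocalRing.ResidueField.map_residue]
  congr 1
  apply Subtype.ext
  show algebraMap k K' c = algebraMap K K' (algebraMap k K c)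
  rw [← IsScalarTower.algebraMap_apply]

theorem deg_mul_finrank_residue {Q : Place k K'} {P : Place k K} (h : IsOver Q P) :
    letI := (IsLocalRing.ResidueField.map (overRingHom h)).toAlgebra
    P.deg * Module.finrank (IsLocalRing.ResidueField P.O) (IsLocalRing.ResidueField Q.O) = Q.deg := by
  letI : Algebra (IsLocalRing.ResidueField P.O) (IsLocalRing.ResidueField Q.O) :=
    (IsLocalRing.ResidueField.map (overRingHom h)).toAlgebra
  exact @Module.finrank_mul_finrank k (IsLocalRing.ResidueField P.O)
      (IsLocalRing.ResidueField Q.O) _ _ _ _ _ _ (isScalarTower_residue h) _ _ _ _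

/-- The inertia group of `Q` has order `e(Q|P)` when the residue field of `Q` is separable over `k`. -/
theorem card_inertia [FiniteDimensional K K'] [IsGalois K K'] (hK : IsFunctionField k K)
    {Q : Place k K'} {P : Place k K} {e : ℕ} (he : IsOverWith Q P e)
    [hsepk : Algebra.IsSeparable k (IsLocalRing.ResidueField Q.O)] :
    Nat.card ((Q.O).inertiaSubgroup K) = e := by
  classical
  have h := isOverWith_isOver he
  letI alg : Algebra (IsLocalRing.ResidueField P.O) (IsLocalRing.ResidueField Q.O) :=
    (IsLocalRing.ResidueField.map (overRingHom h)).toAlgebra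
  haveI hsepFP : Algebra.IsSeparable (IsLocalRing.ResidueField P.O) (IsLocalRing.ResidueField Q.O) :=
    @Algebra.isSeparable_tower_top_of_isSeparable k (IsLocalRing.ResidueField P.O) _
      (IsLocalRing.ResidueField Q.O) _ _ (Place.algRes P) (Place.algRes Q) alg
      (isScalarTower_residue h) hsepk
  set D := (Q.O).decompositionSubgroup K with hD
  set ρ : D →* RingAut (IsLocalRing.ResidueField Q.O) :=
    MulSemiringAction.toRingAut D (IsLocalRing.ResidueField Q.O) with hρ
  have hker : (Q.O).inertiaSubgroup K = ρ.ker := rfl
  have h1 : Nat.card ((Q.O).inertiaSubgroup K) * Nat.card ρ.range = Nat.card D := by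
    rw [hker, ← Subgroup.index_ker]
    exact Subgroup.card_mul_index _
  haveI : Finite D := inferInstance
  haveI : Finite ρ.range := inferInstance
  letI : Fintype ρ.range := Fintype.ofFinite _
  have hartin := FixedPoints.finrank_eq_card ρ.range (IsLocalRing.ResidueField Q.O)
  -- the fixed field is the residue field of `P`
  have hS : ∀ x : IsLocalRing.ResidueField Q.O,
      x ∈ FixedPoints.subfield ρ.range (IsLocalRing.ResidueField Q.O) ↔
        x ∈ (IsLocalRing.ResidueField.map (overRingHom h)).range := by
    intro x
    constructor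
    · intro hx
      refine fixed_mem_range h x (Algebra.IsSeparable.isSeparable _ x) fun σ => ?_
      exact hx ⟨ρ σ, σ, rfl⟩
    · rintro ⟨y, rfl⟩
      obtain ⟨c, rfl⟩ := IsLocalRing.residue_surjective y
      rintro ⟨τ, σ, rfl⟩
      show σ • (IsLocalRing.ResidueField.map (overRingHom h) (IsLocalRing.residue P.O c)) = _
      rw [IsLocalRing.ResidueField.map_residue, ← IsLocalRing.ResidueField.residue_smul]
      congr 1
      apply Subtype.ext
      exact σ.1.commutes c.1
  -- transfer of finrank
  have hfin : Module.finrank (IsLocalRing.ResidueField P.O) (IsLocalRing.ResidueField Q.O) =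
      Module.finrank (FixedPoints.subfield ρ.range (IsLocalRing.ResidueField Q.O))
        (IsLocalRing.ResidueField Q.O) := by
    let i0 : IsLocalRing.ResidueField P.O →+*
        FixedPoints.subfield ρ.range (IsLocalRing.ResidueField Q.O) :=
      (IsLocalRing.ResidueField.map (overRingHom h)).codRestrict _
        (fun y => (hS _).mpr ⟨y, rfl⟩)
    have hbij : Function.Bijective i0 := by
      constructor
      · exact i0.injective
      · rintro ⟨x, hx⟩
        obtain ⟨y, hy⟩ := (hS x).mp hx
        exact ⟨y, Subtype.ext hy⟩
    exact Algebra.finrank_eq_of_equiv_equiv (RingEquiv.ofBijective i0 hbij)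
      (RingEquiv.refl _) (by ext y; rfl)
  have hdm := deg_mul_finrank_residue h
  have hcd := card_decomposition_mul_deg hK he
  rw [hfin, hartin, ← Nat.card_eq_fintype_card] at hdm
  rw [← h1, ← hdm] at hcd
  have hPpos := deg_pos hK P
  have hHpos : 0 < Nat.card ρ.range := Nat.card_pos
  have h2 : Nat.card ((Q.O).inertiaSubgroup K) * (Nat.card ρ.range * P.deg) =
      e * (Nat.card ρ.range * P.deg) := by
    rw [← mul_assoc, hcd]; ring
  exact Nat.eq_of_mul_eq_mul_right (Nat.mul_pos hHpos hPpos) h2

end Groth.Agent.Lib.Helper24.FFExt
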