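import Groth.Agent.Lib.Helper24.FFExt.IntClosure
import Groth.Agent.Lib.Helper24.FFExt.Fundamental
import Groth.Agent.Lib.Helper24.FFExt.Inertia2
import Groth.Agent.Lib.Helper18.FF.Approx2

/-! # Integral bases at a place: the integral closure of `O_P` in a finite extension is finite (helper24) -/

set_option autoImplicit false

namespace Groth.Agent.Lib.Helper24.FFExt

open FunFld WithZero IntermediateField Polynomial Groth.Agent.Lib.Helper18.FF

variable {k K K' : Type*} [Field k] [Field K] [Field K'] [Algebra k K] [Algebra K K'] [Algebra k K']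
  [IsScalarTower k K K']

/-- Lifts of a basis of the residue field extension: independent modulo the maximal ideal. -/
theorem exists_local_indep [FiniteDimensional K K'] (hK : IsFunctionField k K)
    {Q : Place k K'} {P : Place k K} (h : IsOver Q P) :
    ∃ c : Fin (Q.deg / P.deg) → K', (∀ l, Q.1 (c l) ≤ 1) ∧
      ∀ a : Fin (Q.deg / P.deg) → K, (∀ l, P.1 (a l) ≤ 1) →
        Q.1 (∑ l, algebraMap K K' (a l) * c l) < 1 → ∀ l, P.1 (a l) < 1 := by
  classical
  letI alg : Algebra (IsLocalRing.ResidueField P.O) (IsLocalRing.ResidueField Q.O) :=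
    (IsLocalRing.ResidueField.map (overRingHom h)).toAlgebra
  have hdm := deg_mul_finrank_residue h
  have hQpos := deg_pos_weak hK Q
  have hPpos : 0 < P.deg := deg_pos hK P
  have hfr : Module.finrank (IsLocalRing.ResidueField P.O) (IsLocalRing.ResidueField Q.O) =
      Q.deg / P.deg := by
    rw [← hdm, Nat.mul_div_cancel_left _ hPpos]
  have hfrpos : 0 < Module.finrank (IsLocalRing.ResidueField P.O) (IsLocalRing.ResidueField Q.O) := by
    rcases Nat.eq_zero_or_pos (Module.finrank (IsLocalRing.ResidueField P.O)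
      (IsLocalRing.ResidueField Q.O)) with h0 | h0
    · rw [h0, Nat.mul_zero] at hdm; omega
    · exact h0
  haveI : Module.Finite (IsLocalRing.ResidueField P.O) (IsLocalRing.ResidueField Q.O) :=
    Module.finite_of_finrank_pos hfrpos
  let B := Module.finBasisOfFinrankEq (IsLocalRing.ResidueField P.O) (IsLocalRing.ResidueField Q.O) hfr
  choose c' hc' using fun l => IsLocalRing.residue_surjective (B l)
  refine ⟨fun l => (c' l : K'), fun l => (c' l).2, ?_⟩
  intro a ha hsum l
  set a' : Fin (Q.deg / P.deg) → P.O := fun l => ⟨a l, ha l⟩ with ha'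
  have hmem : (∑ l, overRingHom h (a' l) * c' l) ∈ IsLocalRing.maximalIdeal Q.O := by
    refine (Valuation.mem_maximalIdeal_iff (v := Q.1)).mpr ?_
    have : ((∑ l, overRingHom h (a' l) * c' l : Q.O) : K') =
        ∑ l, algebraMap K K' (a l) * (c' l : K') := by
      rw [AddSubmonoidClass.coe_finsetSum]
      rfl
    rw [this]
    exact hsum
  rw [← IsLocalRing.residue_eq_zero_iff, map_sum] at hmem
  have h2 : ∑ l, (IsLocalRing.residue P.O (a' l)) • B l = 0 := by
    rw [← hmem]
    refine Finset.sum_congr rfl fun l _ => ?_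
    rw [map_mul, hc' l, Algebra.smul_def]
    congr 1
  have h3 := Fintype.linearIndependent_iff.mp B.linearIndependent _ h2 l
  rw [IsLocalRing.residue_eq_zero_iff] at h3
  exact (Valuation.mem_maximalIdeal_iff (v := P.1)).mp h3

/-- Independence modulo the uniformizer of `P` of the elements `ϖ ^ j * c l`. -/
theorem local_key {Q : Place k K'} {P : Place k K} {e : ℕ} (he : IsOverWith Q P e) {f : ℕ}
    (ϖ : K') (hϖ : Q.1 ϖ = exp (-1 : ℤ)) (c : Fin f → K') (hc : ∀ l, Q.1 (c l) ≤ 1)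
    (hind : ∀ a : Fin f → K, (∀ l, P.1 (a l) ≤ 1) →
        Q.1 (∑ l, algebraMap K K' (a l) * c l) < 1 → ∀ l, P.1 (a l) < 1)
    (a : Fin e → Fin f → K) (ha : ∀ j l, P.1 (a j l) ≤ 1)
    (hsum : Q.1 (∑ j : Fin e, ∑ l, algebraMap K K' (a j l) * (ϖ ^ (j : ℕ) * c l)) ≤
      exp (-(e : ℤ))) : ∀ j l, P.1 (a j l) < 1 := by
  classical
  suffices H : ∀ n : ℕ, ∀ j : Fin e, (j : ℕ) = n → ∀ l, P.1 (a j l) < 1 from fun j => H j j rfl
  intro n
  induction n using Nat.strong_induction_on with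
  | _ n ih => ?_
  intro j hj
  set F : Fin e → K' := fun j' => ∑ l, algebraMap K K' (a j' l) * (ϖ ^ (j' : ℕ) * c l) with hF
  have hne : n + 1 ≤ e := by have := j.2; omega
  have hexp : exp (-(e : ℤ)) ≤ exp (-((n : ℤ) + 1)) := by rw [exp_le_exp]; omega
  have hϖpow : ∀ m : ℕ, Q.1 (ϖ ^ m) = exp (-(m : ℤ)) := by
    intro m
    rw [map_pow, hϖ, ← exp_nsmul]; congr 1; simp
  have hother : ∀ j' ∈ Finset.univ.erase j, Q.1 (F j') ≤ exp (-((n : ℤ) + 1)) := by
    intro j' hj'
    have hjne : j' ≠ j := Finset.ne_of_mem_erase hj'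
    refine Valuation.map_sum_le _ fun l _ => ?_
    rw [map_mul, map_mul, he, hϖpow]
    rcases lt_or_gt_of_ne (fun h => hjne (Fin.ext h) : (j' : ℕ) ≠ (j : ℕ)) with hlt | hgt
    · have h1 : P.1 (a j' l) < 1 := ih _ (hj ▸ hlt) j' rfl l
      have h2 : P.1 (a j' l) ^ e ≤ exp (-(e : ℤ)) :=
        zm0_pow_le_exp_neg ((zm0_lt_one_iff _).mp h1) e
      calc P.1 (a j' l) ^ e * (exp (-((j' : ℕ) : ℤ)) * Q.1 (c l))
          ≤ exp (-(e : ℤ)) * (1 * 1) := by
            refine mul_le_mul' h2 (mul_le_mul' ?_ (hc l))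
            rw [← exp_zero, exp_le_exp]; omega
        _ ≤ exp (-((n : ℤ) + 1)) := by rw [mul_one, mul_one]; exact hexp
    · calc P.1 (a j' l) ^ e * (exp (-((j' : ℕ) : ℤ)) * Q.1 (c l))
          ≤ 1 * (exp (-((n : ℤ) + 1)) * 1) := by
            refine mul_le_mul' (pow_le_one' (ha j' l) e) (mul_le_mul' ?_ (hc l))
            rw [exp_le_exp]; omega
        _ = exp (-((n : ℤ) + 1)) := by rw [mul_one, one_mul]
  have hFj : Q.1 (F j) ≤ exp (-((n : ℤ) + 1)) := by
    have h1 : F j = (∑ j', F j') - ∑ j' ∈ Finset.univ.erase j, F j' := by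
      rw [← Finset.add_sum_erase _ _ (Finset.mem_univ j)]; ring
    rw [h1]
    exact Valuation.map_sub_le _ (hsum.trans hexp) (Valuation.map_sum_le _ hother)
  have hFj2 : F j = ϖ ^ n * ∑ l, algebraMap K K' (a j l) * c l := by
    rw [hF, Finset.mul_sum]
    refine Finset.sum_congr rfl fun l _ => ?_
    rw [hj]; ring
  rw [hFj2, map_mul, hϖpow] at hFj
  have h3 : Q.1 (∑ l, algebraMap K K' (a j l) * c l) ≤ exp (-1 : ℤ) := by
    have h4 := mul_le_mul' (le_refl (exp (n : ℤ))) hFj
    rw [← mul_assoc, ← exp_add, ← exp_add] at h4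
    have e1 : (n : ℤ) + -(n : ℤ) = 0 := by ring
    have e2 : (n : ℤ) + -((n : ℤ) + 1) = -1 := by ring
    rw [e1, e2, exp_zero, one_mul] at h4
    exact h4
  exact hind (a j) (ha j) ((zm0_lt_one_iff _).mpr h3)

/-- A valuation which is `≤ 1` on the image of `R` is `≤ 1` on every element integral over `R`. -/
theorem val_le_one_of_isIntegral_ring' {R L Γ : Type*} [CommRing R] [Field L] [Algebra R L]
    [LinearOrderedCommGroupWithZero Γ] (v : Valuation L Γ)
    (h : ∀ y : R, v (algebraMap R L y) ≤ 1) {s : L} (hs : IsIntegral R s) : v s ≤ 1 := by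
  by_contra hlt
  push Not at hlt
  obtain ⟨p, hp, hps⟩ := hs
  have hsum := hp.as_sum
  have h0 : Polynomial.aeval s p = 0 := hps
  rw [hsum, map_add, map_pow, Polynomial.aeval_X, map_sum] at h0
  have hv0 : v s ≠ 0 := (zero_lt_one.trans hlt).ne'
  have hlt' : v (∑ i ∈ Finset.range p.natDegree,
      Polynomial.aeval s (Polynomial.C (p.coeff i) * Polynomial.X ^ i)) < v s ^ p.natDegree := by
    apply Valuation.map_sum_lt v (pow_ne_zero _ hv0)
    intro i hi
    rw [Finset.mem_range] at hi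
    rw [map_mul, map_pow, Polynomial.aeval_X, Polynomial.aeval_C, map_mul, map_pow]
    calc v (algebraMap R L (p.coeff i)) * v s ^ i ≤ 1 * v s ^ i := mul_le_mul' (h _) le_rfl
      _ = v s ^ i := one_mul _
      _ < v s ^ p.natDegree := pow_lt_pow_right₀ hlt hi
  have h1 : s ^ p.natDegree = -∑ i ∈ Finset.range p.natDegree,
      Polynomial.aeval s (Polynomial.C (p.coeff i) * Polynomial.X ^ i) := eq_neg_of_add_eq_zero_left h0
  have h2 : v (s ^ p.natDegree) = v s ^ p.natDegree := map_pow _ _ _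
  rw [h1, Valuation.map_neg] at h2
  exact absurd h2 hlt'.ne

/-- From a family of `[K' : K]` elements of the integral closure, independent modulo the
uniformizer, to finiteness of the integral closure. -/
theorem finite_of_key [FiniteDimensional K K'] (hK : IsFunctionField k K) (P : Place k K)
    [Algebra P.O K'] [IsScalarTower P.O K K']
    (Qs : Finset (Place k K')) (hQs : ∀ Q, Q ∈ Qs ↔ IsOver Q P) {ι : Type*} [Fintype ι]
    (hcard : Fintype.card ι = Module.finrank K K') (b : ι → K')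
    (hb : ∀ i, ∀ Q ∈ Qs, Q.1 (b i) ≤ 1)
    (key : ∀ a : ι → K, (∀ i, P.1 (a i) ≤ 1) →
      (∀ Q ∈ Qs, Q.1 (∑ i, algebraMap K K' (a i) * b i) ≤ exp (-(ramIdx Q P : ℤ))) →
      ∀ i, P.1 (a i) < 1) :
    Module.Finite P.O (integralClosure P.O K') := by
  classical
  -- coefficients of elements integral at all `Q` are integral at `P`
  have cor : ∀ a : ι → K, (∀ Q ∈ Qs, Q.1 (∑ i, algebraMap K K' (a i) * b i) ≤ 1) →
      ∀ i, P.1 (a i) ≤ 1 := by
    intro a haQ
    by_contra hcon
    push Not at hcon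
    obtain ⟨i₁, hi₁⟩ := hcon
    obtain ⟨i₀, -, hi₀⟩ := Finset.exists_max_image Finset.univ (fun i => P.1 (a i)) ⟨i₁, Finset.mem_univ _⟩
    have hi₀1 : 1 < P.1 (a i₀) := hi₁.trans_le (hi₀ i₁ (Finset.mem_univ _))
    have ha0 : a i₀ ≠ 0 := by
      intro h0; rw [h0, map_zero] at hi₀1; exact absurd hi₀1 (by simp)
    have hinv : P.1 (a i₀)⁻¹ ≤ exp (-1 : ℤ) := by
      rw [← zm0_lt_one_iff, map_inv₀]
      exact (inv_lt_one₀ (zero_lt_iff.mpr ((Valuation.ne_zero_iff _).mpr ha0))).mpr hi₀1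
    have h1 := key (fun i => (a i₀)⁻¹ * a i) ?_ ?_ i₀
    · rw [inv_mul_cancel₀ ha0, map_one] at h1
      exact lt_irrefl _ h1
    · intro i
      rw [map_mul, map_inv₀]
      have hpos : 0 < P.1 (a i₀) := zero_lt_iff.mpr ((Valuation.ne_zero_iff _).mpr ha0)
      rw [inv_mul_le_iff₀ hpos, mul_one]
      exact hi₀ i (Finset.mem_univ _)
    · intro Q hQ
      have he := isOver_isOverWith_ramIdx ((hQs Q).mp hQ)
      have h2 : ∑ i, algebraMap K K' ((a i₀)⁻¹ * a i) * b i =
          algebraMap K K' (a i₀)⁻¹ * ∑ i, algebraMap K K' (a i) * b i := by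
        rw [Finset.mul_sum]
        refine Finset.sum_congr rfl fun i _ => ?_
        rw [map_mul]; ring
      rw [h2, map_mul, he]
      calc P.1 (a i₀)⁻¹ ^ ramIdx Q P * Q.1 (∑ i, algebraMap K K' (a i) * b i)
          ≤ exp (-(ramIdx Q P : ℤ)) * 1 := mul_le_mul' (zm0_pow_le_exp_neg hinv _) (haQ Q hQ)
        _ = exp (-(ramIdx Q P : ℤ)) := mul_one _
  -- linear independence
  have hli : LinearIndependent K b := by
    rw [Fintype.linearIndependent_iff]
    intro g hg i₁
    by_contra hne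
    obtain ⟨t, ht⟩ := exists_val_eq_exp P 1
    have h1 := cor (fun i => t * (g i₁)⁻¹ * g i) ?_ i₁
    · rw [mul_assoc, inv_mul_cancel₀ hne, mul_one, ht, ← exp_zero, exp_le_exp] at h1
      omega
    · intro Q _
      have h2 : ∑ i, algebraMap K K' (t * (g i₁)⁻¹ * g i) * b i =
          algebraMap K K' (t * (g i₁)⁻¹) * ∑ i, g i • b i := by
        rw [Finset.mul_sum]
        refine Finset.sum_congr rfl fun i _ => ?_
        rw [map_mul, Algebra.smul_def]; ring
      rw [h2, hg, mul_zero, map_zero]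
      exact zero_le'
  haveI : Nonempty ι := Fintype.card_pos_iff.mp (by rw [hcard]; exact Module.finrank_pos)
  let Bas := basisOfLinearIndependentOfCardEqFinrank hli hcard
  have hBas : ∀ i, Bas i = b i := fun i => by
    simp only [Bas, coe_basisOfLinearIndependentOfCardEqFinrank]
  have hbint : ∀ i, b i ∈ integralClosure P.O K' := fun i =>
    isIntegral_of_forall_isOver hK P fun Q hQ => hb i Q ((hQs Q).mpr hQ)
  have heq : Subalgebra.toSubmodule (integralClosure P.O K') = Submodule.span P.O (Set.range b) := by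
    apply le_antisymm
    · intro z hz
      have hzint : IsIntegral P.O z := hz
      have hzQ : ∀ Q ∈ Qs, Q.1 z ≤ 1 := by
        intro Q hQ
        refine val_le_one_of_isIntegral_ring' Q.1 (fun y => ?_) hzint
        rw [IsScalarTower.algebraMap_apply P.O K K']
        exact (isOver_le_one_iff ((hQs Q).mp hQ) _).mpr y.2
      have hrepr : z = ∑ i, algebraMap K K' (Bas.repr z i) * b i := by
        conv_lhs => rw [← Bas.sum_repr z]
        refine Finset.sum_congr rfl fun i _ => ?_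
        rw [hBas, Algebra.smul_def]
      have hco := cor (fun i => Bas.repr z i) (fun Q hQ => by rw [← hrepr]; exact hzQ Q hQ)
      rw [hrepr]
      refine Submodule.sum_mem _ fun i _ => ?_
      have h3 : algebraMap K K' (Bas.repr z i) * b i = (⟨Bas.repr z i, hco i⟩ : P.O) • b i := by
        rw [Algebra.smul_def, IsScalarTower.algebraMap_apply P.O K K']
        rfl
      rw [h3]
      exact Submodule.smul_mem _ _ (Submodule.subset_span ⟨i, rfl⟩)
    · rw [Submodule.span_le]
      rintro _ ⟨i, rfl⟩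
      exact hbint i
  have hfg : (Subalgebra.toSubmodule (integralClosure P.O K')).FG := by
    rw [heq]
    exact Submodule.fg_span (Set.finite_range b)
  exact Module.Finite.iff_fg.mpr hfg

/-- **The integral closure of `O_P` in a finite extension `K'` of `K` (separable or not) is a
finite `O_P`-module.** -/
theorem integralClosure_finite [FiniteDimensional K K'] (hK : IsFunctionField k K) (P : Place k K)
    [Algebra P.O K'] [IsScalarTower P.O K K'] :
    Module.Finite P.O (integralClosure P.O K') := by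
  classical
  set Qs : Finset (Place k K') := (finite_isOver (K' := K') hK P).toFinset with hQsdef
  have hQs : ∀ Q, Q ∈ Qs ↔ IsOver Q P := fun Q => by
    rw [hQsdef, Set.Finite.mem_toFinset]; rfl
  have hPpos : 0 < P.deg := deg_pos hK P
  have hover : ∀ Q : Qs, IsOver Q.1 P := fun Q => (hQs Q.1).mp Q.2
  choose ϖ hϖ using fun Q : Qs => exists_uniformizer Q.1
  choose c hc hind using fun Q : Qs => exists_local_indep hK (hover Q)
  let ι := Σ Q : Qs, Fin (ramIdx Q.1 P) × Fin (Q.1.deg / P.deg)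
  let tgt : ι → K' := fun i => ϖ i.1 ^ (i.2.1 : ℕ) * c i.1 i.2.2
  have htgt : ∀ i : ι, i.1.1.1 (tgt i) ≤ 1 := by
    intro i
    show i.1.1.1 (ϖ i.1 ^ (i.2.1 : ℕ) * c i.1 i.2.2) ≤ 1
    rw [map_mul, map_pow, hϖ]
    refine mul_le_one' (pow_le_one' ?_ _) (hc i.1 i.2.2)
    rw [← exp_zero, exp_le_exp]; omega
  let x : ι → Place k K' → K' := fun i Q' => if Q' = i.1.1 then tgt i else 0
  choose b hb using fun i : ι => exists_approx Qs (x i) (fun Q' => exp (-(ramIdx Q' P : ℤ)))
    (fun _ _ => exp_ne_zero)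
  have hexple : ∀ Q' : Place k K', exp (-(ramIdx Q' P : ℤ)) ≤ (1 : ℤᵐ⁰) := by
    intro Q'
    rw [← exp_zero, exp_le_exp]; omega
  have hb1 : ∀ i, ∀ Q' ∈ Qs, Q'.1 (b i) ≤ 1 := by
    intro i Q' hQ'
    have h1 := (hb i Q' hQ').le.trans (hexple Q')
    have h2 : Q'.1 (x i Q') ≤ 1 := by
      show Q'.1 (if Q' = i.1.1 then tgt i else 0) ≤ 1
      split_ifs with h
      · rw [h]; exact htgt i
      · rw [map_zero]; exact zero_le'
    have : b i = (b i - x i Q') + x i Q' := by ring
    rw [this]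
    exact Valuation.map_add_le _ h1 h2
  have hcard : Fintype.card ι = Module.finrank K K' := by
    have h1 : Fintype.card ι = ∑ Q : Qs, ramIdx Q.1 P * (Q.1.deg / P.deg) := by
      simp only [ι, Fintype.card_sigma, Fintype.card_prod, Fintype.card_fin]
    have h2 : ∑ Q : Qs, ramIdx Q.1 P * (Q.1.deg / P.deg) =
        ∑ Q ∈ Qs, ramIdx Q P * (Q.deg / P.deg) :=
      Finset.sum_coe_sort Qs (fun Q => ramIdx Q P * (Q.deg / P.deg))
    have h3 := sum_ramIdx_mul_deg hK P Qs hQs
    have h4 : (∑ Q ∈ Qs, ramIdx Q P * (Q.deg / P.deg)) * P.deg = ∑ Q ∈ Qs, ramIdx Q P * Q.deg := by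
      rw [Finset.sum_mul]
      refine Finset.sum_congr rfl fun Q hQ => ?_
      rw [mul_assoc, Nat.div_mul_cancel (deg_dvd_deg ((hQs Q).mp hQ))]
    rw [h1, h2]
    exact Nat.eq_of_mul_eq_mul_right hPpos (h4.trans h3)
  refine finite_of_key hK P Qs hQs hcard b hb1 ?_
  intro a ha hsum i₀
  obtain ⟨Q₀, j₀, l₀⟩ := i₀
  have he := isOver_isOverWith_ramIdx (hover Q₀)
  refine local_key he (ϖ Q₀) (hϖ Q₀) (c Q₀) (hc Q₀) (hind Q₀)
    (fun j l => a ⟨Q₀, j, l⟩) (fun j l => ha _) ?_ j₀ l₀
  have h1 : ∑ j : Fin (ramIdx Q₀.1 P), ∑ l : Fin (Q₀.1.deg / P.deg),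
      algebraMap K K' (a ⟨Q₀, j, l⟩) * (ϖ Q₀ ^ (j : ℕ) * c Q₀ l) =
      ∑ i, algebraMap K K' (a i) * x i Q₀.1 := by
    rw [Fintype.sum_sigma, Finset.sum_eq_single Q₀]
    · rw [Fintype.sum_prod_type]
      refine Finset.sum_congr rfl fun j _ => Finset.sum_congr rfl fun l _ => ?_
      show _ = algebraMap K K' (a ⟨Q₀, j, l⟩) * (if Q₀.1 = Q₀.1 then _ else 0)
      rw [if_pos rfl]
    · intro Q _ hne
      refine Finset.sum_eq_zero fun jl _ => ?_
      show algebraMap K K' (a ⟨Q, jl⟩) * (if Q₀.1 = Q.1 then _ else 0) = 0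
      rw [if_neg (fun h => hne (Subtype.ext h.symm)), mul_zero]
    · intro h; exact absurd (Finset.mem_univ _) h
  rw [h1]
  have h2 : ∑ i, algebraMap K K' (a i) * x i Q₀.1 =
      (∑ i, algebraMap K K' (a i) * b i) - ∑ i, algebraMap K K' (a i) * (b i - x i Q₀.1) := by
    rw [← Finset.sum_sub_distrib]
    refine Finset.sum_congr rfl fun i _ => ?_
    ring
  rw [h2]
  refine Valuation.map_sub_le _ (hsum Q₀.1 Q₀.2) (Valuation.map_sum_le _ fun i _ => ?_)
  rw [map_mul, he]
  calc P.1 (a i) ^ ramIdx Q₀.1 P * Q₀.1.1 (b i - x i Q₀.1)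
      ≤ 1 * exp (-(ramIdx Q₀.1 P : ℤ)) :=
        mul_le_mul' (pow_le_one' (ha i) _) (hb i Q₀.1 Q₀.2).le
    _ = exp (-(ramIdx Q₀.1 P : ℤ)) := one_mul _

end Groth.Agent.Lib.Helper24.FFExt
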