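import Groth.Prelude.Def_W4bk4goldsch23Ext
import Groth.Agent.Lib.Helper18.FF.Exists

/-! # Places in a finite extension of function fields: basic lemmas on `IsOverWith` (helper24) -/

set_option autoImplicit false

namespace Groth.Agent.Lib.Helper24.FFExt

open FunFld WithZero Groth.Agent.Lib.Helper18.FF

variable {k K K' : Type*} [Field k] [Field K] [Field K'] [Algebra k K] [Algebra K K'] [Algebra k K']

theorem isOverWith_pos {Q : Place k K'} {P : Place k K} {e : ℕ} (h : IsOverWith Q P e) : 0 < e := by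
  rcases Nat.eq_zero_or_pos e with rfl | h0
  · have := h 0
    simp at this
  · exact h0

theorem isOverWith_val_of_val_eq_exp {Q : Place k K'} {P : Place k K} {e : ℕ} (h : IsOverWith Q P e)
    {x : K} {n : ℤ} (hx : P.1 x = exp n) : Q.1 (algebraMap K K' x) = exp ((e : ℤ) * n) := by
  rw [h x, hx, ← exp_nsmul, nsmul_eq_mul]

theorem isOverWith_eq {Q : Place k K'} {P : Place k K} {e e' : ℕ} (h : IsOverWith Q P e)
    (h' : IsOverWith Q P e') : e = e' := by
  obtain ⟨t, ht⟩ := exists_uniformizer P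
  have h1 := isOverWith_val_of_val_eq_exp h ht
  have h2 := isOverWith_val_of_val_eq_exp h' ht
  rw [h1, exp_inj] at h2
  omega

theorem isOverWith_isOver {Q : Place k K'} {P : Place k K} {e : ℕ} (h : IsOverWith Q P e) : IsOver Q P :=
  ⟨e, h⟩

theorem isOverWith_ramIdx_eq {Q : Place k K'} {P : Place k K} {e : ℕ} (h : IsOverWith Q P e) :
    ramIdx Q P = e := by
  classical
  unfold ramIdx
  rw [dif_pos (isOverWith_isOver h)]
  exact isOverWith_eq (Nat.find_spec (isOverWith_isOver h)) h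

theorem isOver_isOverWith_ramIdx {Q : Place k K'} {P : Place k K} (h : IsOver Q P) :
    IsOverWith Q P (ramIdx Q P) := by
  obtain ⟨e, he⟩ := h
  rw [isOverWith_ramIdx_eq he]
  exact he

theorem ramIdx_of_not_isOver {Q : Place k K'} {P : Place k K} (h : ¬ IsOver Q P) : ramIdx Q P = 0 := by
  classical
  unfold ramIdx
  rw [dif_neg h]

theorem isOver_ramIdx_pos {Q : Place k K'} {P : Place k K} (h : IsOver Q P) : 0 < ramIdx Q P :=
  isOverWith_pos (isOver_isOverWith_ramIdx h)

theorem isOverWith_le_one_iff {Q : Place k K'} {P : Place k K} {e : ℕ} (h : IsOverWith Q P e) (x : K) :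
    Q.1 (algebraMap K K' x) ≤ 1 ↔ P.1 x ≤ 1 := by
  rw [h x]
  exact pow_le_one_iff_of_nonneg zero_le (isOverWith_pos h).ne'

theorem isOverWith_lt_one_iff {Q : Place k K'} {P : Place k K} {e : ℕ} (h : IsOverWith Q P e) (x : K) :
    Q.1 (algebraMap K K' x) < 1 ↔ P.1 x < 1 := by
  rw [h x]
  exact pow_lt_one_iff_of_nonneg zero_le (isOverWith_pos h).ne'

theorem isOver_le_one_iff {Q : Place k K'} {P : Place k K} (h : IsOver Q P) (x : K) :
    Q.1 (algebraMap K K' x) ≤ 1 ↔ P.1 x ≤ 1 := isOverWith_le_one_iff (isOver_isOverWith_ramIdx h) x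

theorem isOver_lt_one_iff {Q : Place k K'} {P : Place k K} (h : IsOver Q P) (x : K) :
    Q.1 (algebraMap K K' x) < 1 ↔ P.1 x < 1 := isOverWith_lt_one_iff (isOver_isOverWith_ramIdx h) x

theorem isOverWith_ord_eq {Q : Place k K'} {P : Place k K} {e : ℕ} (h : IsOverWith Q P e) (x : K) :
    Q.ord (algebraMap K K' x) = (e : ℤ) * P.ord x := by
  unfold Place.ord
  rw [h x, log_pow, nsmul_eq_mul]
  ring

/-- Two places of `K` with the same valuation ring are equal. -/
theorem place_eq_of_le_one_iff {P P' : Place k K} (h : ∀ x : K, P.1 x ≤ 1 ↔ P'.1 x ≤ 1) : P = P' := by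
  have hlt : ∀ x : K, P.1 x < 1 ↔ P'.1 x < 1 := by
    intro x
    rcases eq_or_ne x 0 with rfl | hx
    · simp
    · have h1 := h x⁻¹
      rw [map_inv₀, map_inv₀] at h1
      have hP : P.1 x ≠ 0 := (Valuation.ne_zero_iff _).mpr hx
      have hP' : P'.1 x ≠ 0 := (Valuation.ne_zero_iff _).mpr hx
      rw [inv_le_one₀ (zero_lt_iff.mpr hP), inv_le_one₀ (zero_lt_iff.mpr hP')] at h1
      rw [← not_le, ← not_le]
      exact not_congr h1
  have hunit : ∀ x : K, P.1 x = 1 ↔ P'.1 x = 1 := by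
    intro x
    constructor
    · intro hx
      refine le_antisymm ((h x).mp hx.le) (not_lt.mp fun hc => ?_)
      exact absurd ((hlt x).mpr hc) (by rw [hx]; exact lt_irrefl _)
    · intro hx
      refine le_antisymm ((h x).mpr hx.le) (not_lt.mp fun hc => ?_)
      exact absurd ((hlt x).mp hc) (by rw [hx]; exact lt_irrefl _)
  obtain ⟨t, ht⟩ := exists_uniformizer P
  obtain ⟨t', ht'⟩ := exists_uniformizer P'
  have ht0 : t ≠ 0 := by rintro rfl; rw [map_zero] at ht; exact exp_ne_zero ht.symm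
  have ht'0 : t' ≠ 0 := by rintro rfl; rw [map_zero] at ht'; exact exp_ne_zero ht'.symm
  -- `P' t = exp (-a)` with `a ≥ 1`, `P t' = exp (-b)` with `b ≥ 1`, and `a * b = 1`.
  have key : ∀ (R R' : Place k K), (∀ x : K, R.1 x = 1 ↔ R'.1 x = 1) → ∀ (s : K), s ≠ 0 →
      R.1 s = exp (-1 : ℤ) → ∀ x : K, x ≠ 0 → R'.1 x = R'.1 s ^ (-(log (R.1 x))) := by
    intro R R' hu s hs0 hs x hx
    have hRx : R.1 x ≠ 0 := (Valuation.ne_zero_iff _).mpr hx
    set m : ℤ := -(log (R.1 x)) with hm
    have h1 : R.1 (x / s ^ m) = 1 := by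
      rw [map_div₀, map_zpow₀, hs, ← exp_zsmul, smul_eq_mul, hm]
      rw [div_eq_one_iff_eq exp_ne_zero]
      simp [exp_log hRx]
    have h2 := (hu _).mp h1
    rw [map_div₀, map_zpow₀, div_eq_one_iff_eq] at h2
    · exact h2
    · exact zpow_ne_zero _ ((Valuation.ne_zero_iff _).mpr hs0)
  have k1 := key P P' hunit t ht0 ht
  have k2 := key P' P (fun x => (hunit x).symm) t' ht'0 ht'
  have hP't : P'.1 t ≠ 0 := (Valuation.ne_zero_iff _).mpr ht0
  have hPt' : P.1 t' ≠ 0 := (Valuation.ne_zero_iff _).mpr ht'0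
  set a : ℤ := log (P'.1 t) with ha
  set b : ℤ := log (P.1 t') with hb
  have ha' : P'.1 t = exp a := (exp_log hP't).symm
  have hb' : P.1 t' = exp b := (exp_log hPt').symm
  have e1 := k1 t' ht'0
  rw [ht', ha', hb', ← exp_zsmul, exp_inj, smul_eq_mul] at e1
  have hab : a * b = 1 := by
    have : (-1 : ℤ) = -b * a := e1
    linarith
  have ha_neg : a < 0 := by
    have : P'.1 t < 1 := (hlt t).mp (by rw [ht]; exact exp_lt_exp.mpr (by norm_num) |>.trans_eq exp_zero)
    rw [ha', ← exp_zero, exp_lt_exp] at this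
    exact this
  have ha1 : a = -1 := by
    rcases Int.eq_one_or_neg_one_of_mul_eq_one hab with h | h
    · omega
    · exact h
  apply Subtype.ext
  apply Valuation.ext
  intro x
  rcases eq_or_ne x 0 with rfl | hx
  · simp
  · rw [k1 x hx, ha', ha1, ← exp_zsmul, smul_eq_mul]
    have hPx : P.1 x ≠ 0 := (Valuation.ne_zero_iff _).mpr hx
    conv_lhs => rw [← exp_log hPx]
    congr 1
    ring

/-- The place below is unique. -/
theorem isOver_unique {Q : Place k K'} {P P' : Place k K} (h : IsOver Q P) (h' : IsOver Q P') : P = P' :=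
  place_eq_of_le_one_iff fun x => (isOver_le_one_iff h x).symm.trans (isOver_le_one_iff h' x)

/-- If `P` and the restriction of `Q` have the same valuation ring, then `Q` lies over `P`. -/
theorem isOver_of_le_one_iff {Q : Place k K'} {P : Place k K}
    (h : ∀ x : K, Q.1 (algebraMap K K' x) ≤ 1 ↔ P.1 x ≤ 1) : IsOver Q P := by
  have hlt : ∀ x : K, Q.1 (algebraMap K K' x) < 1 ↔ P.1 x < 1 := by
    intro x
    rcases eq_or_ne x 0 with rfl | hx
    · simp
    · have h1 := h x⁻¹
      rw [map_inv₀, map_inv₀, map_inv₀] at h1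
      have hP : P.1 x ≠ 0 := (Valuation.ne_zero_iff _).mpr hx
      have hQ : Q.1 (algebraMap K K' x) ≠ 0 :=
        (Valuation.ne_zero_iff _).mpr ((map_ne_zero _).mpr hx)
      rw [inv_le_one₀ (zero_lt_iff.mpr hP), inv_le_one₀ (zero_lt_iff.mpr hQ)] at h1
      rw [← not_le, ← not_le]
      exact not_congr h1
  have hunit : ∀ x : K, P.1 x = 1 → Q.1 (algebraMap K K' x) = 1 := by
    intro x hx
    apply le_antisymm ((h x).mpr hx.le)
    rw [← not_lt, hlt x, hx]
    exact lt_irrefl _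
  obtain ⟨t, ht⟩ := exists_uniformizer P
  have ht0 : t ≠ 0 := by rintro rfl; rw [map_zero] at ht; exact exp_ne_zero ht.symm
  have hQt0 : Q.1 (algebraMap K K' t) ≠ 0 := (Valuation.ne_zero_iff _).mpr ((map_ne_zero _).mpr ht0)
  have hQt : Q.1 (algebraMap K K' t) < 1 := (hlt t).mpr (by
    rw [ht]; exact (exp_lt_exp.mpr (by norm_num)).trans_eq exp_zero)
  set a : ℤ := log (Q.1 (algebraMap K K' t)) with ha
  have ha' : Q.1 (algebraMap K K' t) = exp a := (exp_log hQt0).symm
  have ha_neg : a < 0 := by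
    rw [ha', ← exp_zero, exp_lt_exp] at hQt
    exact hQt
  refine ⟨(-a).toNat, fun x => ?_⟩
  rcases eq_or_ne x 0 with rfl | hx
  · have : (-a).toNat ≠ 0 := by omega
    simp [this]
  · have hPx : P.1 x ≠ 0 := (Valuation.ne_zero_iff _).mpr hx
    set m : ℤ := -(log (P.1 x)) with hm
    have h1 : P.1 (x / t ^ m) = 1 := by
      rw [map_div₀, map_zpow₀, ht, ← exp_zsmul, smul_eq_mul, hm]
      rw [div_eq_one_iff_eq exp_ne_zero]
      simp [exp_log hPx]
    have h2 := hunit _ h1
    rw [map_div₀, map_zpow₀, map_div₀, map_zpow₀, div_eq_one_iff_eq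
      (zpow_ne_zero _ hQt0)] at h2
    rw [h2, ha', ← exp_zsmul, smul_eq_mul]
    conv_rhs => rw [← exp_log hPx, ← exp_nsmul, nsmul_eq_mul]
    congr 1
    rw [hm, Int.toNat_of_nonneg (by omega)]
    ring

end Groth.Agent.Lib.Helper24.FFExt
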