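import Groth.Agent.Lib.Helper24.FFExt.Kaehler
import Groth.Agent.Lib.Helper24.FFExt.Basic
import Groth.Prelude.Def_LocRes
import Groth.Agent.Lib.Helper18.FF.Adele3

/-! # The different exponent read through Laurent expansions (helper24) -/

set_option autoImplicit false

namespace Groth.Agent.Lib.Helper24.FFExt

open FunFld WithZero LocRes LaurentSeries Groth.Agent.Lib.Helper18.FF

universe u v v' w

section Core

variable {k : Type u} {K : Type v} {F : Type w} [Field k] [Field K] [Field F] [Algebra k K]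
  [Algebra k F]

/-- The chain rule through `Ω_{K/k}`: if `dx' = g dx` then `(φ x')' = φ g · (φ x)'`. -/
theorem D_exp_eq_of_D_eq_smul (φ : K →ₐ[k] F⸨X⸩) {x x' g : K}
    (h : KaehlerDifferential.D k K x' = g • KaehlerDifferential.D k K x) :
    LocRes.D F (φ x') = φ g * LocRes.D F (φ x) := by
  letI := φ.toRingHom.toAlgebra
  haveI : IsScalarTower k K F⸨X⸩ := isScalarTower_exp φ
  have h1 := congrArg (dExp φ).liftKaehlerDifferential h
  rw [map_smul, Derivation.liftKaehlerDifferential_comp_D,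
    Derivation.liftKaehlerDifferential_comp_D] at h1
  exact h1

theorem D_exp_eq_zero_of_D_eq_zero (φ : K →ₐ[k] F⸨X⸩) {x : K}
    (h : KaehlerDifferential.D k K x = 0) : LocRes.D F (φ x) = 0 := by
  have := D_exp_eq_of_D_eq_smul φ (x := x) (x' := x) (g := 0) (by rw [zero_smul]; exact h)
  rw [this, map_zero, zero_mul]

theorem vDiff_one (φ : K →ₐ[k] F⸨X⸩) (x : K) : vDiff φ 1 x = Valued.v (LocRes.D F (φ x)) := by
  rw [vDiff, map_one, one_mul]

theorem laurent_val_eq_iff {f : F⸨X⸩} {m : ℤ} :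
    Valued.v f = exp (-m) ↔ (∀ n < m, f.coeff n = 0) ∧ f.coeff m ≠ 0 := by
  constructor
  · intro h
    refine ⟨(LaurentSeries.valuation_le_iff_coeff_lt_eq_zero F).mp h.le, fun hm => ?_⟩
    have h1 : Valued.v f ≤ exp (-(m + 1)) := by
      rw [LaurentSeries.valuation_le_iff_coeff_lt_eq_zero F]
      intro n hn
      rcases (show n < m ∨ n = m by omega) with h' | rfl
      · exact (LaurentSeries.valuation_le_iff_coeff_lt_eq_zero F).mp h.le n h'
      · exact hm
    rw [h, exp_le_exp] at h1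
    omega
  · rintro ⟨h1, h2⟩
    have hle : Valued.v f ≤ exp (-m) := (LaurentSeries.valuation_le_iff_coeff_lt_eq_zero F).mpr h1
    by_contra hne
    have hlt : Valued.v f < exp (-m) := lt_of_le_of_ne hle hne
    apply h2
    rcases eq_or_ne (Valued.v f) 0 with h0 | h0
    · rw [(Valuation.zero_iff _).mp h0]; rfl
    · have h3 : Valued.v f ≤ exp (-(m + 1)) := by
        rw [← exp_log h0] at hlt ⊢
        rw [exp_lt_exp] at hlt
        rw [exp_le_exp]
        omega
      exact (LaurentSeries.valuation_le_iff_coeff_lt_eq_zero F).mp h3 m (by omega)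

/-- The derivative of a series of order `m` with `m ≠ 0` in `F` has order `m - 1`. -/
theorem val_D_eq_of_cast_ne_zero {f : F⸨X⸩} {m : ℤ} (hf : Valued.v f = exp (-m))
    (hm : (m : F) ≠ 0) : Valued.v (LocRes.D F f) = exp (-(m - 1)) := by
  obtain ⟨h1, h2⟩ := laurent_val_eq_iff.mp hf
  rw [laurent_val_eq_iff]
  refine ⟨fun n hn => ?_, ?_⟩
  · rw [D_coeff, h1 (n + 1) (by omega), smul_zero]
  · rw [D_coeff, sub_add_cancel, zsmul_eq_mul]
    exact mul_ne_zero hm h2

/-- The derivative of a series of order `m` with `m = 0` in `F` has order at least `m`. -/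
theorem val_D_le_of_cast_eq_zero {f : F⸨X⸩} {m : ℤ} (hf : Valued.v f = exp (-m))
    (hm : (m : F) = 0) : Valued.v (LocRes.D F f) ≤ exp (-m) := by
  obtain ⟨h1, h2⟩ := laurent_val_eq_iff.mp hf
  rw [LaurentSeries.valuation_le_iff_coeff_lt_eq_zero F]
  intro n hn
  rw [D_coeff]
  rcases (show n + 1 < m ∨ n + 1 = m by omega) with h' | h'
  · rw [h1 _ h', smul_zero]
  · rw [h', zsmul_eq_mul, hm, zero_mul]

/-- The residue of `u dv` vanishes when the expansions of `u` and `v` are power series. -/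
theorem resExp_eq_zero_of_val_le_one (φ : K →ₐ[k] F⸨X⸩) {u v : K}
    (hu : Valued.v (φ u) ≤ 1) (hv : Valued.v (φ v) ≤ 1) : resExp φ u v = 0 := by
  obtain ⟨U, hU⟩ := (LaurentSeries.val_le_one_iff_eq_coe F (φ u)).mp hu
  obtain ⟨V, hV⟩ := (LaurentSeries.val_le_one_iff_eq_coe F (φ v)).mp hv
  rw [resExp, ← hU, ← hV, D_coe, ← PowerSeries.coe_mul, res_apply, PowerSeries.coeff_coe]
  simp

end Core

section Tower

variable {k : Type u} {K : Type v} {K' : Type v'} {F F' : Type w} [Field k] [Field K] [Field K'] [Algebra k K]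
  [Algebra K K'] [Algebra k K'] [IsScalarTower k K K'] [Field F] [Algebra k F] [Field F']
  [Algebra k F']

theorem D_algebraMap_eq_of_D_eq_smul {x x' g : K}
    (h : KaehlerDifferential.D k K x' = g • KaehlerDifferential.D k K x) :
    KaehlerDifferential.D k K' (algebraMap K K' x') =
      algebraMap K K' g • KaehlerDifferential.D k K' (algebraMap K K' x) := by
  have h1 := congrArg (KaehlerDifferential.map k k K K') h
  rw [map_smul, KaehlerDifferential.map_D, KaehlerDifferential.map_D] at h1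
  rw [h1, algebraMap_smul]

/-- If `dx' = g dx` with `g ≠ 0`, the different exponents computed on `dx'` and `dx` agree. -/
theorem diffExp_eq_of_D_eq_smul {P : Place k K} {Q : Place k K'} {e : ℕ} (he : IsOverWith Q P e)
    (φ : K →ₐ[k] F⸨X⸩) (hφ : IsExpansionAt P.1 φ) (ψ : K' →ₐ[k] F'⸨X⸩) (hψ : IsExpansionAt Q.1 ψ)
    {x x' g : K} (h : KaehlerDifferential.D k K x' = g • KaehlerDifferential.D k K x)
    (hg : g ≠ 0) (hx : vDiff φ 1 x ≠ 0) (hx' : vDiff ψ 1 (algebraMap K K' x) ≠ 0) :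
    vDiff φ 1 x' ≠ 0 ∧ vDiff ψ 1 (algebraMap K K' x') ≠ 0 ∧
      diffExp φ ψ e x' = diffExp φ ψ e x := by
  have hPg : P.1 g ≠ 0 := (Valuation.ne_zero_iff _).mpr hg
  have h1 : vDiff φ 1 x' = P.1 g * vDiff φ 1 x := by
    rw [vDiff_one, vDiff_one, D_exp_eq_of_D_eq_smul φ h, map_mul, hφ.1]
  have h2 : vDiff ψ 1 (algebraMap K K' x') = P.1 g ^ e * vDiff ψ 1 (algebraMap K K' x) := by
    rw [vDiff_one, vDiff_one, D_exp_eq_of_D_eq_smul ψ (D_algebraMap_eq_of_D_eq_smul h), map_mul,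
      hψ.1, he g]
  refine ⟨by rw [h1]; exact mul_ne_zero hPg hx, by rw [h2]; exact mul_ne_zero (pow_ne_zero _ hPg) hx',
    ?_⟩
  unfold diffExp ordDiff
  rw [h1, h2, log_mul hPg hx, log_mul (pow_ne_zero _ hPg) hx', log_pow]
  simp only [nsmul_eq_mul]
  ring

/-- **S12571.** The different exponent does not depend on the differential used. -/
theorem diffExp_eq_diffExp' (hK : IsFunctionField k K) (hg : IsGeometric k K)
    {P : Place k K} {Q : Place k K'} {e : ℕ} (he : IsOverWith Q P e)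
    (φ : K →ₐ[k] F⸨X⸩) (hφ : IsExpansionAt P.1 φ) (ψ : K' →ₐ[k] F'⸨X⸩) (hψ : IsExpansionAt Q.1 ψ)
    {x : K} (hx : vDiff φ 1 x ≠ 0) (hx' : vDiff ψ 1 (algebraMap K K' x) ≠ 0)
    {x' : K} (hx2 : vDiff φ 1 x' ≠ 0) :
    vDiff ψ 1 (algebraMap K K' x') ≠ 0 ∧ diffExp φ ψ e x = diffExp φ ψ e x' := by
  have hdim := finrank_kaehler hK hg
  have hDx : KaehlerDifferential.D k K x ≠ 0 := by
    intro h0
    apply hx
    rw [vDiff_one, D_exp_eq_zero_of_D_eq_zero φ h0, map_zero]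
  obtain ⟨g, hg'⟩ := (finrank_eq_one_iff_of_nonzero' _ hDx).mp hdim (KaehlerDifferential.D k K x')
  have hg0 : g ≠ 0 := by
    rintro rfl
    apply hx2
    rw [zero_smul] at hg'
    rw [vDiff_one, D_exp_eq_zero_of_D_eq_zero φ hg'.symm, map_zero]
  have := diffExp_eq_of_D_eq_smul he φ hφ ψ hψ hg'.symm hg0 hx hx'
  exact ⟨this.2.1, this.2.2.symm⟩

theorem diffExp_eq_diffExp (hK : IsFunctionField k K) (hg : IsGeometric k K)
    {P : Place k K} {Q : Place k K'} {e : ℕ} (he : IsOverWith Q P e)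
    (φ : K →ₐ[k] F⸨X⸩) (hφ : IsExpansionAt P.1 φ) (ψ : K' →ₐ[k] F'⸨X⸩) (hψ : IsExpansionAt Q.1 ψ)
    {x : K} (hx : vDiff φ 1 x ≠ 0) (hx' : vDiff ψ 1 (algebraMap K K' x) ≠ 0)
    {x' : K} (hx2 : vDiff φ 1 x' ≠ 0) :
    diffExp φ ψ e x = diffExp φ ψ e x' := by
  have hdim := finrank_kaehler hK hg
  have hDx : KaehlerDifferential.D k K x ≠ 0 := by
    intro h0
    apply hx
    rw [vDiff_one, D_exp_eq_zero_of_D_eq_zero φ h0, map_zero]
  obtain ⟨g, hg'⟩ := (finrank_eq_one_iff_of_nonzero' _ hDx).mp hdim (KaehlerDifferential.D k K x')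
  have hg0 : g ≠ 0 := by
    rintro rfl
    apply hx2
    rw [zero_smul] at hg'
    rw [vDiff_one, D_exp_eq_zero_of_D_eq_zero φ hg'.symm, map_zero]
  exact (diffExp_eq_of_D_eq_smul he φ hφ ψ hψ hg'.symm hg0 hx hx').2.2.symm

/-- **S12570.** `d(Q|P) = e - 1` if `char K ∤ e`, and `d(Q|P) ≥ e` otherwise. -/
theorem diffExp_eq_ramIdx_sub_one_of_not_dvd (hK : IsFunctionField k K) (hg : IsGeometric k K)
    {P : Place k K} {Q : Place k K'} {e : ℕ} (he : IsOverWith Q P e)
    (φ : K →ₐ[k] F⸨X⸩) (hφ : IsExpansionAt P.1 φ) (ψ : K' →ₐ[k] F'⸨X⸩) (hψ : IsExpansionAt Q.1 ψ)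
    {x : K} (hx : vDiff φ 1 x ≠ 0) (hx' : vDiff ψ 1 (algebraMap K K' x) ≠ 0) :
    (¬ (ringChar K ∣ e) → diffExp φ ψ e x = (e : ℤ) - 1) ∧
    (ringChar K ∣ e → (e : ℤ) ≤ diffExp φ ψ e x) := by
  obtain ⟨t, ht⟩ := exists_uniformizer P
  have hφt : Valued.v (φ t) = exp (-(1 : ℤ)) := by rw [hφ.1, ht]
  have h1F : ((1 : ℤ) : F) ≠ 0 := by simp
  have hDφt : Valued.v (LocRes.D F (φ t)) = exp (-((1 : ℤ) - 1)) :=
    val_D_eq_of_cast_ne_zero hφt h1F
  have hvt : vDiff φ 1 t = 1 := by rw [vDiff_one, hDφt]; simp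
  have hvt0 : vDiff φ 1 t ≠ 0 := by rw [hvt]; exact one_ne_zero
  obtain ⟨hvt', heq⟩ := diffExp_eq_diffExp' hK hg he φ hφ ψ hψ hx hx' hvt0
  have hψt : Valued.v (ψ (algebraMap K K' t)) = exp (-(e : ℤ)) := by
    rw [hψ.1, he t, ht, ← exp_nsmul]; simp
  have hordφ : ordDiff φ 1 t = 0 := by rw [ordDiff, hvt, log_one, neg_zero]
  have hdt : diffExp φ ψ e t = ordDiff ψ 1 (algebraMap K K' t) := by
    rw [diffExp, hordφ, mul_zero, sub_zero]
  have hchar : ringChar K = ringChar F' := by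
    rw [← Algebra.ringChar_eq k K, ← Algebra.ringChar_eq k F']
  have hcast : ((e : ℤ) : F') = 0 ↔ ringChar K ∣ e := by
    rw [Int.cast_natCast, hchar, ringChar.spec]
  rw [heq, hdt]
  constructor
  · intro hnd
    have hm : ((e : ℤ) : F') ≠ 0 := fun h0 => hnd (hcast.mp h0)
    have := val_D_eq_of_cast_ne_zero hψt hm
    rw [ordDiff, vDiff_one, this, log_exp]; ring
  · intro hd
    have hm : ((e : ℤ) : F') = 0 := hcast.mpr hd
    have hle := val_D_le_of_cast_eq_zero hψt hm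
    rw [ordDiff, vDiff_one]
    rw [vDiff_one] at hvt'
    have : log (Valued.v (LocRes.D F' (ψ (algebraMap K K' t)))) ≤ -(e : ℤ) := by
      rw [← exp_log hvt'] at hle; exact exp_le_exp.mp hle
    omega

end Tower

section Adele

variable {k : Type u} {K : Type v} [Field k] [Field K] [Algebra k K]

/-- **S12580.** Residues of `u dv` vanish for integral `u, v`, and `Res_P(α_P dv) ≠ 0` for only
finitely many `P`. -/
theorem finite_resExp_adele_ne_zero (hK : IsFunctionField k K)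
    (F : Place k K → Type w) [∀ P, Field (F P)] [∀ P, Algebra k (F P)]
    (φ : ∀ P, K →ₐ[k] LaurentSeries (F P)) (hφ : ∀ P, IsExpansionAt P.1 (φ P)) :
    (∀ (P : Place k K) (u v : K), P.1 u ≤ 1 → P.1 v ≤ 1 → resExp (φ P) u v = 0) ∧
    ∀ (a : Place k K → K), a ∈ adele k K → ∀ v : K,
      {P : Place k K | resExp (φ P) (a P) v ≠ 0}.Finite := by
  have h1 : ∀ (P : Place k K) (u v : K), P.1 u ≤ 1 → P.1 v ≤ 1 → resExp (φ P) u v = 0 := by
    intro P u v hu hv
    apply resExp_eq_zero_of_val_le_one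
    · rw [(hφ P).1]; exact hu
    · rw [(hφ P).1]; exact hv
  refine ⟨h1, fun a ha v => ?_⟩
  have ha' : {P : Place k K | ¬ P.1 (a P) ≤ 1}.Finite := ha
  refine (ha'.union (finite_poles' hK v)).subset ?_
  intro P hP
  by_contra hcon
  rw [Set.mem_union, not_or] at hcon
  exact hP (h1 P _ _ (not_not.mp hcon.1) (not_not.mp hcon.2))

end Adele

end Groth.Agent.Lib.Helper24.FFExt
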