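import Groth.Agent.Lib.Helper24.FFExt.Geometric
import Mathlib.FieldTheory.LinearDisjoint
import Mathlib.FieldTheory.PrimitiveElement
import Mathlib.RingTheory.Polynomial.GaussLemma
import Mathlib.FieldTheory.IsAlgClosed.AlgebraicClosure

/-! # Separable constant field extensions of an algebraically closed subfield (helper24) -/

set_option autoImplicit false

namespace Groth.Agent.Lib.Helper24.FFExt

open FunFld IntermediateField Polynomial

open scoped TensorProduct

universe u v

/-- If `k` is algebraically closed in `K`, an irreducible monic polynomial over `k` stays irreducible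
over `K`. -/
theorem irreducible_map_of_algClosedIn {k : Type u} {K : Type v} [Field k] [Field K] [Algebra k K]
    (hcl : ∀ y : K, IsAlgebraic k y → y ∈ Set.range (algebraMap k K)) {g : k[X]} (hg : g.Monic)
    (hirr : Irreducible g) : Irreducible (g.map (algebraMap k K)) := by
  have hinj : Function.Injective (algebraMap k K) := (algebraMap k K).injective
  have hdeg : (g.map (algebraMap k K)).natDegree = g.natDegree := natDegree_map _
  have hgpos : 0 < g.natDegree := hirr.natDegree_pos
  have hnu : ¬ IsUnit (g.map (algebraMap k K)) := by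
    intro hu
    have := natDegree_eq_zero_of_isUnit hu
    omega
  have hne : g.map (algebraMap k K) ≠ 0 := (hg.map _).ne_zero
  obtain ⟨h, hmonic, hirrh, hdvd⟩ := Polynomial.exists_monic_irreducible_factor _ hnu
  have hlift := integralClosure.mem_lifts_of_monic_of_dvd_map K hg hmonic hdvd
  have hlift' : h ∈ lifts (algebraMap k K) := by
    rw [lifts_iff_coeff_lifts] at hlift ⊢
    intro n
    obtain ⟨c, hc⟩ := hlift n
    have halg : IsAlgebraic k (c : K) := (c.2 : IsIntegral k (c : K)).isAlgebraic
    obtain ⟨c₀, hc₀⟩ := hcl _ halg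
    exact ⟨c₀, hc₀.trans hc⟩
  obtain ⟨h₀, rfl⟩ := hlift'
  have h₀monic : h₀.Monic := monic_of_injective hinj hmonic
  have h₀dvd : h₀ ∣ g := (Polynomial.map_dvd_map' (algebraMap k K)).mp hdvd
  have h₀nu : ¬ IsUnit h₀ := fun hu => hirrh.not_isUnit (hu.map (mapRingHom (algebraMap k K)))
  obtain ⟨q, rfl⟩ := h₀dvd
  have hq : IsUnit q := (hirr.isUnit_or_isUnit rfl).resolve_left h₀nu
  have hass : Associated h₀ (h₀ * q) := associated_mul_unit_right h₀ q hq
  have heq : h₀ = h₀ * q := eq_of_monic_of_associated h₀monic hg hass
  rw [← heq]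
  exact hirrh

/-- If `k` is algebraically closed in `K` and `k'/k` is finite separable, `k' ⊗_k K` is a field. -/
theorem isField_tensor_of_isSeparable {k k' : Type u} {K : Type v} [Field k] [Field k'] [Field K]
    [Algebra k K] [Algebra k k'] [FiniteDimensional k k'] [Algebra.IsSeparable k k']
    (hcl : ∀ y : K, IsAlgebraic k y → y ∈ Set.range (algebraMap k K)) :
    IsField (k' ⊗[k] K) := by
  classical
  let pb := Field.powerBasisOfFiniteOfSeparable k k'
  set β := pb.gen with hβ
  set g := minpoly k β with hg
  have hint : IsIntegral k β := Algebra.IsIntegral.isIntegral β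
  have hgm : g.Monic := minpoly.monic hint
  have hgirr : Irreducible g := minpoly.irreducible hint
  have hgK := irreducible_map_of_algClosedIn hcl hgm hgirr
  let fa : k' →ₐ[k] AlgebraicClosure K := IsAlgClosed.lift
  let A : IntermediateField k (AlgebraicClosure K) := fa.fieldRange
  let e : k' ≃ₐ[k] A := AlgEquiv.ofInjectiveField fa
  have hroot : Polynomial.aeval (fa β) (g.map (algebraMap k K)) = 0 := by
    rw [Polynomial.aeval_map_algebraMap, Polynomial.aeval_algHom_apply, hg, minpoly.aeval, map_zero]
  have hmin : minpoly K (fa β) = g.map (algebraMap k K) :=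
    (minpoly.eq_of_irreducible_of_monic hgK hroot (hgm.map _)).symm
  have hdim : (minpoly K (fa β)).natDegree = pb.dim := by
    rw [hmin, natDegree_map, hg, pb.natDegree_minpoly]
  have hli := linearIndependent_pow (K := K) (fa β)
  have hLD : A.LinearDisjoint K := by
    apply IntermediateField.LinearDisjoint.of_basis_left (pb.basis.map e.toLinearEquiv)
    have hfun : (A.val ∘ (pb.basis.map e.toLinearEquiv)) = fun i : Fin pb.dim => (fa β) ^ (i : ℕ) := by
      funext i
      simp only [Function.comp_apply, Module.Basis.map_apply, PowerBasis.coe_basis]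
      show ((e (β ^ (i : ℕ)) : A) : AlgebraicClosure K) = fa β ^ (i : ℕ)
      rw [map_pow]
      rfl
    rw [hfun]
    exact hdim ▸ hli
  have hF : IsField (A ⊗[k] K) :=
    hLD.isField_of_isAlgebraic (Or.inl (e.isAlgebraic_iff.mp inferInstance))
  exact (Algebra.TensorProduct.congr e (AlgEquiv.refl : K ≃ₐ[k] K)).toMulEquiv.isField hF

/-- Over a perfect ground field every function field of one variable is geometric. -/
theorem isGeometric_of_perfectField {k : Type u} {K : Type v} [Field k] [Field K] [Algebra k K]
    [PerfectField k] (hK : IsFunctionField k K) : IsGeometric k K := by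
  intro k' _ _ hfin
  haveI : Algebra.IsAlgebraic k k' := Algebra.IsAlgebraic.of_finite k k'
  exact isField_tensor_of_isSeparable hK.2

end Groth.Agent.Lib.Helper24.FFExt
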