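import Groth.Agent.Lib.Helper24.FFExt.Geometric
import Mathlib.FieldTheory.SeparablyGenerated
import Mathlib.FieldTheory.IsAlgClosed.AlgebraicClosure

/-! # Separating elements of geometric function fields (helper24) -/

set_option autoImplicit false

namespace Groth.Agent.Lib.Helper24.FFExt

open FunFld IntermediateField Polynomial Groth.Agent.Lib.Helper18.FF

open scoped TensorProduct

universe u v

theorem sum_eq_zero_of_sum_pow_eq_zero {k T ι : Type*} [Field k] [CommRing T] [Algebra k T]
    (hF : IsField T) (p : ℕ) [hp : Fact p.Prime] [CharP k p] (s : Finset ι) (f : ι → T)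
    (h : ∑ i ∈ s, f i ^ p = 0) : ∑ i ∈ s, f i = 0 := by
  haveI : Nontrivial T := hF.nontrivial
  haveI : IsDomain T := hF.isDomain
  haveI : CharP T p := charP_of_injective_algebraMap (algebraMap k T).injective p
  haveI : ExpChar T p := ExpChar.prime hp.out
  rw [← sum_pow_char p] at h
  exact eq_zero_of_pow_eq_zero h

/-- In a geometric extension of characteristic `p`, `p`-th powers of `k`-linearly independent
elements are `k`-linearly independent. -/
theorem linearIndepOn_pow_of_isGeometric {k : Type u} {K : Type v} [Field k] [Field K]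
    [Algebra k K] (hg : IsGeometric k K) (p : ℕ) [hp : Fact p.Prime] [CharP k p] (s : Finset K)
    (hs : LinearIndepOn k id (s : Set K)) : LinearIndepOn k (· ^ p) (s : Set K) := by
  classical
  rw [linearIndepOn_finset_iff]
  intro c hc i hi
  have hroot : ∀ j : K, ∃ d : AlgebraicClosure k, d ^ p = algebraMap k (AlgebraicClosure k) (c j) :=
    fun j => IsAlgClosed.exists_pow_nat_eq _ hp.out.pos
  choose d hd using hroot
  let k' : IntermediateField k (AlgebraicClosure k) := IntermediateField.adjoin k (d '' (s : Set K))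
  haveI : FiniteDimensional k k' := by
    haveI : Finite (d '' (s : Set K)) := (s.finite_toSet.image d).to_subtype
    exact IntermediateField.finiteDimensional_adjoin (fun x _ => Algebra.IsIntegral.isIntegral x)
  have hF : IsField (k' ⊗[k] K) := hg k' inferInstance
  have hmem : ∀ j ∈ s, d j ∈ k' := fun j hj =>
    IntermediateField.subset_adjoin _ _ ⟨j, hj, rfl⟩
  let d' : ↥(s : Set K) → k' := fun j => ⟨d j.1, hmem j.1 j.2⟩
  have hd' : ∀ j : ↥(s : Set K), d' j ^ p = algebraMap k k' (c j.1) := fun j => by
    apply Subtype.ext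
    simp only [SubmonoidClass.coe_pow, d']
    rw [hd]; rfl
  set z : k' ⊗[k] K := ∑ j : ↥(s : Set K), d' j ⊗ₜ[k] (j.1 : K) with hz
  have hz0 : z = 0 := by
    rw [hz]
    have hF' : @IsField (k' ⊗[k] K) CommRing.toCommSemiring.toSemiring :=
      ⟨hF.exists_pair_ne, hF.mul_comm, hF.mul_inv_cancel⟩
    apply sum_eq_zero_of_sum_pow_eq_zero (k := k) (T := k' ⊗[k] K) hF' p
    have : ∀ j : ↥(s : Set K), (d' j ⊗ₜ[k] (j.1 : K)) ^ p = (1 : k') ⊗ₜ[k] (c j.1 • (j.1 : K) ^ p) := by
      intro j
      rw [Algebra.TensorProduct.tmul_pow, hd' j, Algebra.algebraMap_eq_smul_one,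
        TensorProduct.smul_tmul]
    rw [Finset.sum_congr rfl (fun j _ => this j), ← TensorProduct.tmul_sum]
    have h2 : ∑ j : ↥(s : Set K), c j.1 • (j.1 : K) ^ p = ∑ j ∈ s, c j • j ^ p := by
      rw [← Finset.sum_coe_sort s (fun j => c j • j ^ p)]
      rfl
    rw [h2, hc, TensorProduct.tmul_zero]
  have hli : LinearIndependent k' (fun j : ↥(s : Set K) => (1 : k') ⊗ₜ[k] (j.1 : K)) :=
    Module.Flat.linearIndependent_one_tmul (S := k') hs
  have hz' : ∑ j : ↥(s : Set K), d' j • ((1 : k') ⊗ₜ[k] (j.1 : K)) = 0 := by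
    rw [← hz0, hz]
    refine Finset.sum_congr rfl fun j _ => ?_
    rw [TensorProduct.smul_tmul', smul_eq_mul, mul_one]
  have h0 := Fintype.linearIndependent_iff.mp hli d' hz' ⟨i, hi⟩
  have h1 := hd' ⟨i, hi⟩
  rw [h0, zero_pow hp.out.ne_zero] at h1
  exact ((map_eq_zero_iff _ (algebraMap k k').injective).mp h1.symm)

theorem essFiniteType_of_isFunctionField {k : Type u} {K : Type v} [Field k] [Field K]
    [Algebra k K] (hK : IsFunctionField k K) : Algebra.EssFiniteType k K := by
  obtain ⟨x, hx, hfin⟩ := hK.1
  haveI : Algebra.EssFiniteType k k⟮x⟯ :=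
    IntermediateField.essFiniteType_iff.mpr (IntermediateField.fg_adjoin_of_finite (Set.finite_singleton x))
  exact Algebra.EssFiniteType.comp k k⟮x⟯ K

/-- A geometric function field of one variable has a separating element. -/
theorem exists_separating {k : Type u} {K : Type v} [Field k] [Field K] [Algebra k K]
    (hK : IsFunctionField k K) (hg : IsGeometric k K) :
    ∃ t : K, Transcendental k t ∧ FiniteDimensional k⟮t⟯ K ∧ Algebra.IsSeparable k⟮t⟯ K := by
  classical
  obtain ⟨x, hx, hfin⟩ := hK.1
  obtain _ | ⟨p, hp, hpk⟩ := CharP.exists' k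
  · refine ⟨x, hx, hfin, ?_⟩
    haveI : CharZero k⟮x⟯ := charZero_of_injective_algebraMap (algebraMap k k⟮x⟯).injective
    infer_instance
  · haveI := essFiniteType_of_isFunctionField hK
    obtain ⟨s, hs, hsep⟩ :=
      exists_isTranscendenceBasis_and_isSeparable_of_linearIndepOn_pow_of_essFiniteType p hp.out
        (fun s hs => linearIndepOn_pow_of_isGeometric hg p s hs)
    have hx' : IsTranscendenceBasis k (fun _ : PUnit.{v + 1} => x) := by
      rw [isTranscendenceBasis_iff_algebraicIndependent_isAlgebraic]
      refine ⟨algebraicIndependent_unique_type_iff.mpr hx, ?_⟩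
      rw [← IntermediateField.isAlgebraic_adjoin_iff_top]
      have : Set.range (fun _ : PUnit.{v + 1} => x) = {x} := by
        ext y; simp [eq_comm]
      rw [this]
      infer_instance
    have hcard : s.card = 1 := by
      have h1 := hs.cardinalMk_eq hx'
      rw [Cardinal.mk_fintype, Cardinal.mk_fintype, Fintype.card_coe] at h1
      simpa using h1
    obtain ⟨t, rfl⟩ := Finset.card_eq_one.mp hcard
    have ht : Transcendental k t := by
      have := hs.1.transcendental ⟨t, Finset.mem_singleton_self t⟩
      simpa using this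
    have hcoe : ((({t} : Finset K) : Set K)) = {t} := Finset.coe_singleton t
    rw [hcoe] at hsep
    exact ⟨t, ht, finiteDimensional_adjoin_of_transcendental hK ht, hsep⟩

end Groth.Agent.Lib.Helper24.FFExt
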