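import Groth.Agent.Lib.Helper24.FFExt.Weak
import Groth.Agent.Lib.Helper24.FFExt.Fundamental
import Mathlib.RingTheory.AdjoinRoot
import Mathlib.RingTheory.TensorProduct.Maps
import Mathlib.LinearAlgebra.Dimension.Constructions
import Mathlib.RingTheory.Flat.Basic
import Groth.Agent.Lib.Helper18.FF.FiniteExt

/-! # Geometric function fields and constant field extensions (helper24) -/

set_option autoImplicit false

namespace Groth.Agent.Lib.Helper24.FFExt

open FunFld IntermediateField Polynomial Groth.Agent.Lib.Helper18.FF

open scoped TensorProduct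

universe u v

/-- In a geometric extension `K/k`, the field `k` is algebraically closed in `K`. -/
theorem IsGeometric.mem_range_of_isAlgebraic {k : Type u} {K : Type v} [Field k] [Field K]
    [Algebra k K] (hg : IsGeometric k K) {y : K} (hy : IsAlgebraic k y) :
    y ∈ Set.range (algebraMap k K) := by
  classical
  set f := minpoly k y with hf
  have hirr : Irreducible f := minpoly.irreducible hy.isIntegral
  haveI : Fact (Irreducible f) := ⟨hirr⟩
  have hf0 : f ≠ 0 := hirr.ne_zero
  haveI : FiniteDimensional k (AdjoinRoot f) := (AdjoinRoot.powerBasis hf0).finite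
  have hfield : IsField (AdjoinRoot f ⊗[k] K) := hg (AdjoinRoot f) inferInstance
  have hfield' : IsField (K ⊗[k] AdjoinRoot f) :=
    (Algebra.TensorProduct.comm k K (AdjoinRoot f)).toMulEquiv.isField hfield
  let φ : AdjoinRoot f →ₐ[k] K := AdjoinRoot.liftAlgHom f (Algebra.ofId k K) y (by
    show f.eval₂ (algebraMap k K) y = 0
    rw [← aeval_def, hf, minpoly.aeval])
  let μ : K ⊗[k] AdjoinRoot f →ₐ[K] K :=
    Algebra.TensorProduct.productLeftAlgHom (AlgHom.id K K) φ
  have hinj : Function.Injective μ := by
    letI := hfield'.toField
    exact (μ : K ⊗[k] AdjoinRoot f →+* K).injective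
  have h1 : Module.finrank K (K ⊗[k] AdjoinRoot f) ≤ Module.finrank K K :=
    LinearMap.finrank_le_finrank_of_injective (f := μ.toLinearMap) hinj
  rw [Module.finrank_baseChange, Module.finrank_self, (AdjoinRoot.powerBasis hf0).finrank,
    AdjoinRoot.powerBasis_dim] at h1
  have h2 : 0 < f.natDegree := minpoly.natDegree_pos hy.isIntegral
  have h3 : f.natDegree = 1 := by omega
  exact (minpoly.natDegree_eq_one_iff).mp h3

section baseChange

variable {k k' : Type u} {K K' : Type v} [Field k] [Field k'] [Field K] [Field K']
  [Algebra k k'] [Algebra k K] [Algebra K K'] [Algebra k' K'] [Algebra k K']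
  [IsScalarTower k k' K'] [IsScalarTower k K K']

/-- The `k'`-algebra isomorphism `k' ⊗[k] K ≃ K'` from bijectivity of the product map. -/
noncomputable def tensorEquiv
    (h : Function.Bijective (Algebra.TensorProduct.productMap
      (IsScalarTower.toAlgHom k k' K') (IsScalarTower.toAlgHom k K K'))) :
    k' ⊗[k] K ≃ₐ[k'] K' :=
  AlgEquiv.ofBijective
    (Algebra.TensorProduct.productLeftAlgHom (Algebra.ofId k' K') (IsScalarTower.toAlgHom k K K'))
    h

theorem tensorEquiv_tmul
    (h : Function.Bijective (Algebra.TensorProduct.productMap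
      (IsScalarTower.toAlgHom k k' K') (IsScalarTower.toAlgHom k K K'))) (a : k') (b : K) :
    tensorEquiv h (a ⊗ₜ b) = algebraMap k' K' a * algebraMap K K' b := by
  simp [tensorEquiv]

/-- A constant field extension of a geometric extension is geometric. -/
theorem IsGeometric.baseChange [FiniteDimensional k k']
    (h : Function.Bijective (Algebra.TensorProduct.productMap
      (IsScalarTower.toAlgHom k k' K') (IsScalarTower.toAlgHom k K K')))
    (hg : IsGeometric k K) : IsGeometric k' K' := by
  intro k'' _ _ hfin
  letI : Algebra k k'' := ((algebraMap k' k'').comp (algebraMap k k')).toAlgebra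
  haveI : IsScalarTower k k' k'' := IsScalarTower.of_algebraMap_eq fun _ => rfl
  haveI : FiniteDimensional k k'' := Module.Finite.trans k' k''
  have hfield : IsField (k'' ⊗[k] K) := hg k'' inferInstance
  let e1 : k'' ⊗[k'] K' ≃ₐ[k'] k'' ⊗[k'] (k' ⊗[k] K) :=
    Algebra.TensorProduct.congr AlgEquiv.refl (tensorEquiv h).symm
  let e2 : k'' ⊗[k'] (k' ⊗[k] K) ≃ₐ[k'] k'' ⊗[k] K :=
    Algebra.TensorProduct.cancelBaseChange k k' k' k'' K
  exact (e1.trans e2).toMulEquiv.isField hfield

/-- `K'` is finite over `K`. -/
theorem finiteDimensional_of_tensor [FiniteDimensional k k']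
    (h : Function.Bijective (Algebra.TensorProduct.productMap
      (IsScalarTower.toAlgHom k k' K') (IsScalarTower.toAlgHom k K K'))) :
    FiniteDimensional K K' := by
  let μ : K ⊗[k] k' →ₐ[K] K' :=
    Algebra.TensorProduct.productLeftAlgHom (Algebra.ofId K K') (IsScalarTower.toAlgHom k k' K')
  refine Module.Finite.of_surjective μ.toLinearMap ?_
  intro z
  obtain ⟨w, rfl⟩ := h.2 z
  refine ⟨Algebra.TensorProduct.comm k k' K w, ?_⟩
  induction w using TensorProduct.induction_on with
  | zero => simp
  | tmul a b =>
    simp [μ, mul_comm]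
  | add x y hx hy =>
    rw [map_add, map_add, hx, hy, map_add]

/-- Finite-dimensionality over a larger subfield. -/
theorem finiteDimensional_adjoin_of_le {x : K'}
    (hfin : FiniteDimensional (IntermediateField.adjoin k ({x} : Set K')) K') :
    FiniteDimensional (IntermediateField.adjoin k' ({x} : Set K')) K' := by
  have hle : ∀ a : IntermediateField.adjoin k ({x} : Set K'),
      algebraMap (IntermediateField.adjoin k ({x} : Set K')) K' a ∈
        IntermediateField.adjoin k' ({x} : Set K') := by
    intro a
    have h1 : IntermediateField.adjoin k ({x} : Set K') ≤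
        (IntermediateField.adjoin k' ({x} : Set K')).restrictScalars k := by
      rw [IntermediateField.adjoin_le_iff]
      rintro w rfl
      exact IntermediateField.mem_adjoin_simple_self k' w
    exact h1 a.2
  letI : Algebra (IntermediateField.adjoin k ({x} : Set K'))
      (IntermediateField.adjoin k' ({x} : Set K')) :=
    ((algebraMap (IntermediateField.adjoin k ({x} : Set K')) K').codRestrict
      (IntermediateField.adjoin k' ({x} : Set K')) hle).toAlgebra
  haveI : IsScalarTower (IntermediateField.adjoin k ({x} : Set K'))
      (IntermediateField.adjoin k' ({x} : Set K')) K' :=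
    IsScalarTower.of_algebraMap_eq fun _ => rfl
  exact Module.Finite.of_restrictScalars_finite (IntermediateField.adjoin k ({x} : Set K'))
    (IntermediateField.adjoin k' ({x} : Set K')) K'

/-- A constant field extension of a geometric function field is a function field. -/
theorem isFunctionField_baseChange [FiniteDimensional k k']
    (h : Function.Bijective (Algebra.TensorProduct.productMap
      (IsScalarTower.toAlgHom k k' K') (IsScalarTower.toAlgHom k K K')))
    (hK : IsFunctionField k K) (hg : IsGeometric k K) : IsFunctionField k' K' := by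
  haveI := finiteDimensional_of_tensor h
  obtain ⟨⟨x₀, hx₀, hfin₀⟩, -⟩ := hK
  refine ⟨⟨algebraMap K K' x₀, ?_, ?_⟩,
    fun y hy => IsGeometric.mem_range_of_isAlgebraic (IsGeometric.baseChange h hg) hy⟩
  · intro halg
    have h1 : IsAlgebraic k (algebraMap K K' x₀) := halg.restrictScalars k
    exact (transcendental_algebraMap_iff (algebraMap K K').injective).mpr hx₀ h1
  · exact finiteDimensional_adjoin_of_le (finiteDimensional_adjoin_map (K' := K') hfin₀)

end baseChange

section intermediate

variable {k : Type u} {K : Type v} [Field k] [Field K] [Algebra k K]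

/-- An intermediate field of a geometric extension is geometric. -/
theorem IsGeometric.intermediateField (hg : IsGeometric k K) (K₀ : IntermediateField k K) :
    IsGeometric k K₀ := by
  intro k'' _ _ hfin
  have hfield : IsField (k'' ⊗[k] K) := hg k'' hfin
  have hfield' : IsField (K ⊗[k] k'') :=
    (Algebra.TensorProduct.comm k K k'').toMulEquiv.isField hfield
  letI := hfield'.toField
  let ι : K₀ ⊗[k] k'' →ₐ[k] K ⊗[k] k'' := Algebra.TensorProduct.map K₀.val (AlgHom.id k k'')
  have hι : Function.Injective ι :=
    Module.Flat.rTensor_preserves_injective_linearMap (M := k'') K₀.val.toLinearMap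
      Subtype.val_injective
  haveI : IsDomain (K₀ ⊗[k] k'') := Function.Injective.isDomain ι.toRingHom hι
  have h0 := isField_of_isIntegral_of_isField' (R := K₀) (S := K₀ ⊗[k] k'') (Field.toIsField K₀)
  have h1 : IsField (K₀ ⊗[k] k'') := ⟨h0.exists_pair_ne, h0.mul_comm, h0.mul_inv_cancel⟩
  exact (Algebra.TensorProduct.comm k k'' K₀).toMulEquiv.isField h1

/-- An intermediate field of a function field containing a transcendental element is a function
field. -/
theorem isFunctionField_intermediateField (hK : IsFunctionField k K) (K₀ : IntermediateField k K)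
    (h₀ : ∃ x ∈ K₀, Transcendental k x) : IsFunctionField k K₀ := by
  obtain ⟨x, hxK₀, hx⟩ := h₀
  set x₀ : K₀ := ⟨x, hxK₀⟩ with hx₀
  have hx₀t : Transcendental k x₀ :=
    (transcendental_algebraMap_iff (algebraMap K₀ K).injective).mp hx
  refine ⟨⟨x₀, hx₀t, ?_⟩, ?_⟩
  · have hfinK : FiniteDimensional (IntermediateField.adjoin k ({x} : Set K)) K :=
      finiteDimensional_adjoin_of_transcendental hK hx
    have hfinK' : FiniteDimensional (IntermediateField.adjoin k ({algebraMap K₀ K x₀} : Set K)) K :=
      hfinK
    haveI : Module.Finite (IntermediateField.adjoin k ({x₀} : Set K₀)) K :=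
      Module.Finite.of_equiv_equiv (adjoinEquiv (k := k) (K' := K) x₀).symm (RingEquiv.refl K)
        (by
          ext a
          have := RingHom.congr_fun (adjoinEquiv_comm (k := k) (K' := K) x₀)
            ((adjoinEquiv (k := k) (K' := K) x₀).symm a)
          simp only [RingHom.coe_comp, Function.comp_apply, RingEquiv.coe_toRingHom,
            RingEquiv.apply_symm_apply, RingEquiv.refl_apply] at this ⊢
          exact this.symm)
    exact Module.Finite.of_injective
      (IsScalarTower.toAlgHom (IntermediateField.adjoin k ({x₀} : Set K₀)) K₀ K).toLinearMap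
      (algebraMap K₀ K).injective
  · intro y hy
    have hy' : IsAlgebraic k (algebraMap K₀ K y) := hy.algebraMap
    obtain ⟨c, hc⟩ := hK.2 _ hy'
    exact ⟨c, Subtype.ext hc⟩

end intermediate

end Groth.Agent.Lib.Helper24.FFExt
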