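import Groth.Agent.Lib.Helper24.FFExt.Nonsing
import Groth.Agent.Lib.Helper18.FF.Exists
import Mathlib.RingTheory.Valuation.LocalSubring

/-! # The integral closure of `O_P` is the intersection of the valuation rings above `P` (helper24) -/

set_option autoImplicit false

namespace Groth.Agent.Lib.Helper24.FFExt

open FunFld WithZero IntermediateField Polynomial Groth.Agent.Lib.Helper18.FF

section

variable {k K : Type*} [Field k] [Field K] [Algebra k K]

/-- Valuation rings of places are maximal. -/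
theorem place_eq_of_le {P P' : Place k K} (h : ∀ x : K, P.1 x ≤ 1 → P'.1 x ≤ 1) : P = P' := by
  apply place_eq_of_le_one_iff
  intro x
  refine ⟨h x, fun hx' => ?_⟩
  by_contra hx
  push Not at hx
  have hx0 : x ≠ 0 := by rintro rfl; simp at hx
  have hinv : P.1 x⁻¹ ≤ exp (-1 : ℤ) := by
    rw [← zm0_lt_one_iff, map_inv₀]
    exact (inv_lt_one₀ (zero_lt_iff.mpr ((Valuation.ne_zero_iff _).mpr hx0))).mpr hx
  obtain ⟨y, hy⟩ := P'.2.2 (exp (1 : ℤ))
  obtain ⟨m, hm⟩ := zm0_exists_nat_lt_exp (P.1 y)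
  have h1 : P.1 (y * x⁻¹ ^ m) ≤ 1 := by
    rw [map_mul, map_pow]
    calc P.1 y * P.1 x⁻¹ ^ m ≤ exp (m : ℤ) * exp (-(m : ℤ)) :=
          mul_le_mul' hm.le (zm0_pow_le_exp_neg hinv m)
      _ = 1 := by rw [← exp_add, ← exp_zero]; congr 1; ring
  have h2 := h _ h1
  rw [map_mul, map_pow, map_inv₀, hy] at h2
  have h3 : (P'.1 x)⁻¹ ^ m ≥ 1 := by
    apply one_le_pow₀
    rcases eq_or_ne (P'.1 x) 0 with h0 | h0
    · exact absurd ((Valuation.zero_iff _).mp h0) hx0
    · exact (one_le_inv₀ (zero_lt_iff.mpr h0)).mpr hx'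
  have h4 : exp (1 : ℤ) ≤ exp (1 : ℤ) * (P'.1 x)⁻¹ ^ m := le_mul_of_one_le_right' h3
  have h5 : (exp (1 : ℤ) : ℤᵐ⁰) ≤ 1 := h4.trans h2
  rw [← exp_zero, exp_le_exp] at h5
  omega

end

variable {k K K' : Type*} [Field k] [Field K] [Field K'] [Algebra k K] [Algebra K K'] [Algebra k K']
  [IsScalarTower k K K']

/-- **An element integral at all places above `P` is integral over `O_P`.** -/
theorem isIntegral_of_forall_isOver [FiniteDimensional K K'] (hK : IsFunctionField k K)
    (P : Place k K) [Algebra P.O K'] [IsScalarTower P.O K K'] {z : K'}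
    (hz : ∀ Q : Place k K', IsOver Q P → Q.1 z ≤ 1) : IsIntegral P.O z := by
  by_contra hni
  have hzR : z ∉ (integralClosure P.O K').toSubring := hni
  obtain ⟨V, hRV, hzV⟩ := Subring.exists_le_valuationSubring_of_isIntegrallyClosedIn hzR
  have hW' : WeakFF k K' := (IsFunctionField.weakFF hK).of_finite
  have hKc := hW'.isFunctionField_kc
  haveI : IsScalarTower k P.O K' := IsScalarTower.of_algebraMap_eq fun c => by
    rw [IsScalarTower.algebraMap_apply P.O K K', IsScalarTower.algebraMap_apply k K K']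
    rfl
  have hkcV : ∀ c : algebraicClosure k K', algebraMap (algebraicClosure k K') K' c ∈ V := by
    intro c
    apply hRV
    show IsIntegral P.O (c : K')
    have h1 : IsIntegral k (c : K') := (mem_algebraicClosure_iff.mp c.2).isIntegral
    exact h1.tower_top
  have hz0 : z ≠ 0 := fun h0 => hzV (h0 ▸ V.zero_mem)
  have hzinv : V.valuation z⁻¹ < 1 := by
    have h1 : ¬ V.valuation z ≤ 1 := fun hle => hzV ((V.valuation_le_one_iff z).mp hle)
    push Not at h1
    rw [map_inv₀]
    exact (inv_lt_one₀ (zero_lt_iff.mpr ((Valuation.ne_zero_iff _).mpr hz0))).mpr h1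
  obtain ⟨Q', hQ'le, hQ'lt⟩ := exists_place_of_valuationSubring hKc V hkcV (inv_ne_zero hz0) hzinv
  set Q : Place k K' := ofAlg (algebraicClosure k K') Q' with hQ
  have hQz : 1 < Q.1 z := by
    have h1 : Q.1 z⁻¹ < 1 := hQ'lt _ hzinv
    rw [map_inv₀] at h1
    exact (inv_lt_one₀ (zero_lt_iff.mpr ((Valuation.ne_zero_iff _).mpr hz0))).mp h1
  obtain ⟨P', hP'⟩ := exists_isOver hK Q
  have hPP' : P = P' := by
    apply place_eq_of_le
    intro x hx
    rw [← isOver_le_one_iff hP']
    apply hQ'le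
    apply hRV
    have : algebraMap K K' x = algebraMap P.O K' ⟨x, hx⟩ := by
      rw [IsScalarTower.algebraMap_apply P.O K K']; rfl
    rw [this]
    exact Subalgebra.algebraMap_mem (integralClosure P.O K') _
  subst hPP'
  exact absurd (hz Q hP') (not_le.mpr hQz)

end Groth.Agent.Lib.Helper24.FFExt
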