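import Groth.Agent.Lib.Helper24.FFExt.Separating
import Mathlib.RingTheory.Etale.Kaehler
import Mathlib.RingTheory.Etale.Field
import Mathlib.RingTheory.Kaehler.Polynomial

/-! # Kähler differentials of geometric function fields (helper24) -/

set_option autoImplicit false

namespace Groth.Agent.Lib.Helper24.FFExt

open FunFld IntermediateField Polynomial Groth.Agent.Lib.Helper18.FF

open scoped TensorProduct

universe u v

/-- If `t` is a separating element of `K/k` then `dim_K Ω_{K/k} = 1` and `dt ≠ 0`. -/
theorem finrank_kaehler_and_D_ne_zero_of_separating {k : Type u} {K : Type v} [Field k] [Field K]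
    [Algebra k K] {t : K} (ht : Transcendental k t) [Algebra.IsSeparable k⟮t⟯ K] :
    Module.finrank K (KaehlerDifferential k K) = 1 ∧ KaehlerDifferential.D k K t ≠ 0 := by
  letI algPK : Algebra k[X] K := (Polynomial.aeval t : k[X] →ₐ[k] K).toRingHom.toAlgebra
  have hPK : ∀ q : k[X], algebraMap k[X] K q = Polynomial.aeval t q := fun q => rfl
  haveI : IsScalarTower k k[X] K := IsScalarTower.of_algebraMap_eq (fun c => by
    rw [hPK, Polynomial.algebraMap_apply, Polynomial.aeval_C]; rfl)
  let t' : k⟮t⟯ := ⟨t, mem_adjoin_simple_self k t⟩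
  letI algPF : Algebra k[X] k⟮t⟯ := (Polynomial.aeval t' : k[X] →ₐ[k] k⟮t⟯).toRingHom.toAlgebra
  have hPF : ∀ q : k[X], algebraMap k[X] k⟮t⟯ q = Polynomial.aeval t' q := fun q => rfl
  haveI : IsScalarTower k k[X] k⟮t⟯ := IsScalarTower.of_algebraMap_eq (fun c => by
    rw [hPF, Polynomial.algebraMap_apply, Polynomial.aeval_C]; rfl)
  have hcoe : ∀ q : k[X], ((Polynomial.aeval t' q : k⟮t⟯) : K) = Polynomial.aeval t q := fun q => by
    rw [← IntermediateField.algebraMap_apply, ← Polynomial.aeval_algebraMap_apply]
    rfl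
  haveI : IsScalarTower k[X] k⟮t⟯ K := IsScalarTower.of_algebraMap_eq (fun q => by
    rw [hPK, hPF, IntermediateField.algebraMap_apply, hcoe])
  have hinj : Function.Injective (algebraMap k[X] k⟮t⟯) := by
    rw [injective_iff_map_eq_zero]
    intro q hq
    rw [hPF] at hq
    have h2 := congrArg (fun z : k⟮t⟯ => (z : K)) hq
    simp only [hcoe] at h2
    by_contra hne
    exact ht ⟨q, hne, h2⟩
  haveI : FaithfulSMul k[X] k⟮t⟯ := (faithfulSMul_iff_algebraMap_injective _ _).mpr hinj
  haveI : IsFractionRing k[X] k⟮t⟯ := IsFractionRing.of_field _ _ (fun z => by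
    obtain ⟨r, s, hrs⟩ := (IntermediateField.mem_adjoin_simple_iff k z.1).mp z.2
    refine ⟨r, s, Subtype.ext ?_⟩
    rw [hrs, hPF, hPF]
    push_cast
    rw [hcoe, hcoe])
  haveI : Algebra.FormallyEtale k[X] k⟮t⟯ :=
    Algebra.FormallyEtale.of_isLocalization (nonZeroDivisors k[X])
  haveI : Algebra.FormallyEtale k⟮t⟯ K := Algebra.FormallyEtale.of_isSeparable _ _
  haveI : Algebra.FormallyEtale k[X] K := Algebra.FormallyEtale.comp k[X] k⟮t⟯ K
  let e := KaehlerDifferential.tensorKaehlerEquivOfFormallyEtale k k[X] K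
  haveI : Module.Free k[X] (KaehlerDifferential k k[X]) :=
    Module.Free.of_equiv (KaehlerDifferential.polynomialEquiv k).symm
  refine ⟨?_, ?_⟩
  · rw [← e.finrank_eq]
    rw [Module.finrank_baseChange, (KaehlerDifferential.polynomialEquiv k).finrank_eq,
      Module.finrank_self]
  · intro hD
    have h1 : e ((1 : K) ⊗ₜ[k[X]] KaehlerDifferential.D k k[X] Polynomial.X) =
        KaehlerDifferential.D k K t := by
      rw [KaehlerDifferential.tensorKaehlerEquivOfFormallyEtale_apply,
        KaehlerDifferential.mapBaseChange_tmul, one_smul, KaehlerDifferential.map_D, hPK,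
        Polynomial.aeval_X]
    rw [hD] at h1
    have h2 : ((1 : K) ⊗ₜ[k[X]] KaehlerDifferential.D k k[X] Polynomial.X) = 0 :=
      e.injective (h1.trans (map_zero e).symm)
    let f : K ⊗[k[X]] KaehlerDifferential k k[X] →ₗ[k[X]] K :=
      (TensorProduct.rid k[X] K).toLinearMap ∘ₗ
        (LinearMap.lTensor K (KaehlerDifferential.polynomialEquiv k).toLinearMap)
    have h3 : f ((1 : K) ⊗ₜ[k[X]] KaehlerDifferential.D k k[X] Polynomial.X) = 1 := by
      simp [f]
    rw [h2, map_zero] at h3
    exact zero_ne_one h3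

/-- If `t` is a separating element of `K/k` then `dim_K Ω_{K/k} = 1`. -/
theorem finrank_kaehler_of_separating {k : Type u} {K : Type v} [Field k] [Field K] [Algebra k K]
    {t : K} (ht : Transcendental k t) [Algebra.IsSeparable k⟮t⟯ K] :
    Module.finrank K (KaehlerDifferential k K) = 1 :=
  (finrank_kaehler_and_D_ne_zero_of_separating ht).1

/-- If `t` is a separating element of `K/k` then `dt ≠ 0`. -/
theorem D_ne_zero_of_separating {k : Type u} {K : Type v} [Field k] [Field K] [Algebra k K]
    {t : K} (ht : Transcendental k t) [Algebra.IsSeparable k⟮t⟯ K] :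
    KaehlerDifferential.D k K t ≠ 0 :=
  (finrank_kaehler_and_D_ne_zero_of_separating ht).2

/-- If `dim Ω_{K/k} = 1`, `K/k(t)` is finite and `dt ≠ 0`, then `t` is a separating element. -/
theorem isSeparable_of_D_ne_zero {k : Type u} {K : Type v} [Field k] [Field K] [Algebra k K]
    {t : K} [FiniteDimensional k⟮t⟯ K]
    (hdim : Module.finrank K (KaehlerDifferential k K) = 1)
    (hdt : KaehlerDifferential.D k K t ≠ 0) : Algebra.IsSeparable k⟮t⟯ K := by
  haveI : Algebra.FormallyUnramified k⟮t⟯ K := by
    constructor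
    let f := KaehlerDifferential.map k k⟮t⟯ K K
    have hsurj : Function.Surjective f := KaehlerDifferential.map_surjective k k⟮t⟯ K
    have hker : f (KaehlerDifferential.D k K t) = 0 := by
      show KaehlerDifferential.map k k⟮t⟯ K K (KaehlerDifferential.D k K t) = 0
      rw [KaehlerDifferential.map_D]
      exact (KaehlerDifferential.D k⟮t⟯ K).map_algebraMap ⟨t, mem_adjoin_simple_self k t⟩
    have hall := (finrank_eq_one_iff_of_nonzero' _ hdt).mp hdim
    have hzero : ∀ w, f w = 0 := by
      intro w
      obtain ⟨c, rfl⟩ := hall w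
      rw [map_smul, hker, smul_zero]
    refine ⟨fun a b => ?_⟩
    obtain ⟨a', rfl⟩ := hsurj a
    obtain ⟨b', rfl⟩ := hsurj b
    rw [hzero, hzero]
  exact Algebra.FormallyUnramified.isSeparable k⟮t⟯ K

theorem finrank_kaehler {k : Type u} {K : Type v} [Field k] [Field K] [Algebra k K]
    (hK : IsFunctionField k K) (hg : IsGeometric k K) :
    Module.finrank K (KaehlerDifferential k K) = 1 := by
  obtain ⟨t, ht, _, hsep⟩ := exists_separating hK hg
  exact finrank_kaehler_of_separating ht

/-- If `t ∈ K` has `dt ≠ 0` in a geometric function field, then `t` is a separating element. -/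
theorem isSeparable_of_D_ne_zero' {k : Type u} {K : Type v} [Field k] [Field K] [Algebra k K]
    (hK : IsFunctionField k K) (hg : IsGeometric k K) {t : K}
    (hdt : KaehlerDifferential.D k K t ≠ 0) :
    Transcendental k t ∧ FiniteDimensional k⟮t⟯ K ∧ Algebra.IsSeparable k⟮t⟯ K := by
  have ht : Transcendental k t := by
    intro halg
    obtain ⟨c, hc⟩ := hK.2 t halg
    rw [← hc] at hdt
    exact hdt ((KaehlerDifferential.D k K).map_algebraMap c)
  haveI := finiteDimensional_adjoin_of_transcendental hK ht
  exact ⟨ht, inferInstance, isSeparable_of_D_ne_zero (finrank_kaehler hK hg) hdt⟩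

/-- Weakly separable finite extensions of geometric function fields are separable over the
compositum `k'K`. -/
theorem isSeparable_compositum_of_weaklySeparable {k k' : Type u} {K K' : Type v}
    [Field k] [Field k'] [Field K] [Field K']
    [Algebra k k'] [Algebra k K] [Algebra K K'] [Algebra k' K'] [Algebra k K']
    [IsScalarTower k k' K'] [IsScalarTower k K K']
    (hK : IsFunctionField k K) (hg : IsGeometric k K)
    (hK' : IsFunctionField k' K') (hg' : IsGeometric k' K')
    (hw : Function.Injective (KaehlerDifferential.map k k' K K')) :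
    Algebra.IsSeparable (IntermediateField.adjoin K (Set.range (algebraMap k' K'))) K' := by
  obtain ⟨x, hx, hfin, hsep⟩ := exists_separating hK hg
  have hdx : KaehlerDifferential.D k K x ≠ 0 := D_ne_zero_of_separating hx
  have hdx' : KaehlerDifferential.D k' K' (algebraMap K K' x) ≠ 0 := by
    rw [← KaehlerDifferential.map_D k k' K K']
    exact fun h => hdx (hw (h.trans (map_zero _).symm))
  obtain ⟨hx', hfin', hsep'⟩ := isSeparable_of_D_ne_zero' hK' hg' hdx'
  set x' := algebraMap K K' x with hx'def
  set M := IntermediateField.adjoin K (Set.range (algebraMap k' K')) with hM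
  let M' : IntermediateField k' K' := Subfield.toIntermediateField M.toSubfield
    (fun c => IntermediateField.subset_adjoin _ _ ⟨c, rfl⟩)
  have hle : k'⟮x'⟯ ≤ M' := by
    rw [IntermediateField.adjoin_le_iff]
    rintro _ rfl
    exact M.algebraMap_mem x
  let φ : k'⟮x'⟯ →+* M := (algebraMap k'⟮x'⟯ K').codRestrict M (fun z => hle z.2)
  have hφ : (algebraMap M K').comp φ = algebraMap k'⟮x'⟯ K' := by
    ext z; rfl
  constructor
  intro y
  have hy : (minpoly k'⟮x'⟯ y).Separable := Algebra.IsSeparable.isSeparable k'⟮x'⟯ y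
  have hroot : Polynomial.aeval y ((minpoly k'⟮x'⟯ y).map φ) = 0 := by
    rw [Polynomial.aeval_def, Polynomial.eval₂_map, hφ, ← Polynomial.aeval_def, minpoly.aeval]
  exact (hy.map (f := φ)).of_dvd (minpoly.dvd M y hroot)

end Groth.Agent.Lib.Helper24.FFExt
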