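import Groth.Agent.Lib.Helper24.FFExt.Basic
import Mathlib.RingTheory.Polynomial.Basic

/-! # Existence of the place below a place of an algebraic extension (helper24) -/

set_option autoImplicit false

namespace Groth.Agent.Lib.Helper24.FFExt

open FunFld WithZero Groth.Agent.Lib.Helper18.FF

variable {k K K' : Type*} [Field k] [Field K] [Field K'] [Algebra k K] [Algebra K K'] [Algebra k K']

/-- A valuation which is `≤ 1` on `K` is `≤ 1` on every element algebraic over `K`. -/
theorem val_le_one_of_isIntegral {Γ : Type*} [LinearOrderedCommGroupWithZero Γ] (v : Valuation K' Γ)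
    (h : ∀ y : K, v (algebraMap K K' y) ≤ 1) {s : K'} (hs : IsIntegral K s) : v s ≤ 1 := by
  by_contra hlt
  push Not at hlt
  obtain ⟨p, hp, hps⟩ := hs
  have hsum := hp.as_sum
  have h0 : Polynomial.aeval s p = 0 := hps
  rw [hsum, map_add, map_pow, Polynomial.aeval_X, map_sum] at h0
  have hv0 : v s ≠ 0 := (zero_lt_one.trans hlt).ne'
  have hlt' : v (∑ i ∈ Finset.range p.natDegree, Polynomial.aeval s (Polynomial.C (p.coeff i) * Polynomial.X ^ i))
      < v s ^ p.natDegree := by
    apply Valuation.map_sum_lt v (pow_ne_zero _ hv0)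
    intro i hi
    rw [Finset.mem_range] at hi
    rw [map_mul, map_pow, Polynomial.aeval_X, Polynomial.aeval_C, map_mul, map_pow]
    calc v (algebraMap K K' (p.coeff i)) * v s ^ i ≤ 1 * v s ^ i := mul_le_mul' (h _) le_rfl
      _ = v s ^ i := one_mul _
      _ < v s ^ p.natDegree := pow_lt_pow_right₀ hlt hi
  have h1 : s ^ p.natDegree = -∑ i ∈ Finset.range p.natDegree,
      Polynomial.aeval s (Polynomial.C (p.coeff i) * Polynomial.X ^ i) := eq_neg_of_add_eq_zero_left h0
  have h2 : v (s ^ p.natDegree) = v s ^ p.natDegree := map_pow _ _ _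
  rw [h1, Valuation.map_neg] at h2
  exact absurd h2 hlt'.ne

/-- A place of `K'` is nontrivial on `K` when `K'/K` is algebraic. -/
theorem exists_val_lt_one [Algebra.IsAlgebraic K K'] (Q : Place k K') :
    ∃ y : K, y ≠ 0 ∧ Q.1 (algebraMap K K' y) < 1 := by
  by_contra hcon
  push Not at hcon
  have hle : ∀ y : K, Q.1 (algebraMap K K' y) ≤ 1 := by
    intro y
    rcases eq_or_ne y 0 with rfl | hy
    · simp
    · have := hcon y⁻¹ (inv_ne_zero hy)
      rw [map_inv₀, map_inv₀] at this
      have h0 : Q.1 (algebraMap K K' y) ≠ 0 := (Valuation.ne_zero_iff _).mpr ((map_ne_zero _).mpr hy)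
      exact (one_le_inv₀ (zero_lt_iff.mpr h0)).mp this
  obtain ⟨s, hs⟩ := exists_val_eq_exp Q 1
  have := val_le_one_of_isIntegral Q.1 hle (Algebra.IsIntegral.isIntegral (R := K) s)
  rw [hs, ← exp_zero, exp_le_exp] at this
  omega

theorem comap_valuation_lt_one_iff (Q : Place k K') (x : K) :
    (Q.O.comap (algebraMap K K')).valuation x < 1 ↔ Q.1 (algebraMap K K' x) < 1 := by
  rcases eq_or_ne x 0 with rfl | hx
  · simp
  · set A := Q.O.comap (algebraMap K K') with hA
    have h1 : A.valuation x⁻¹ ≤ 1 ↔ Q.1 (algebraMap K K' x⁻¹) ≤ 1 := by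
      rw [A.valuation_le_one_iff, hA, ValuationSubring.mem_comap]
      exact Valuation.mem_valuationSubring_iff _ _
    rw [map_inv₀, map_inv₀, map_inv₀] at h1
    have hA0 : A.valuation x ≠ 0 := (Valuation.ne_zero_iff _).mpr hx
    have hQ0 : Q.1 (algebraMap K K' x) ≠ 0 := (Valuation.ne_zero_iff _).mpr ((map_ne_zero _).mpr hx)
    rw [inv_le_one₀ (zero_lt_iff.mpr hA0), inv_le_one₀ (zero_lt_iff.mpr hQ0)] at h1
    rw [← not_le, ← not_le]
    exact not_congr h1

/-- Below every place of an algebraic extension of a function field lies a place. -/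
theorem exists_isOver [IsScalarTower k K K'] [Algebra.IsAlgebraic K K'] (hK : IsFunctionField k K)
    (Q : Place k K') : ∃ P : Place k K, IsOver Q P := by
  set A := Q.O.comap (algebraMap K K') with hA
  have hkA : ∀ c : k, algebraMap k K c ∈ A := by
    intro c
    rw [hA, ValuationSubring.mem_comap, ← IsScalarTower.algebraMap_apply]
    exact (Valuation.mem_valuationSubring_iff _ _).mpr (Q.2.1 c)
  obtain ⟨y, hy0, hy⟩ := exists_val_lt_one (K := K) Q
  have hyA : A.valuation y < 1 := (comap_valuation_lt_one_iff Q y).mpr hy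
  obtain ⟨P, hP1, hP2⟩ := exists_place_of_valuationSubring hK A hkA hy0 hyA
  refine ⟨P, isOver_of_le_one_iff fun x => ⟨fun hx => hP1 x ?_, fun hx => ?_⟩⟩
  · rw [hA, ValuationSubring.mem_comap]
    exact (Valuation.mem_valuationSubring_iff _ _).mpr hx
  · by_contra hlt
    push Not at hlt
    have hx0 : x ≠ 0 := by
      rintro rfl
      simp at hlt
    have hQ0 : Q.1 (algebraMap K K' x) ≠ 0 := (Valuation.ne_zero_iff _).mpr ((map_ne_zero _).mpr hx0)
    have h1 : Q.1 (algebraMap K K' x⁻¹) < 1 := by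
      rw [map_inv₀, map_inv₀]
      exact (inv_lt_one₀ (zero_lt_iff.mpr hQ0)).mpr hlt
    have h2 := hP2 x⁻¹ ((comap_valuation_lt_one_iff Q x⁻¹).mpr h1)
    rw [map_inv₀] at h2
    have hP0 : P.1 x ≠ 0 := (Valuation.ne_zero_iff _).mpr hx0
    have := (inv_lt_one₀ (zero_lt_iff.mpr hP0)).mp h2
    exact absurd hx (not_le.mpr this)

end Groth.Agent.Lib.Helper24.FFExt
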