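import Groth.Agent.Lib.Helper24.FFExt.SepConst
import Groth.Agent.Lib.Helper24.FFExt.Separating
import Mathlib.RingTheory.AlgebraicIndependent.TranscendenceBasis
import Mathlib.RingTheory.Artinian.Ring
import Mathlib.RingTheory.Unramified.Field
import Mathlib.FieldTheory.PurelyInseparable.Basic

/-! # Finite separable extensions of geometric function fields (helper24) -/

set_option autoImplicit false

namespace Groth.Agent.Lib.Helper24.FFExt

open FunFld IntermediateField Polynomial Groth.Agent.Lib.Helper18.FF

open scoped TensorProduct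

universe u v

theorem injective_of_isField {T S : Type*} [CommRing T] [CommRing S] [Nontrivial S]
    (hF : IsField T) (f : T →+* S) : Function.Injective f := by
  letI := hF.toField
  exact f.injective

theorem trdeg_eq_one {k : Type u} {K : Type v} [Field k] [Field K] [Algebra k K]
    (hK : IsFunctionField k K) : Algebra.trdeg k K = 1 := by
  obtain ⟨x, hx, hfin⟩ := hK.1
  have hx' : IsTranscendenceBasis k (fun _ : PUnit.{v + 1} => x) := by
    rw [isTranscendenceBasis_iff_algebraicIndependent_isAlgebraic]
    refine ⟨algebraicIndependent_unique_type_iff.mpr hx, ?_⟩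
    rw [← IntermediateField.isAlgebraic_adjoin_iff_top]
    have : Set.range (fun _ : PUnit.{v + 1} => x) = {x} := by
      ext y; simp [eq_comm]
    rw [this]
    infer_instance
  rw [← hx'.cardinalMk_eq_trdeg]
  simp

section

variable {k k' : Type u} {K K' : Type v} [Field k] [Field k'] [Field K] [Field K']
  [Algebra k k'] [Algebra k K] [Algebra K K'] [Algebra k' K'] [Algebra k K']
  [IsScalarTower k k' K'] [IsScalarTower k K K']

/-- The constant field of a finite extension of a function field is algebraic over the constant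
field below. -/
theorem isAlgebraic_const [FiniteDimensional K K'] (hK : IsFunctionField k K)
    (hK' : IsFunctionField k' K') : Algebra.IsAlgebraic k k' := by
  rw [← trdeg_eq_zero_iff]
  have h1 : Algebra.trdeg k K + Algebra.trdeg K K' = Algebra.trdeg k K' :=
    trdeg_add_eq k K (A := K')
  have h2 := lift_trdeg_add_eq k k' K'
  rw [trdeg_eq_one hK, trdeg_eq_zero (R := K) (A := K'), add_zero] at h1
  rw [← h1, trdeg_eq_one hK', Cardinal.lift_one] at h2
  have h3 : Cardinal.lift.{v} (Algebra.trdeg k k') + 1 = 0 + 1 := by rw [h2, zero_add]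
  exact Cardinal.lift_eq_zero.mp (Cardinal.add_one_inj.mp h3)

/-- The constant field of a finite extension of a geometric function field is finite over the
constant field below. -/
theorem finiteDimensional_const [FiniteDimensional K K'] (hK : IsFunctionField k K)
    (hg : IsGeometric k K) (hK' : IsFunctionField k' K') : FiniteDimensional k k' := by
  haveI := isAlgebraic_const (k := k) (k' := k') (K := K) (K' := K') hK hK'
  by_contra hnfd
  obtain ⟨L, hLfin, hLt⟩ :=
    IntermediateField.exists_lt_finrank_of_infinite_dimensional hnfd (Module.finrank K K')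
  have hfield : IsField (L ⊗[k] K) := hg L hLfin
  have hfield' : IsField (K ⊗[k] L) :=
    (Algebra.TensorProduct.comm k K L).toMulEquiv.isField hfield
  let φ : L →ₐ[k] K' := (IsScalarTower.toAlgHom k k' K').comp L.val
  let μ : K ⊗[k] L →ₐ[K] K' :=
    Algebra.TensorProduct.productLeftAlgHom (Algebra.ofId K K') φ
  have hinj : Function.Injective μ :=
    injective_of_isField (T := K ⊗[k] L)
      ⟨hfield'.exists_pair_ne, hfield'.mul_comm, hfield'.mul_inv_cancel⟩ μ.toRingHom
  have h1 : Module.finrank K (K ⊗[k] L) ≤ Module.finrank K K' :=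
    LinearMap.finrank_le_finrank_of_injective (f := μ.toLinearMap) hinj
  rw [Module.finrank_baseChange] at h1
  omega

end

theorem isReduced_tensor_of_isSeparable' {F E M : Type*} [Field F] [Field E] [Algebra F E]
    [FiniteDimensional F E] [Algebra.IsSeparable F E] [Field M] [Algebra F M] :
    IsReduced (M ⊗[F] E) := by
  haveI : Algebra.FormallyUnramified F E := Algebra.FormallyUnramified.of_isSeparable F E
  exact Algebra.FormallyUnramified.isReduced_of_field M (M ⊗[F] E)

/-- The base change of a finite separable field extension to a field is reduced. -/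
theorem isReduced_tensor_of_isSeparable {F E M : Type*} [Field F] [Field E] [Algebra F E]
    [FiniteDimensional F E] [Algebra.IsSeparable F E] [CommRing M] [Algebra F M] (hM : IsField M) :
    IsReduced (M ⊗[F] E) := by
  letI := hM.toField
  exact isReduced_tensor_of_isSeparable' (F := F) (E := E) (M := M)

/-- A ring in which a power of every element lies in the image of a field is local. -/
theorem isLocalRing_of_pow_mem {T S : Type*} [CommRing T] [CommRing S] [Nontrivial T]
    (hS : IsField S) (φ : S →+* T) (h : ∀ z : T, ∃ n : ℕ, 0 < n ∧ z ^ n ∈ φ.range) :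
    IsLocalRing T := by
  apply IsLocalRing.of_isUnit_or_isUnit_one_sub_self
  intro z
  obtain ⟨n, hn, w, hw⟩ := h z
  by_cases hw0 : w = 0
  · right
    have hnil : IsNilpotent z := ⟨n, by rw [← hw, hw0, map_zero]⟩
    exact hnil.isUnit_one_sub
  · left
    obtain ⟨w', hw'⟩ := hS.mul_inv_cancel hw0
    have hu : IsUnit (z ^ n) := by
      rw [← hw]
      exact IsUnit.of_mul_eq_one (φ w') (by rw [← map_mul, hw', map_one])
    exact (isUnit_pow_iff hn.ne').mp hu

/-- In `K' ⊗ k''`, a `q`-power of every element comes from `K' ⊗ M` when `k''/M` is purely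
inseparable. -/
theorem exists_pow_mem_range_map {k' K' k'' : Type*} [Field k'] [Field K'] [Field k'']
    [Algebra k' K'] [Algebra k' k''] (q : ℕ) [ExpChar k' q] (M : IntermediateField k' k'')
    (hM : ∀ a : k'', ∃ n : ℕ, a ^ q ^ n ∈ M) (z : K' ⊗[k'] k'') :
    ∃ n : ℕ, z ^ q ^ n ∈ (Algebra.TensorProduct.map (AlgHom.id K' K') M.val).range := by
  haveI : Nontrivial (K' ⊗[k'] k'') := inferInstance
  haveI : ExpChar (K' ⊗[k'] k'') q :=
    expChar_of_injective_algebraMap (algebraMap k' (K' ⊗[k'] k'')).injective q
  induction z using TensorProduct.induction_on with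
  | zero => exact ⟨0, by simp⟩
  | tmul y a =>
    obtain ⟨n, hn⟩ := hM a
    refine ⟨n, (y ^ q ^ n) ⊗ₜ[k'] (⟨a ^ q ^ n, hn⟩ : M), ?_⟩
    show (Algebra.TensorProduct.map (AlgHom.id K' K') M.val)
        ((y ^ q ^ n) ⊗ₜ[k'] (⟨a ^ q ^ n, hn⟩ : M)) = (y ⊗ₜ[k'] a) ^ q ^ n
    rw [Algebra.TensorProduct.map_tmul, Algebra.TensorProduct.tmul_pow]
    rfl
  | add w₁ w₂ h₁ h₂ =>
    obtain ⟨n₁, hn₁⟩ := h₁
    obtain ⟨n₂, hn₂⟩ := h₂
    refine ⟨n₁ + n₂, ?_⟩
    rw [add_pow_expChar_pow]
    refine Subalgebra.add_mem _ ?_ ?_
    · rw [pow_add, pow_mul]; exact pow_mem hn₁ _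
    · rw [pow_add, mul_comm, pow_mul]; exact pow_mem hn₂ _

section main

variable {k k' : Type u} {K K' : Type v} [Field k] [Field k'] [Field K] [Field K']
  [Algebra k k'] [Algebra k K] [Algebra K K'] [Algebra k' K'] [Algebra k K']
  [IsScalarTower k k' K'] [IsScalarTower k K K']

/-- A finite separable extension of a geometric function field is geometric over its own constant
field. -/
theorem isGeometric_finite_separable [FiniteDimensional K K'] [Algebra.IsSeparable K K']
    (hK : IsFunctionField k K) (hg : IsGeometric k K) (hK' : IsFunctionField k' K') :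
    IsGeometric k' K' := by
  haveI hfin0 : FiniteDimensional k k' := finiteDimensional_const (K := K) (K' := K') hK hg hK'
  intro k'' _ _ hfin
  letI : Algebra k k'' := ((algebraMap k' k'').comp (algebraMap k k')).toAlgebra
  haveI : IsScalarTower k k' k'' := IsScalarTower.of_algebraMap_eq fun _ => rfl
  haveI : FiniteDimensional k k'' := Module.Finite.trans k' k''
  -- reducedness
  have hK2 : IsField (K ⊗[k] k'') :=
    (Algebra.TensorProduct.comm k K k'').toMulEquiv.isField (hg k'' inferInstance)
  have hK2' : @IsField (K ⊗[k] k'') CommRing.toCommSemiring.toSemiring :=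
    ⟨hK2.exists_pair_ne, hK2.mul_comm, hK2.mul_inv_cancel⟩
  haveI hB'' : IsReduced ((K ⊗[k] k'') ⊗[K] K') := isReduced_tensor_of_isSeparable hK2'
  haveI hB' : IsReduced (K' ⊗[K] (K ⊗[k] k'')) :=
    isReduced_of_injective (Algebra.TensorProduct.comm K K' (K ⊗[k] k'')).toRingEquiv.toRingHom
      (Algebra.TensorProduct.comm K K' (K ⊗[k] k'')).injective
  haveI hR' : IsReduced (K' ⊗[k] k'') :=
    isReduced_of_injective
      (Algebra.TensorProduct.cancelBaseChange k K K K' k'').symm.toRingEquiv.toRingHom
      (Algebra.TensorProduct.cancelBaseChange k K K K' k'').symm.injective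
  haveI : IsArtinianRing (K' ⊗[k] k'') := IsArtinianRing.of_finite K' _
  haveI : IsSemisimpleRing (K' ⊗[k] k'') := IsArtinianRing.isSemisimpleRing_of_isReduced _
  let π : K' ⊗[k] k'' →ₐ[K'] K' ⊗[k'] k'' :=
    Algebra.TensorProduct.mapOfCompatibleSMul k' k K' K' k''
  have hπ : Function.Surjective π :=
    Algebra.TensorProduct.mapOfCompatibleSMul_surjective k' k K' K' k''
  haveI : IsSemisimpleRing (K' ⊗[k'] k'') :=
    RingHom.isSemisimpleRing_of_surjective π.toRingHom hπ
  haveI : IsReduced (K' ⊗[k'] k'') := inferInstance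
  haveI : IsArtinianRing (K' ⊗[k'] k'') := IsArtinianRing.of_finite K' _
  -- locality
  obtain ⟨q, hq⟩ := ExpChar.exists k'
  let M := separableClosure k' k''
  have hTs : IsField (M ⊗[k'] K') :=
    isField_tensor_of_isSeparable (k := k') (k' := M) (K := K') hK'.2
  have hTs' : IsField (K' ⊗[k'] M) :=
    (Algebra.TensorProduct.comm k' K' M).toMulEquiv.isField hTs
  have hTs'' : @IsField (K' ⊗[k'] M) CommRing.toCommSemiring.toSemiring :=
    ⟨hTs'.exists_pair_ne, hTs'.mul_comm, hTs'.mul_inv_cancel⟩
  haveI : IsPurelyInseparable M k'' := separableClosure.isPurelyInseparable k' k''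
  haveI : ExpChar M q := expChar_of_injective_algebraMap (algebraMap k' M).injective q
  have hM : ∀ a : k'', ∃ n : ℕ, a ^ q ^ n ∈ M := fun a => by
    obtain ⟨n, y, hy⟩ := IsPurelyInseparable.pow_mem M q a
    exact ⟨n, hy ▸ y.2⟩
  haveI : Nontrivial (K' ⊗[k'] k'') := inferInstance
  haveI : IsLocalRing (K' ⊗[k'] k'') :=
    isLocalRing_of_pow_mem hTs'' (Algebra.TensorProduct.map (AlgHom.id K' K') M.val).toRingHom
      (fun z => by
        obtain ⟨n, hn⟩ := exists_pow_mem_range_map q M hM z
        exact ⟨q ^ n, pow_pos (expChar_pos k' q) n, hn⟩)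
  have hT' : IsField (K' ⊗[k'] k'') := IsArtinianRing.isField_of_isReduced_of_isLocalRing _
  have hT'' : @IsField (K' ⊗[k'] k'') Algebra.TensorProduct.instSemiring :=
    ⟨hT'.exists_pair_ne, hT'.mul_comm, hT'.mul_inv_cancel⟩
  exact (Algebra.TensorProduct.comm k' k'' K').toMulEquiv.isField hT''

end main

end Groth.Agent.Lib.Helper24.FFExt
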