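import Groth.Agent.Lib.Helper24.FFExt.Fundamental

/-! # Places above a place: existence, residue degrees (helper24) -/

set_option autoImplicit false

namespace Groth.Agent.Lib.Helper24.FFExt

open FunFld WithZero IntermediateField Groth.Agent.Lib.Helper18.FF

variable {k K K' : Type*} [Field k] [Field K] [Field K'] [Algebra k K] [Algebra K K'] [Algebra k K']
  [IsScalarTower k K K']

/-- Above every place of `K` lies a place of the finite extension `K'`. -/
theorem exists_place_over [FiniteDimensional K K'] (hK : IsFunctionField k K) (P : Place k K) :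
    ∃ Q : Place k K', IsOver Q P := by
  obtain ⟨x, hx, hxP⟩ := exists_unique_zero hK P
  have hx' : Transcendental k (algebraMap K K' x) :=
    (transcendental_algebraMap_iff (algebraMap K K').injective).mpr hx
  have hfin' := finiteDimensional_adjoin_map (K' := K') (finiteDimensional_adjoin_of_transcendental hK hx)
  have hKc := isFunctionField_kc hx' hfin'
  have hnot : algebraMap K K' x ∉ Set.range (algebraMap (algebraicClosure k K') K') := by
    rintro ⟨c, hc⟩
    apply transcendental_kc hx'
    rw [← hc]
    exact isAlgebraic_algebraMap c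
  obtain ⟨Q', hQ'⟩ := exists_zero hKc hnot
  obtain ⟨P', hP'⟩ := exists_isOver hK (ofKc Q')
  have h1 : P'.1 x < 1 := (isOver_lt_one_iff hP' x).mp hQ'
  rw [(hxP P').mp h1] at hP'
  exact ⟨ofKc Q', hP'⟩

/-- Places of a finite extension of a function field have positive (finite) degree over `k`. -/
theorem deg_pos_weak [FiniteDimensional K K'] (hK : IsFunctionField k K) (Q : Place k K') :
    0 < Q.deg := by
  obtain ⟨x, hx, hfin⟩ := hK.1
  have hx' : Transcendental k (algebraMap K K' x) :=
    (transcendental_algebraMap_iff (algebraMap K K').injective).mpr hx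
  have hfin' := finiteDimensional_adjoin_map (K' := K') hfin
  have hKc := isFunctionField_kc hx' hfin'
  rw [deg_eq_mul_deg_toKc]
  refine Nat.mul_pos ?_ (deg_pos hKc _)
  have h1 := finrank_adjoin_eq_mul (algebraicClosure k K') (transcendental_kc hx')
  have h2 : 0 < Module.finrank (IntermediateField.adjoin k ({algebraMap K K' x} : Set K')) K' :=
    Module.finrank_pos
  rw [h1] at h2
  exact Nat.pos_of_mul_pos_right h2

/-- The ring homomorphism `O_P → O_Q` for `Q` above `P`. -/
def overRingHom {Q : Place k K'} {P : Place k K} (h : IsOver Q P) : P.O →+* Q.O :=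
  ((algebraMap K K').comp P.O.subtype).codRestrict Q.O.toSubring
    (fun x => (isOver_le_one_iff h x.1).mpr x.2)

instance {Q : Place k K'} {P : Place k K} (h : IsOver Q P) : IsLocalHom (overRingHom h) := by
  constructor
  intro x hx
  have h1 : Q.1 (algebraMap K K' x.1) = 1 :=
    (Valuation.integer.integers Q.1).isUnit_iff_valuation_eq_one.mp hx
  have h2 : P.1 x.1 = 1 := by
    have hle := x.2
    have h3 : ¬ Q.1 (algebraMap K K' x.1) < 1 := by rw [h1]; exact lt_irrefl _
    rw [isOver_lt_one_iff h] at h3
    exact le_antisymm hle (not_lt.mp h3)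
  exact (Valuation.integer.integers P.1).isUnit_iff_valuation_eq_one.mpr h2

/-- `deg P ∣ deg Q` for `Q` above `P`. -/
theorem deg_dvd_deg {Q : Place k K'} {P : Place k K} (h : IsOver Q P) : P.deg ∣ Q.deg := by
  unfold Place.deg
  letI : Algebra (IsLocalRing.ResidueField P.O) (IsLocalRing.ResidueField Q.O) :=
    (IsLocalRing.ResidueField.map (overRingHom h)).toAlgebra
  have h1 : IsScalarTower k (IsLocalRing.ResidueField P.O) (IsLocalRing.ResidueField Q.O) := by
    refine IsScalarTower.of_algebraMap_eq fun c => ?_
    show IsLocalRing.residue _ (algebraMap k Q.O c) =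
      IsLocalRing.ResidueField.map (overRingHom h) (IsLocalRing.residue _ (algebraMap k P.O c))
    rw [IsLocalRing.ResidueField.map_residue]
    congr 1
    apply Subtype.ext
    show algebraMap k K' c = algebraMap K K' (algebraMap k K c)
    rw [← IsScalarTower.algebraMap_apply]
  exact ⟨_, (@Module.finrank_mul_finrank k (IsLocalRing.ResidueField P.O)
    (IsLocalRing.ResidueField Q.O) _ _ _ _ _ _ h1 _ _ _ _).symm⟩

theorem deg_le_deg [FiniteDimensional K K'] (hK : IsFunctionField k K) {Q : Place k K'} {P : Place k K}
    (h : IsOver Q P) : P.deg ≤ Q.deg :=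
  Nat.le_of_dvd (deg_pos_weak hK Q) (deg_dvd_deg h)

end Groth.Agent.Lib.Helper24.FFExt
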