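import Groth.Agent.Lib.Helper24.FFExt.DiffMinpoly
import Mathlib.RingTheory.Unramified.Field

/-! # An expansion over `k` forces the coefficient field to be separable over `k` (helper24) -/

set_option autoImplicit false

namespace Groth.Agent.Lib.Helper24.FFExt

open FunFld WithZero LocRes LaurentSeries Polynomial Groth.Agent.Lib.Helper18.FF

universe u v w

section CoeffDer

variable {k : Type u} {F : Type w} [Field k] [Field F] [Algebra k F]

/-- Coefficientwise application of a derivation of `F` to Laurent series. -/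
noncomputable def coeffDer (d : Derivation k F F) (f : F⸨X⸩) : F⸨X⸩ :=
  f.map (d : F →ₗ[k] F)

@[simp] theorem coeffDer_coeff (d : Derivation k F F) (f : F⸨X⸩) (n : ℤ) :
    (coeffDer d f).coeff n = d (f.coeff n) := rfl

theorem coeffDer_add (d : Derivation k F F) (f g : F⸨X⸩) :
    coeffDer d (f + g) = coeffDer d f + coeffDer d g := by
  ext n; simp

theorem coeffDer_smul (d : Derivation k F F) (c : k) (f : F⸨X⸩) :
    coeffDer d (c • f) = c • coeffDer d f := by
  ext n; simp

theorem coeffDer_one (d : Derivation k F F) : coeffDer d (1 : F⸨X⸩) = 0 := by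
  ext n
  rw [coeffDer_coeff, HahnSeries.coeff_one]
  split_ifs <;> simp

theorem support_coeffDer_subset (d : Derivation k F F) (f : F⸨X⸩) :
    (coeffDer d f).support ⊆ f.support := by
  intro n hn
  rw [HahnSeries.mem_support] at hn ⊢
  intro h0
  apply hn
  rw [coeffDer_coeff, h0, map_zero]

theorem coeffDer_mul (d : Derivation k F F) (f g : F⸨X⸩) :
    coeffDer d (f * g) = f * coeffDer d g + g * coeffDer d f := by
  ext n
  rw [coeffDer_coeff, HahnSeries.coeff_add, HahnSeries.coeff_mul,
    HahnSeries.coeff_mul_right' g.isPWO_support (support_coeffDer_subset d g),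
    mul_comm g, HahnSeries.coeff_mul_left' f.isPWO_support (support_coeffDer_subset d f),
    map_sum, ← Finset.sum_add_distrib]
  refine Finset.sum_congr rfl fun ij _ => ?_
  rw [Derivation.leibniz, coeffDer_coeff, coeffDer_coeff, smul_eq_mul, smul_eq_mul]
  ring

/-- The lowest coefficient of a product of Laurent series. -/
theorem coeff_mul_of_val_le {f g : F⸨X⸩} {i j : ℤ} (hf : Valued.v f ≤ exp (-i))
    (hg : Valued.v g ≤ exp (-j)) : (f * g).coeff (i + j) = f.coeff i * g.coeff j := by
  classical
  have hf' := (LaurentSeries.valuation_le_iff_coeff_lt_eq_zero F).mp hf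
  have hg' := (LaurentSeries.valuation_le_iff_coeff_lt_eq_zero F).mp hg
  rw [HahnSeries.coeff_mul]
  rw [Finset.sum_eq_single (i, j)]
  · rintro ⟨a, b⟩ hab hne
    rw [Finset.mem_antidiagonal] at hab
    obtain ⟨ha, hb, hsum⟩ := hab
    simp only at ha hb hsum
    exfalso
    have ha' : i ≤ a := by
      by_contra hlt; push Not at hlt
      exact (HahnSeries.mem_support _ _).mp ha (hf' a hlt)
    have hb' : j ≤ b := by
      by_contra hlt; push Not at hlt
      exact (HahnSeries.mem_support _ _).mp hb (hg' b hlt)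
    apply hne
    have : a = i ∧ b = j := by omega
    rw [this.1, this.2]
  · intro hnot
    rw [Finset.mem_antidiagonal] at hnot
    simp only [HahnSeries.mem_support, not_and] at hnot
    by_cases h1 : f.coeff i = 0
    · rw [h1, zero_mul]
    · by_cases h2 : g.coeff j = 0
      · rw [h2, mul_zero]
      · exact absurd trivial (hnot h1 h2)

end CoeffDer

section Sep

variable {k : Type u} {K : Type v} {F : Type w} [Field k] [Field K] [Field F] [Algebra k K]
  [Algebra k F]

/-- The `k`-derivation `u ↦ d̃(φ u)` of `K` into Laurent series (`d̃` coefficientwise). -/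
noncomputable def coeffDerExp (d : Derivation k F F) (φ : K →ₐ[k] F⸨X⸩) :
    letI := φ.toRingHom.toAlgebra
    Derivation k K F⸨X⸩ :=
  letI := φ.toRingHom.toAlgebra
  { toFun := fun a => coeffDer d (φ a)
    map_add' := fun a b => show coeffDer d (φ (a + b)) = coeffDer d (φ a) + coeffDer d (φ b) by
      rw [map_add, coeffDer_add]
    map_smul' := fun c a => show coeffDer d (φ (c • a)) = c • coeffDer d (φ a) by
      rw [Algebra.smul_def, map_mul, map_algebraMap, HahnSeries.C_mul_eq_smul, algebraMap_smul,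
        coeffDer_smul]
    map_one_eq_zero' := show coeffDer d (φ 1) = 0 by rw [map_one, coeffDer_one]
    leibniz' := fun a b => show coeffDer d (φ (a * b)) =
        φ a * coeffDer d (φ b) + φ b * coeffDer d (φ a) by
      rw [map_mul, coeffDer_mul] }

theorem coeffDer_exp_eq_of_D_eq_smul (d : Derivation k F F) (φ : K →ₐ[k] F⸨X⸩) {x x' g : K}
    (h : KaehlerDifferential.D k K x' = g • KaehlerDifferential.D k K x) :
    coeffDer d (φ x') = φ g * coeffDer d (φ x) := by
  letI := φ.toRingHom.toAlgebra
  haveI : IsScalarTower k K F⸨X⸩ := isScalarTower_exp φ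
  have h1 := congrArg (coeffDerExp d φ).liftKaehlerDifferential h
  rw [map_smul, Derivation.liftKaehlerDifferential_comp_D,
    Derivation.liftKaehlerDifferential_comp_D] at h1
  exact h1

/-- **The coefficient field of an expansion over `k` of a geometric function field is separable
over `k`.** -/
theorem isSeparable_of_isExpansionAt' (hdim : Module.finrank K (Ω[K⁄k]) = 1)
    (P : Place k K) [FiniteDimensional k F] (φ : K →ₐ[k] F⸨X⸩) (hφ : IsExpansionAt P.1 φ) :
    Algebra.IsSeparable k F := by
  classical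
  obtain ⟨t, ht⟩ := exists_uniformizer P
  have hDt1 := val_D_uniformizer φ hφ ht
  have hDt : KaehlerDifferential.D k K t ≠ 0 := by
    intro h0
    rw [D_exp_eq_zero_of_D_eq_zero φ h0, map_zero] at hDt1
    exact zero_ne_one hDt1
  have hex : ∀ a : K, ∃ g : K, KaehlerDifferential.D k K a = g • KaehlerDifferential.D k K t :=
    fun a => by
      obtain ⟨g, hg'⟩ := (finrank_eq_one_iff_of_nonzero' _ hDt).mp hdim (KaehlerDifferential.D k K a)
      exact ⟨g, hg'.symm⟩
  -- every derivation of `F` over `k` vanishes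
  have hder : ∀ d : Derivation k F F, ∀ a : F, d a = 0 := by
    intro d a
    obtain ⟨z, hz1, hza⟩ := hφ.2.1 a
    obtain ⟨g, hg'⟩ := hex z
    have e1 := D_exp_eq_of_D_eq_smul φ hg'
    have e2 := coeffDer_exp_eq_of_D_eq_smul d φ hg'
    -- the key relation
    have key : coeffDer d (φ z) * LocRes.D F (φ t) = coeffDer d (φ t) * LocRes.D F (φ z) := by
      rw [e1, e2]; ring
    -- valuations
    have hφz : Valued.v (φ z) ≤ 1 := by rw [hφ.1]; exact hz1
    have hφt : Valued.v (φ t) = exp (-(1 : ℤ)) := by rw [hφ.1, ht]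
    have hDz : Valued.v (LocRes.D F (φ z)) ≤ 1 := val_D_le_one_of_le_one φ hφ hz1
    have hdt : Valued.v (coeffDer d (φ t)) ≤ exp (-(1 : ℤ)) := by
      rw [LaurentSeries.valuation_le_iff_coeff_lt_eq_zero F]
      intro n hn
      rw [coeffDer_coeff, (LaurentSeries.valuation_le_iff_coeff_lt_eq_zero F).mp hφt.le n hn, map_zero]
    have hrhs : Valued.v (coeffDer d (φ t) * LocRes.D F (φ z)) ≤ exp (-(1 : ℤ)) := by
      rw [map_mul]
      calc Valued.v (coeffDer d (φ t)) * Valued.v (LocRes.D F (φ z))
          ≤ exp (-(1 : ℤ)) * 1 := mul_le_mul' hdt hDz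
        _ = _ := mul_one _
    rw [← key] at hrhs
    -- so `coeffDer d (φ z)` has positive valuation
    have hlhs : Valued.v (coeffDer d (φ z)) ≤ exp (-(1 : ℤ)) := by
      rwa [map_mul, hDt1, mul_one] at hrhs
    have h0 := (LaurentSeries.valuation_le_iff_coeff_lt_eq_zero F).mp hlhs 0 (by norm_num)
    rw [coeffDer_coeff, hza] at h0
    exact h0
  -- hence `Ω[F/k] = 0`
  haveI : Algebra.FormallyUnramified k F := by
    refine ⟨⟨fun x y => ?_⟩⟩
    have hzero : ∀ w : Ω[F⁄k], w = 0 := by
      intro w
      have hspan := KaehlerDifferential.span_range_derivation k F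
      have hw : w ∈ Submodule.span F (Set.range (KaehlerDifferential.D k F)) := by
        rw [hspan]; exact Submodule.mem_top
      induction hw using Submodule.span_induction with
      | mem x hx =>
        obtain ⟨a, rfl⟩ := hx
        rw [← Module.forall_dual_apply_eq_zero_iff F]
        intro l
        have := hder (l.compDer (KaehlerDifferential.D k F)) a
        exact this
      | zero => rfl
      | add x y _ _ hx hy => rw [hx, hy, add_zero]
      | smul c x _ hx => rw [hx, smul_zero]
    rw [hzero x, hzero y]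
  exact Algebra.FormallyUnramified.isSeparable k F

theorem isSeparable_of_isExpansionAt (hK : IsFunctionField k K) (hg : IsGeometric k K)
    (P : Place k K) [FiniteDimensional k F] (φ : K →ₐ[k] F⸨X⸩) (hφ : IsExpansionAt P.1 φ) :
    Algebra.IsSeparable k F :=
  isSeparable_of_isExpansionAt' (finrank_kaehler hK hg) P φ hφ

/-- `dim Ω = 1` passes to separable algebraic extensions. -/
theorem finrank_kaehler_of_isSeparable {L : Type v} [Field L] [Algebra K L] [Algebra k L]
    [IsScalarTower k K L] [Algebra.IsSeparable K L]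
    (hdim : Module.finrank K (Ω[K⁄k]) = 1) : Module.finrank L (Ω[L⁄k]) = 1 := by
  haveI : Algebra.FormallyEtale K L := Algebra.FormallyEtale.of_isSeparable _ _
  let e := KaehlerDifferential.tensorKaehlerEquivOfFormallyEtale k K L
  rw [← e.finrank_eq, Module.finrank_baseChange, hdim]

/-- The constant-coefficient map `O_P → F` of an expansion, as a `k`-algebra homomorphism. -/
noncomputable def constCoeffHom (P : Place k K) (φ : K →ₐ[k] F⸨X⸩) (hφ : IsExpansionAt P.1 φ) :
    P.O →ₐ[k] F where
  toFun z := (φ z.1).coeff 0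
  map_one' := by
    show (φ (1 : K)).coeff 0 = 1
    rw [map_one, HahnSeries.coeff_one, if_pos rfl]
  map_mul' a b := by
    show (φ (a.1 * b.1)).coeff 0 = (φ a.1).coeff 0 * (φ b.1).coeff 0
    have ha : Valued.v (φ a.1) ≤ exp (-(0 : ℤ)) := by rw [hφ.1, neg_zero, exp_zero]; exact a.2
    have hb : Valued.v (φ b.1) ≤ exp (-(0 : ℤ)) := by rw [hφ.1, neg_zero, exp_zero]; exact b.2
    rw [map_mul, ← coeff_mul_of_val_le ha hb, add_zero]
  map_zero' := by
    show (φ (0 : K)).coeff 0 = 0
    rw [map_zero, HahnSeries.coeff_zero]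
  map_add' a b := by
    show (φ (a.1 + b.1)).coeff 0 = (φ a.1).coeff 0 + (φ b.1).coeff 0
    rw [map_add, HahnSeries.coeff_add]
  commutes' c := by
    show (φ (algebraMap k K c)).coeff 0 = algebraMap k F c
    rw [map_algebraMap, HahnSeries.C_apply, HahnSeries.coeff_single_same]

theorem constCoeffHom_eq_zero_iff (P : Place k K) (φ : K →ₐ[k] F⸨X⸩) (hφ : IsExpansionAt P.1 φ)
    (z : P.O) : constCoeffHom P φ hφ z = 0 ↔ P.1 z.1 < 1 := by
  show (φ z.1).coeff 0 = 0 ↔ _
  rw [zm0_lt_one_iff, ← hφ.1, LaurentSeries.valuation_le_iff_coeff_lt_eq_zero F]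
  have hz : Valued.v (φ z.1) ≤ exp (-(0 : ℤ)) := by rw [hφ.1, neg_zero, exp_zero]; exact z.2
  have hz' := (LaurentSeries.valuation_le_iff_coeff_lt_eq_zero F).mp hz
  constructor
  · intro h0 n hn
    rcases (show n < 0 ∨ n = 0 by omega) with h | rfl
    · exact hz' n h
    · exact h0
  · intro h
    exact h 0 (by norm_num)

/-- **The residue field of a place admitting an expansion over `k` is separable over `k`.** -/
theorem isSeparable_residueField_of_isExpansionAt (hdim : Module.finrank K (Ω[K⁄k]) = 1)
    (P : Place k K) [hfin : FiniteDimensional k (IsLocalRing.ResidueField P.O)]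
    (φ : K →ₐ[k] F⸨X⸩) (hφ : IsExpansionAt P.1 φ) :
    Algebra.IsSeparable k (IsLocalRing.ResidueField P.O) := by
  set f := constCoeffHom P φ hφ with hf
  have hker : ∀ a ∈ IsLocalRing.maximalIdeal P.O, f.toRingHom a = 0 := by
    intro a ha
    exact (constCoeffHom_eq_zero_iff P φ hφ a).mpr ((Valuation.mem_maximalIdeal_iff (v := P.1)).mp ha)
  let g₀ : IsLocalRing.ResidueField P.O →+* F :=
    Ideal.Quotient.lift (IsLocalRing.maximalIdeal P.O) f.toRingHom hker
  have hg₀ : ∀ a : P.O, g₀ (IsLocalRing.residue P.O a) = f a := fun a => rfl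
  let g : IsLocalRing.ResidueField P.O →ₐ[k] F :=
    { g₀ with
      commutes' := fun c => by
        show g₀ (IsLocalRing.residue P.O (algebraMap k P.O c)) = _
        rw [hg₀]; exact f.commutes c }
  have hsurj : Function.Surjective g := by
    intro a
    obtain ⟨z, hz1, hza⟩ := hφ.2.1 a
    exact ⟨IsLocalRing.residue P.O ⟨z, hz1⟩, hza⟩
  haveI : FiniteDimensional k F := Module.Finite.of_surjective (hM := hfin) g.toLinearMap hsurj
  haveI : Algebra.IsSeparable k F := isSeparable_of_isExpansionAt' hdim P φ hφ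
  exact Algebra.IsSeparable.of_algHom k F g

end Sep

section Res

variable {k : Type u} {K : Type v} {F : Type w} [Field k] [Field K] [Field F] [Algebra k K]
  [Algebra k F]

/-- **S12590.** A local residue `Res_P(y dx)` is nonzero for some `y`. -/
theorem exists_locRes_ne_zero (hK : IsFunctionField k K) (hg : IsGeometric k K)
    (P : Place k K) [FiniteDimensional k F] (φ : K →ₐ[k] F⸨X⸩) (hφ : IsExpansionAt P.1 φ)
    {x : K} (hx : KaehlerDifferential.D k K x ≠ 0) : ∃ y : K, locRes φ y x ≠ 0 := by
  classical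
  haveI hsep : Algebra.IsSeparable k F := isSeparable_of_isExpansionAt hK hg P φ hφ
  obtain ⟨r, hr⟩ := Algebra.trace_surjective k F 1
  -- `D (φ x) ≠ 0`
  obtain ⟨t, ht⟩ := exists_uniformizer P
  have hDt1 := val_D_uniformizer φ hφ ht
  have hdim := finrank_kaehler hK hg
  have hW0 : LocRes.D F (φ x) ≠ 0 := by
    intro h0
    obtain ⟨g, hg'⟩ := (finrank_eq_one_iff_of_nonzero' _ hx).mp hdim (KaehlerDifferential.D k K t)
    have := D_exp_eq_of_D_eq_smul φ hg'.symm
    rw [h0, mul_zero] at this
    rw [this, map_zero] at hDt1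
    exact zero_ne_one hDt1
  set W := LocRes.D F (φ x) with hW
  have hvW0 : Valued.v W ≠ 0 := (Valuation.ne_zero_iff _).mpr hW0
  obtain ⟨m, hm⟩ : ∃ m : ℤ, Valued.v W = exp (-m) :=
    ⟨-(log (Valued.v W)), by rw [neg_neg, exp_log hvW0]⟩
  obtain ⟨s, hs⟩ := exists_val_eq_exp P (-(m + 1))
  have hs0 : s ≠ 0 := by
    rintro rfl; rw [map_zero] at hs; exact exp_ne_zero hs.symm
  have hφs0 : φ s ≠ 0 := (_root_.map_ne_zero _).mpr hs0
  set G := W / φ s with hG
  have hvG : Valued.v G = exp (-(-1 : ℤ)) := by
    rw [hG, map_div₀, hm, hφ.1, hs, ← exp_sub]; congr 1; ring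
  obtain ⟨hGlow, hGne⟩ := laurent_val_eq_iff.mp hvG
  obtain ⟨z, hz1, hza⟩ := hφ.2.1 (r / G.coeff (-1))
  have hφz : Valued.v (φ z) ≤ exp (-(0 : ℤ)) := by rw [hφ.1, neg_zero, exp_zero]; exact hz1
  refine ⟨z / s, ?_⟩
  have hres : resExp φ (z / s) x = r := by
    have h1 : φ (z / s) * W = φ z * G := by
      rw [map_div₀, hG]; field_simp
    have h2 := coeff_mul_of_val_le hφz hvG.le
    rw [resExp, res_apply, ← hW, h1]
    have h3 : (0 : ℤ) + -1 = -1 := by norm_num
    rw [h3] at h2
    rw [h2, hza, div_mul_cancel₀ _ hGne]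
  rw [locRes, hres, hr]
  exact one_ne_zero

end Res

end Groth.Agent.Lib.Helper24.FFExt
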