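import Groth.Agent.Lib.Helper18.FF.Rational
import Groth.Agent.Lib.Helper18.FF.RiemannRoch
import Groth.Agent.Lib.Helper18.FF.Degree3

/-! # Uniqueness of a rational subfield of index two in genus at least two -/

set_option autoImplicit false
set_option linter.style.haveILetI false

namespace Groth.Agent.Lib.Helper24.FFExt

open FunFld WithZero IntermediateField Groth.Agent.Lib.Helper18.FF

variable {k : Type*} {K : Type*} [Field k] [Field K] [Algebra k K]

theorem transcendental_of_finrank_adjoin_pos (hK : IsFunctionField k K) {x : K}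
    (h : 0 < Module.finrank k⟮x⟯ K) : Transcendental k x := by
  intro halg
  obtain ⟨t, ht, _⟩ := hK.1
  haveI : FiniteDimensional k k⟮x⟯ := adjoin.finiteDimensional halg.isIntegral
  haveI : FiniteDimensional k⟮x⟯ K := Module.finite_of_finrank_pos h
  haveI : FiniteDimensional k K := Module.Finite.trans k⟮x⟯ K
  exact ht (Algebra.IsAlgebraic.isAlgebraic t)

theorem mul_mem_L_add {D₁ D₂ : Divisor k K} {a b : K} (ha : a ∈ L D₁) (hb : b ∈ L D₂) :
    a * b ∈ L (D₁ + D₂) := by
  intro P
  rw [map_mul, Finsupp.add_apply, exp_add]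
  exact mul_le_mul' (ha P) (hb P)

/-- Two distinct subfields `k(x)`, `k(x')` of index two force genus at most one. -/
theorem genus_le_one_of_not_mem (hK : IsFunctionField k K) {x x' : K}
    (hx : Module.finrank k⟮x⟯ K = 2) (hx' : Module.finrank k⟮x'⟯ K = 2)
    (hnot : x' ∉ k⟮x⟯) : genus k K ≤ 1 := by
  classical
  have htr : Transcendental k x := transcendental_of_finrank_adjoin_pos hK (by rw [hx]; norm_num)
  have htr' : Transcendental k x' :=
    transcendental_of_finrank_adjoin_pos hK (by rw [hx']; norm_num)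
  haveI : FiniteDimensional k⟮x⟯ K := Module.finite_of_finrank_pos (by rw [hx]; norm_num)
  have hli : LinearIndependent k⟮x⟯ ![(1 : K), x'] := by
    rw [LinearIndependent.pair_iff]
    intro a b hab
    by_cases hb : b = 0
    · subst hb
      rw [zero_smul, add_zero, IntermediateField.smul_def, smul_eq_mul, mul_one] at hab
      exact ⟨by exact_mod_cast hab, rfl⟩
    · exfalso
      apply hnot
      have hb' : (b : K) ≠ 0 := by exact_mod_cast hb
      have h1 : x' = ((-(a / b) : k⟮x⟯) : K) := by
        rw [IntermediateField.smul_def, IntermediateField.smul_def, smul_eq_mul, smul_eq_mul,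
          mul_one] at hab
        push_cast
        field_simp
        linear_combination hab
      rw [h1]
      exact (-(a / b) : k⟮x⟯).2
  let b : Module.Basis (Fin 2) k⟮x⟯ K :=
    basisOfLinearIndependentOfCardEqFinrank hli (by rw [hx, Fintype.card_fin])
  have hb : ∀ j, b j = ![(1 : K), x'] j := fun j => by
    simp only [b, coe_basisOfLinearIndependentOfCardEqFinrank]
  set g := genus k K with hg
  set D : Divisor k K := g • poleDiv (k := k) x + poleDiv (k := k) x' with hD
  have hmem : ∀ ij : Fin (g + 1) × Fin 2, x ^ (ij.1 : ℕ) * b ij.2 ∈ L D := by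
    rintro ⟨i, j⟩
    refine mul_mem_L_add (pow_mem_L_nsmul_poleDiv hK x (Nat.lt_succ_iff.mp i.2)) ?_
    rw [hb j]
    intro P
    fin_cases j
    · simp only [Fin.zero_eta, Matrix.cons_val_zero, map_one]
      rw [← exp_zero, exp_le_exp]
      exact poleDiv_nonneg x' P
    · simp only [Fin.mk_one, Matrix.cons_val_one, Matrix.cons_val_fin_one]
      exact val_le_exp_poleDiv hK x' P
  have hli2 := linearIndependent_pow_mul_basis htr b g
  have hli' : LinearIndependent k (fun ij : Fin (g + 1) × Fin 2 =>
      (⟨x ^ (ij.1 : ℕ) * b ij.2, hmem ij⟩ : L D)) :=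
    LinearIndependent.of_comp (Submodule.subtype _) hli2
  haveI := finiteDimensional_L hK D
  have h1 := hli'.fintype_card_le_finrank
  rw [Fintype.card_prod, Fintype.card_fin, Fintype.card_fin] at h1
  have hdeg : D.deg = 2 * (g : ℤ) + 2 := by
    rw [hD, deg_add, deg_nsmul, deg_poleDiv_eq hK htr, deg_poleDiv_eq hK htr', hx, hx']
    push_cast
    ring
  have h2 := ell_eq_of_deg_ge hK D (by rw [hdeg]; omega)
  rw [hdeg] at h2
  have h3 : (((g + 1) * 2 : ℕ) : ℤ) ≤ (ell D : ℤ) := by exact_mod_cast h1
  push_cast at h3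
  omega

/-- In genus at least two there is at most one rational subfield of index two. -/
theorem adjoin_eq_adjoin_of_finrank_two (hK : IsFunctionField k K) (hg : 2 ≤ genus k K)
    {x x' : K} (hx : Module.finrank k⟮x⟯ K = 2) (hx' : Module.finrank k⟮x'⟯ K = 2) :
    k⟮x⟯ = k⟮x'⟯ := by
  haveI : FiniteDimensional k⟮x'⟯ K := Module.finite_of_finrank_pos (by rw [hx']; norm_num)
  by_contra hne
  have hnot : x' ∉ k⟮x⟯ := by
    intro hmem
    apply hne
    have hle : k⟮x'⟯ ≤ k⟮x⟯ := adjoin_simple_le_iff.mpr hmem
    exact (eq_of_le_of_finrank_eq' hle (by rw [hx, hx'])).symm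
  have := genus_le_one_of_not_mem hK hx hx' hnot
  omega

end Groth.Agent.Lib.Helper24.FFExt
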