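import Mathlib.FieldTheory.Separable
import Mathlib.FieldTheory.Minpoly.Field
import Mathlib.Algebra.Squarefree.Basic
import Mathlib.RingTheory.Polynomial.UniqueFactorization

/-! # A separable element whose conjugates are `0` or itself lies in the base field (helper24) -/

set_option autoImplicit false

namespace Groth.Agent.Lib.Helper24.FFExt

open Polynomial

/-- If `(X - a)^n X^m` (with `n ≥ 1`) has coefficients in `F` and `a` is separable over `F`, then
`a ∈ F`. -/
theorem mem_range_of_map_eq_pow_mul {F E : Type*} [Field F] [Field E] [Algebra F E] {a : E}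
    (hsep : IsSeparable F a) {G₁ : F[X]} {n m : ℕ} (hn : n ≠ 0)
    (hG : G₁.map (algebraMap F E) = (X - C a) ^ n * X ^ m) :
    a ∈ (algebraMap F E).range := by
  rcases eq_or_ne a 0 with rfl | ha
  · exact ⟨0, map_zero _⟩
  have hint : IsIntegral F a := hsep.isIntegral
  set μ := minpoly F a with hμ
  have hroot : aeval a G₁ = 0 := by
    rw [aeval_def, ← eval_map, hG, eval_mul, eval_pow, eval_sub, eval_X, eval_C, sub_self,
      zero_pow hn, zero_mul]
  have hdvd : μ ∣ G₁ := minpoly.dvd F a hroot
  have hdvdE : μ.map (algebraMap F E) ∣ (X - C a) ^ n * X ^ m := by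
    rw [← hG]
    exact Polynomial.map_dvd _ hdvd
  have hμsep : (μ.map (algebraMap F E)).Separable := Separable.map hsep
  have hc0 : (μ.map (algebraMap F E)).coeff 0 ≠ 0 := by
    rw [coeff_map]
    exact (_root_.map_ne_zero _).mpr (minpoly.coeff_zero_ne_zero hint ha)
  have hnX : ¬ (X : E[X]) ∣ μ.map (algebraMap F E) := by
    rw [X_dvd_iff]
    exact hc0
  have hcop : IsCoprime (μ.map (algebraMap F E)) (X ^ m) := by
    apply IsCoprime.pow_right
    exact (Irreducible.coprime_iff_not_dvd irreducible_X).mpr hnX |>.symm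
  have hdvd2 : μ.map (algebraMap F E) ∣ (X - C a) ^ n := hcop.dvd_of_dvd_mul_right hdvdE
  have hdvd3 : μ.map (algebraMap F E) ∣ X - C a :=
    (hμsep.squarefree.dvd_pow_iff_dvd hn).mp hdvd2
  have hdeg : (μ.map (algebraMap F E)).natDegree ≤ 1 := by
    have := natDegree_le_of_dvd hdvd3 (X_sub_C_ne_zero a)
    rwa [natDegree_X_sub_C] at this
  rw [natDegree_map] at hdeg
  have hpos : 0 < μ.natDegree := minpoly.natDegree_pos hint
  have h1 : (minpoly F a).natDegree = 1 := by
    rw [← hμ]; omega
  exact minpoly.natDegree_eq_one_iff.mp h1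

end Groth.Agent.Lib.Helper24.FFExt
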