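import Groth.Agent.Lib.Helper24.FFExt.Galois2
import Groth.Agent.Lib.Helper24.FFExt.Over
import Groth.Agent.Lib.Helper24.FFExt.SepLemma
import Groth.Agent.Lib.Helper18.FF.Zeros
import Mathlib.RingTheory.Invariant.Basic
import Mathlib.FieldTheory.Fixed

/-! # The inertia group of a place in a finite Galois extension of function fields (helper24) -/

set_option autoImplicit false

namespace Groth.Agent.Lib.Helper24.FFExt

open FunFld WithZero Polynomial Groth.Agent.Lib.Helper18.FF

open scoped Pointwise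

variable {k K K' : Type*} [Field k] [Field K] [Field K'] [Algebra k K] [Algebra K K'] [Algebra k K']
  [IsScalarTower k K K']

theorem mem_decomposition_iff (Q : Place k K') (σ : K' ≃ₐ[K] K') :
    σ ∈ (Q.O).decompositionSubgroup K ↔ placeComap σ Q = Q := by
  rw [MulAction.mem_stabilizer_iff]
  constructor
  · intro h
    have h1 : σ⁻¹ • Q.O = Q.O := by
      conv_lhs => rw [← h]
      rw [inv_smul_smul]
    apply place_eq_of_le_one_iff
    intro x
    have h2 : x ∈ (placeComap σ Q).O ↔ x ∈ Q.O := by rw [placeComap_O, h1]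
    exact h2
  · intro h
    have h1 : σ⁻¹ • Q.O = Q.O := by rw [← placeComap_O, h]
    conv_lhs => rw [← h1]
    rw [smul_inv_smul]

/-- The action of the decomposition group on the residue field, on representatives. -/
theorem smul_res (Q : Place k K') (σ : (Q.O).decompositionSubgroup K) (w : K') (hw : Q.1 w ≤ 1) :
    ∃ hw' : Q.1 ((σ : K' ≃ₐ[K] K') w) ≤ 1, σ • res Q w hw = res Q ((σ : K' ≃ₐ[K] K') w) hw' := by
  have hσ := (mem_decomposition_iff Q σ.1).mp σ.2
  have hw' : Q.1 ((σ : K' ≃ₐ[K] K') w) ≤ 1 := by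
    have : Q.1 ((σ : K' ≃ₐ[K] K') w) = (placeComap σ.1 Q).1 w := rfl
    rw [this, hσ]; exact hw
  exact ⟨hw', rfl⟩

/-- An element of the residue field of `Q` fixed by the decomposition group and separable over the
residue field of `P` lies in the residue field of `P`. -/
theorem fixed_mem_range [FiniteDimensional K K'] [IsGalois K K'] {Q : Place k K'} {P : Place k K}
    (h : IsOver Q P) (a' : IsLocalRing.ResidueField Q.O)
    (hsep : letI := (IsLocalRing.ResidueField.map (overRingHom h)).toAlgebra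
      IsSeparable (IsLocalRing.ResidueField P.O) a')
    (hfix : ∀ σ : (Q.O).decompositionSubgroup K, σ • a' = a') :
    a' ∈ (IsLocalRing.ResidueField.map (overRingHom h)).range := by
  classical
  letI : Algebra (IsLocalRing.ResidueField P.O) (IsLocalRing.ResidueField Q.O) :=
    (IsLocalRing.ResidueField.map (overRingHom h)).toAlgebra
  obtain ⟨a₀, ha₀le, ha₀⟩ := res_surjective Q a'
  set T : Finset (Place k K') := Finset.univ.image (fun σ : K' ≃ₐ[K] K' => placeComap σ Q) with hT
  obtain ⟨a, ha⟩ := exists_approx T (fun R => if R = Q then a₀ else 0) (fun _ => 1)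
    (fun _ _ => one_ne_zero)
  have hQT : Q ∈ T := Finset.mem_image.mpr ⟨1, Finset.mem_univ _, placeComap_one Q⟩
  have haQ : Q.1 (a - a₀) < 1 := by
    have := ha Q hQT
    rwa [if_pos rfl] at this
  obtain ⟨hale, hares⟩ := res_sub_eq Q ha₀le haQ
  rw [ha₀] at hares
  have haR : ∀ σ : K' ≃ₐ[K] K', placeComap σ Q ≠ Q → Q.1 (σ a) < 1 := by
    intro σ hσ
    have := ha (placeComap σ Q) (Finset.mem_image_of_mem _ (Finset.mem_univ σ))
    rwa [if_neg hσ, sub_zero] at this
  have hstab : ∀ σ : K' ≃ₐ[K] K', placeComap σ Q = Q →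
      ∃ hle : Q.1 (σ a) ≤ 1, res Q (σ a) hle = a' := by
    intro σ hσ
    obtain ⟨hw', hw'eq⟩ := smul_res Q ⟨σ, (mem_decomposition_iff Q σ).mpr hσ⟩ a hale
    refine ⟨hw', ?_⟩
    rw [← hw'eq, hares]
    exact hfix _
  have hσle : ∀ σ : K' ≃ₐ[K] K', Q.1 (σ a) ≤ 1 := by
    intro σ
    by_cases hσ : placeComap σ Q = Q
    · exact (hstab σ hσ).1
    · exact (haR σ hσ).le
  set b : (K' ≃ₐ[K] K') → Q.O := fun σ => ⟨σ a, hσle σ⟩ with hb
  set φ : (Q.O)[X] := ∏ σ : K' ≃ₐ[K] K', (X - C (b σ)) with hφ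
  -- reduction of `φ`
  have hred : φ.map (IsLocalRing.residue Q.O) =
      (X - C a') ^ (Finset.univ.filter (fun σ : K' ≃ₐ[K] K' => placeComap σ Q = Q)).card *
        X ^ (Finset.univ.filter (fun σ : K' ≃ₐ[K] K' => ¬ placeComap σ Q = Q)).card := by
    rw [hφ, Polynomial.map_prod]
    have hfac : ∀ σ : K' ≃ₐ[K] K', (X - C (b σ)).map (IsLocalRing.residue Q.O) =
        if placeComap σ Q = Q then X - C a' else X := by
      intro σ
      rw [Polynomial.map_sub, map_X, map_C]
      split_ifs with hσ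
      · obtain ⟨hle, hres⟩ := hstab σ hσ
        have : IsLocalRing.residue Q.O (b σ) = a' := hres
        rw [this]
      · have : IsLocalRing.residue Q.O (b σ) = 0 :=
          (res_eq_zero_iff Q (σ a) (hσle σ)).mpr (haR σ hσ)
        rw [this, map_zero, sub_zero]
    rw [Finset.prod_congr rfl (fun σ _ => hfac σ), Finset.prod_ite, Finset.prod_const,
      Finset.prod_const]
  -- coefficients of `φ` come from `O_P`
  have hcoef : ∀ i : ℕ, φ.coeff i ∈ Set.range (overRingHom h) := by
    intro i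
    have hmap : φ.map Q.O.subtype = MulSemiringAction.charpoly (K' ≃ₐ[K] K') a := by
      rw [hφ, Polynomial.map_prod, MulSemiringAction.charpoly_eq]
      refine Finset.prod_congr rfl fun σ _ => ?_
      rw [Polynomial.map_sub, map_X, map_C]
      rfl
    have hinv : ∀ σ : K' ≃ₐ[K] K', σ ((φ.coeff i : Q.O) : K') = ((φ.coeff i : Q.O) : K') := by
      intro σ
      have h1 : ((φ.coeff i : Q.O) : K') = (MulSemiringAction.charpoly (K' ≃ₐ[K] K') a).coeff i := by
        rw [← hmap, coeff_map]; rfl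
      rw [h1]
      exact MulSemiringAction.smul_coeff_charpoly a i σ
    obtain ⟨d, hd⟩ := (IsGalois.mem_range_algebraMap_iff_fixed _).mpr hinv
    have hdP : P.1 d ≤ 1 := by
      rw [← isOver_le_one_iff h, hd]
      exact (φ.coeff i).2
    exact ⟨⟨d, hdP⟩, Subtype.ext hd⟩
  have hlift : ((X - C a') ^ (Finset.univ.filter (fun σ : K' ≃ₐ[K] K' => placeComap σ Q = Q)).card *
        X ^ (Finset.univ.filter (fun σ : K' ≃ₐ[K] K' => ¬ placeComap σ Q = Q)).card) ∈
      Polynomial.lifts (algebraMap (IsLocalRing.ResidueField P.O) (IsLocalRing.ResidueField Q.O)) := by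
    rw [Polynomial.lifts_iff_coeff_lifts]
    intro i
    rw [← hred, coeff_map]
    obtain ⟨d, hd⟩ := hcoef i
    refine ⟨IsLocalRing.residue P.O d, ?_⟩
    rw [← hd]
    exact IsLocalRing.ResidueField.map_residue (overRingHom h) d
  obtain ⟨G₁, hG₁⟩ := (Polynomial.mem_lifts _).mp hlift
  have hn : (Finset.univ.filter (fun σ : K' ≃ₐ[K] K' => placeComap σ Q = Q)).card ≠ 0 :=
    Finset.card_ne_zero.mpr ⟨1, Finset.mem_filter.mpr ⟨Finset.mem_univ _, placeComap_one Q⟩⟩
  exact mem_range_of_map_eq_pow_mul hsep hn hG₁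

end Groth.Agent.Lib.Helper24.FFExt
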