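import Groth.Agent.Lib.Helper24.FFExt.Ramified
import Mathlib.RingTheory.Norm.Transitivity
import Mathlib.FieldTheory.PurelyInseparable.Basic
import Mathlib.FieldTheory.IsSepClosed

/-! # The norm formula `deg P · v_P(N x) = ∑_{Q | P} deg Q · v_Q(x)` (helper24) -/

set_option autoImplicit false

namespace Groth.Agent.Lib.Helper24.FFExt

open FunFld WithZero IntermediateField Groth.Agent.Lib.Helper18.FF

open scoped Pointwise

section ord

variable {k K : Type*} [Field k] [Field K] [Algebra k K]

theorem ord_pow (P : Place k K) (x : K) (m : ℕ) : P.ord (x ^ m) = m * P.ord x := by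
  unfold Place.ord
  rw [map_pow, log_pow, nsmul_eq_mul]
  ring

theorem ord_prod {ι : Type*} (P : Place k K) (s : Finset ι) (f : ι → K) (hf : ∀ i ∈ s, f i ≠ 0) :
    P.ord (∏ i ∈ s, f i) = ∑ i ∈ s, P.ord (f i) := by
  classical
  induction s using Finset.induction_on with
  | empty =>
    rw [Finset.prod_empty, Finset.sum_empty]
    unfold Place.ord
    rw [map_one, log_one, neg_zero]
  | insert a s ha ih =>
    rw [Finset.prod_insert ha, Finset.sum_insert ha,
      ord_mul P (hf a (Finset.mem_insert_self a s))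
        (Finset.prod_ne_zero_iff.mpr fun i hi => hf i (Finset.mem_insert_of_mem hi)),
      ih fun i hi => hf i (Finset.mem_insert_of_mem hi)]

end ord

variable {k K K' : Type*} [Field k] [Field K] [Field K'] [Algebra k K] [Algebra K K'] [Algebra k K']
  [IsScalarTower k K K']

variable (k K K') in
/-- The norm formula for the extension `K'/K`. -/
def NormFormula : Prop :=
  ∀ (P : Place k K) (x : K') (Qs : Finset (Place k K')), (∀ Q, Q ∈ Qs ↔ IsOver Q P) →
    (P.deg : ℤ) * P.ord (Algebra.norm K x) = ∑ Q ∈ Qs, (Q.deg : ℤ) * Q.ord x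

theorem placeComap_ord (σ : K' ≃ₐ[K] K') (Q : Place k K') (x : K') :
    (placeComap σ Q).ord x = Q.ord (σ x) := rfl

/-- The norm formula in the Galois case. -/
theorem normFormula_galois [FiniteDimensional K K'] [IsGalois K K'] (hK : IsFunctionField k K) :
    NormFormula k K K' := by
  classical
  intro P x Qs hQs
  rcases eq_or_ne x 0 with rfl | hx
  · rw [Algebra.norm_zero, Groth.Agent.Lib.Helper18.FF.ord_zero, mul_zero]
    refine (Finset.sum_eq_zero fun Q _ => ?_).symm
    rw [Groth.Agent.Lib.Helper18.FF.ord_zero, mul_zero]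
  obtain ⟨Q₀, hQ₀⟩ := exists_place_over (K' := K') hK P
  have he := isOver_isOverWith_ramIdx hQ₀
  set e := ramIdx Q₀ P with hedef
  have hepos : 0 < e := isOverWith_pos he
  set D := (Q₀.O).decompositionSubgroup K with hD
  have hnorm : algebraMap K K' (Algebra.norm K x) = ∏ σ : K' ≃ₐ[K] K', σ x :=
    Algebra.norm_eq_prod_automorphisms K x
  have h1 : Q₀.ord (algebraMap K K' (Algebra.norm K x)) = e * P.ord (Algebra.norm K x) :=
    isOverWith_ord_eq he _
  have h2 : Q₀.ord (∏ σ : K' ≃ₐ[K] K', σ x) = ∑ σ : K' ≃ₐ[K] K', (placeComap σ Q₀).ord x :=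
    ord_prod Q₀ Finset.univ (fun σ : K' ≃ₐ[K] K' => σ x)
      (fun σ _ => (_root_.map_ne_zero _).mpr hx)
  have h3 : ∑ σ : K' ≃ₐ[K] K', (placeComap σ Q₀).ord x =
      ∑ Q ∈ Qs, (Nat.card D : ℤ) * Q.ord x := by
    rw [← Finset.sum_fiberwise_of_maps_to (s := Finset.univ) (t := Qs)
      (g := fun σ : K' ≃ₐ[K] K' => placeComap σ Q₀)
      (fun σ _ => (hQs _).mpr (isOver_placeComap hQ₀ σ))]
    refine Finset.sum_congr rfl fun Q hQ => ?_
    have hterm : ∀ σ ∈ Finset.univ.filter (fun σ : K' ≃ₐ[K] K' => placeComap σ Q₀ = Q),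
        (placeComap σ Q₀).ord x = Q.ord x := by
      intro σ hσ
      rw [(Finset.mem_filter.mp hσ).2]
    rw [Finset.sum_congr rfl hterm, Finset.sum_const, nsmul_eq_mul]
    congr 1
    obtain ⟨τ, hτ⟩ := exists_placeComap_eq_of_isOver hQ₀ ((hQs Q).mp hQ)
    have hfib : Finset.univ.filter (fun σ : K' ≃ₐ[K] K' => placeComap σ Q₀ = Q) =
        (Finset.univ.filter (fun δ : K' ≃ₐ[K] K' => δ ∈ D)).image (fun δ => δ * τ) := by
      ext σ
      simp only [Finset.mem_filter, Finset.mem_univ, true_and, Finset.mem_image]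
      constructor
      · intro hσ
        refine ⟨σ * τ⁻¹, ?_, by group⟩
        rw [hD, mem_decomposition_iff, placeComap_mul, hσ, ← hτ, placeComap_inv_placeComap]
      · rintro ⟨δ, hδ, rfl⟩
        rw [hD, mem_decomposition_iff] at hδ
        rw [placeComap_mul, hδ, hτ]
    rw [hfib, Finset.card_image_of_injective _ (mul_left_injective τ)]
    rw [Nat.card_eq_fintype_card, Fintype.card_subtype]
  have hcd := card_decomposition_mul_deg hK he
  have hdeg : ∀ Q ∈ Qs, Q.deg = Q₀.deg := fun Q hQ =>
    (isOverWith_and_deg_eq he ((hQs Q).mp hQ)).2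
  have h4 : (e : ℤ) * P.ord (Algebra.norm K x) = (Nat.card D : ℤ) * ∑ Q ∈ Qs, Q.ord x := by
    rw [← h1, hnorm, h2, h3, Finset.mul_sum]
  have h5 : ∑ Q ∈ Qs, (Q.deg : ℤ) * Q.ord x = (Q₀.deg : ℤ) * ∑ Q ∈ Qs, Q.ord x := by
    rw [Finset.mul_sum]
    exact Finset.sum_congr rfl fun Q hQ => by rw [hdeg Q hQ]
  rw [h5]
  have he0 : (e : ℤ) ≠ 0 := by exact_mod_cast hepos.ne'
  apply mul_left_cancel₀ he0
  have hcd' : (Nat.card D : ℤ) * P.deg = e * Q₀.deg := by exact_mod_cast hcd
  calc (e : ℤ) * ((P.deg : ℤ) * P.ord (Algebra.norm K x))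
      = P.deg * ((e : ℤ) * P.ord (Algebra.norm K x)) := by ring
    _ = P.deg * ((Nat.card D : ℤ) * ∑ Q ∈ Qs, Q.ord x) := by rw [h4]
    _ = ((Nat.card D : ℤ) * P.deg) * ∑ Q ∈ Qs, Q.ord x := by ring
    _ = (e : ℤ) * ((Q₀.deg : ℤ) * ∑ Q ∈ Qs, Q.ord x) := by rw [hcd']; ring

theorem norm_eq_pow_of_isPurelyInseparable {F E : Type*} [Field F] [Field E] [Algebra F E]
    [FiniteDimensional F E] [IsPurelyInseparable F E] (x : E) :
    algebraMap F E (Algebra.norm F x) = x ^ Module.finrank F E := by
  obtain ⟨n, hn⟩ := IsPurelyInseparable.minpoly_eq_X_sub_C_pow F (ringExpChar F) x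
  have hsplit : ((minpoly F x).map (algebraMap F E)).Splits := by
    rw [hn]; exact (Polynomial.Splits.X_sub_C x).pow _
  rw [Algebra.norm_eq_prod_roots E hsplit]
  have hroots : (minpoly F x).aroots E = (ringExpChar F ^ n) • {x} := by
    rw [Polynomial.aroots_def, hn, Polynomial.roots_pow, Polynomial.roots_X_sub_C]
  rw [hroots, Multiset.prod_nsmul, Multiset.prod_singleton, ← pow_mul]
  congr 1
  have hint : IsIntegral F x := Algebra.IsIntegral.isIntegral x
  have h1 : Module.finrank F F⟮x⟯ = ringExpChar F ^ n := by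
    rw [IntermediateField.adjoin.finrank hint]
    have := congrArg Polynomial.natDegree hn
    rw [Polynomial.natDegree_map, Polynomial.natDegree_pow, Polynomial.natDegree_X_sub_C,
      mul_one] at this
    exact this
  rw [← h1, Module.finrank_mul_finrank]

/-- The norm formula for a finite purely inseparable extension. -/
theorem normFormula_purelyInseparable [FiniteDimensional K K'] [IsPurelyInseparable K K']
    (hW : WeakFF k K) : NormFormula k K K' := by
  classical
  intro P x Qs hQs
  rcases eq_or_ne x 0 with rfl | hx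
  · rw [Algebra.norm_zero, Groth.Agent.Lib.Helper18.FF.ord_zero, mul_zero]
    refine (Finset.sum_eq_zero fun Q _ => ?_).symm
    rw [Groth.Agent.Lib.Helper18.FF.ord_zero, mul_zero]
  set q := Module.finrank K K' with hqdef
  have hq : 0 < q := Module.finrank_pos
  have hnorm := norm_eq_pow_of_isPurelyInseparable (F := K) (E := K') x
  have hsum := hW.sum_ramIdx_mul_deg (K' := K') P Qs hQs
  have hQ : ∀ Q ∈ Qs, (ramIdx Q P : ℤ) * P.ord (Algebra.norm K x) = q * Q.ord x := by
    intro Q hQ
    have he := isOver_isOverWith_ramIdx ((hQs Q).mp hQ)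
    rw [← isOverWith_ord_eq he, hnorm, ord_pow]
  have hq0 : (q : ℤ) ≠ 0 := by exact_mod_cast hq.ne'
  apply mul_left_cancel₀ hq0
  have hsum' : ((q : ℤ) * P.deg) = ∑ Q ∈ Qs, (ramIdx Q P : ℤ) * Q.deg := by
    have := congrArg (fun n : ℕ => (n : ℤ)) hsum
    simp only [Nat.cast_sum, Nat.cast_mul] at this
    exact this.symm
  calc (q : ℤ) * (P.deg * P.ord (Algebra.norm K x))
      = ((q : ℤ) * P.deg) * P.ord (Algebra.norm K x) := by ring
    _ = (∑ Q ∈ Qs, (ramIdx Q P : ℤ) * Q.deg) * P.ord (Algebra.norm K x) := by rw [hsum']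
    _ = ∑ Q ∈ Qs, (Q.deg : ℤ) * ((ramIdx Q P : ℤ) * P.ord (Algebra.norm K x)) := by
        rw [Finset.sum_mul]
        refine Finset.sum_congr rfl fun Q _ => ?_
        ring
    _ = ∑ Q ∈ Qs, (Q.deg : ℤ) * (q * Q.ord x) :=
        Finset.sum_congr rfl fun Q hQ' => by rw [hQ Q hQ']
    _ = (q : ℤ) * ∑ Q ∈ Qs, (Q.deg : ℤ) * Q.ord x := by
        rw [Finset.mul_sum]
        refine Finset.sum_congr rfl fun Q _ => ?_
        ring

section tower

variable {L : Type*} [Field L] [Algebra k L] [Algebra K' L] [Algebra K L] [IsScalarTower K K' L]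

theorem isOver_trans {R : Place k L} {Q : Place k K'} {P : Place k K} (h₂ : IsOver R Q)
    (h₁ : IsOver Q P) : IsOver R P := by
  obtain ⟨e₂, he₂⟩ := h₂
  obtain ⟨e₁, he₁⟩ := h₁
  exact ⟨_, isOverWith_trans he₂ he₁⟩

theorem isOver_of_isOver_of_isOver {R : Place k L} {Q : Place k K'} {P : Place k K}
    (hRP : IsOver R P) (hRQ : IsOver R Q) : IsOver Q P := by
  refine isOver_of_le_one_iff fun x => ?_
  rw [← isOver_le_one_iff hRQ, ← IsScalarTower.algebraMap_apply K K' L, isOver_le_one_iff hRP]

variable [IsScalarTower k K' L] [IsScalarTower k K L]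

/-- Transitivity of the norm formula in towers. -/
theorem NormFormula.trans [FiniteDimensional K K'] [FiniteDimensional K' L] (hW : WeakFF k K)
    (h1 : NormFormula k K K') (h2 : NormFormula k K' L) : NormFormula k K L := by
  classical
  intro P x Rs hRs
  have hWM : WeakFF k K' := hW.of_finite
  have hfin := hW.finite_isOver (K' := K') P
  set Ps := hfin.toFinset with hPsdef
  have hPs : ∀ P', P' ∈ Ps ↔ IsOver P' P := fun P' => Set.Finite.mem_toFinset hfin
  have e1 := h1 P (Algebra.norm K' x) Ps hPs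
  rw [Algebra.norm_norm] at e1
  rw [e1]
  have hex : ∀ R : Place k L, ∃ P' : Place k K', IsOver R P' := fun R => hWM.exists_isOver R
  choose g hg using hex
  have hmaps : ∀ R ∈ Rs, g R ∈ Ps := by
    intro R hR
    rw [hPs]
    exact isOver_of_isOver_of_isOver ((hRs R).mp hR) (hg R)
  rw [← Finset.sum_fiberwise_of_maps_to hmaps]
  refine Finset.sum_congr rfl fun P' hP' => ?_
  refine h2 P' x (Rs.filter (fun R => g R = P')) (fun R => ?_)
  rw [Finset.mem_filter, hRs]
  constructor
  · rintro ⟨_, rfl⟩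
    exact hg R
  · intro hRP'
    exact ⟨isOver_trans hRP' ((hPs P').mp hP'), isOver_unique (hg R) hRP'⟩

/-- Descent of the norm formula to an intermediate field. -/
theorem NormFormula.of_tower [FiniteDimensional K K'] [FiniteDimensional K' L] (hW : WeakFF k K)
    (h : NormFormula k K L) : NormFormula k K K' := by
  classical
  intro P x Qs hQs
  have hWM : WeakFF k K' := hW.of_finite
  haveI : FiniteDimensional K L := Module.Finite.trans K' L
  have hfin := hW.finite_isOver (K' := L) P
  set Rs := hfin.toFinset with hRsdef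
  have hRs : ∀ R, R ∈ Rs ↔ IsOver R P := fun R => Set.Finite.mem_toFinset hfin
  have e1 := h P (algebraMap K' L x) Rs hRs
  set m := Module.finrank K' L with hm
  have hmpos : 0 < m := Module.finrank_pos
  have hnorm : Algebra.norm K (algebraMap K' L x) = (Algebra.norm K x) ^ m := by
    rw [← Algebra.norm_norm (S := K'), Algebra.norm_algebraMap, map_pow]
  rw [hnorm, ord_pow] at e1
  have hex : ∀ R : Place k L, ∃ Q : Place k K', IsOver R Q := fun R => hWM.exists_isOver R
  choose g hg using hex
  have hmaps : ∀ R ∈ Rs, g R ∈ Qs := by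
    intro R hR
    rw [hQs]
    exact isOver_of_isOver_of_isOver ((hRs R).mp hR) (hg R)
  rw [← Finset.sum_fiberwise_of_maps_to hmaps] at e1
  have e2 : ∀ Q ∈ Qs, ∑ R ∈ Rs with g R = Q, (R.deg : ℤ) * R.ord (algebraMap K' L x) =
      (m : ℤ) * ((Q.deg : ℤ) * Q.ord x) := by
    intro Q hQ
    have hfilter : ∀ R, R ∈ Rs.filter (fun R => g R = Q) ↔ IsOver R Q := by
      intro R
      rw [Finset.mem_filter, hRs]
      constructor
      · rintro ⟨_, rfl⟩
        exact hg R
      · intro hRQ
        exact ⟨isOver_trans hRQ ((hQs Q).mp hQ), isOver_unique (hg R) hRQ⟩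
    have hs := hWM.sum_ramIdx_mul_deg (K' := L) Q _ hfilter
    have hs' : ∑ R ∈ Rs with g R = Q, (ramIdx R Q : ℤ) * R.deg = (m : ℤ) * Q.deg := by
      have := congrArg (fun n : ℕ => (n : ℤ)) hs
      simp only [Nat.cast_sum, Nat.cast_mul] at this
      exact this
    calc ∑ R ∈ Rs with g R = Q, (R.deg : ℤ) * R.ord (algebraMap K' L x)
        = ∑ R ∈ Rs with g R = Q, ((ramIdx R Q : ℤ) * R.deg) * Q.ord x := by
          refine Finset.sum_congr rfl fun R hR => ?_
          rw [isOverWith_ord_eq (isOver_isOverWith_ramIdx ((hfilter R).mp hR))]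
          ring
      _ = (∑ R ∈ Rs with g R = Q, (ramIdx R Q : ℤ) * R.deg) * Q.ord x := by
          rw [Finset.sum_mul]
      _ = (m : ℤ) * ((Q.deg : ℤ) * Q.ord x) := by rw [hs']; ring
  rw [Finset.sum_congr rfl e2, ← Finset.mul_sum] at e1
  have hm0 : (m : ℤ) ≠ 0 := by exact_mod_cast hmpos.ne'
  apply mul_left_cancel₀ hm0
  rw [← e1]
  ring

end tower

/-- **The norm formula** `deg P · v_P(N_{K'/K} x) = ∑_{Q | P} deg Q · v_Q(x)` for an arbitrary
finite extension of a function field. -/
theorem normFormula [FiniteDimensional K K'] (hK : IsFunctionField k K) : NormFormula k K K' := by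
  classical
  have hW := IsFunctionField.weakFF hK
  haveI : IsAlgClosure K (AlgebraicClosure K') :=
    ⟨inferInstance, Algebra.IsAlgebraic.trans K K' _⟩
  haveI : Normal K (AlgebraicClosure K') := IsAlgClosure.normal _ _
  set L := normalClosure K K' (AlgebraicClosure K') with hL
  letI : Algebra k L := ((algebraMap K L).comp (algebraMap k K)).toAlgebra
  haveI : IsScalarTower k K L := IsScalarTower.of_algebraMap_eq fun _ => rfl
  haveI : IsScalarTower k K' L := IsScalarTower.of_algebraMap_eq fun c => by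
    show algebraMap K L (algebraMap k K c) = algebraMap K' L (algebraMap k K' c)
    rw [IsScalarTower.algebraMap_apply k K K', ← IsScalarTower.algebraMap_apply K K' L]
  haveI : FiniteDimensional K' L := FiniteDimensional.right K K' L
  have hLK : NormFormula k K L := by
    haveI : IsGalois K (separableClosure K L) := separableClosure.isGalois K L
    haveI : IsPurelyInseparable (separableClosure K L) L :=
      separableClosure.isPurelyInseparable K L
    have h1 : NormFormula k K (separableClosure K L) := normFormula_galois hK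
    have h2 : NormFormula k (separableClosure K L) L :=
      normFormula_purelyInseparable hW.of_finite
    exact NormFormula.trans hW h1 h2
  exact NormFormula.of_tower hW hLK

end Groth.Agent.Lib.Helper24.FFExt
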