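import Groth.Agent.Lib.Helper24.FFExt.Geometric
import Groth.Agent.Lib.Helper24.FFExt.NormFormula
import Mathlib.FieldTheory.PurelyInseparable.Tower

/-! # Places under constant field extensions (helper24) -/

set_option autoImplicit false

namespace Groth.Agent.Lib.Helper24.FFExt

open FunFld WithZero IntermediateField Polynomial Groth.Agent.Lib.Helper18.FF

open scoped TensorProduct

universe u v

section general

variable {k K K' : Type*} [Field k] [Field K] [Field K'] [Algebra k K] [Algebra K K'] [Algebra k K']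
  [IsScalarTower k K K']

/-- If every element of `K'` has a power in `K`, a place of `K` has at most one place above it. -/
theorem place_unique_of_pow_mem (hpow : ∀ z : K', ∃ n : ℕ, 0 < n ∧ z ^ n ∈ Set.range (algebraMap K K'))
    {P : Place k K} {Q₁ Q₂ : Place k K'} (h₁ : IsOver Q₁ P) (h₂ : IsOver Q₂ P) : Q₁ = Q₂ := by
  apply place_eq_of_le_one_iff
  intro z
  obtain ⟨n, hn, w, hw⟩ := hpow z
  rw [← pow_le_one_iff hn.ne' (x := Q₁.1 z), ← pow_le_one_iff hn.ne' (x := Q₂.1 z), ← map_pow,
    ← map_pow, ← hw, isOver_le_one_iff h₁, isOver_le_one_iff h₂]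

/-- Uniqueness of the place above `P` through an intermediate field. -/
theorem place_unique_of_intermediate [FiniteDimensional K K'] (hK : IsFunctionField k K)
    (M : IntermediateField K K')
    (hpow : ∀ z : K', ∃ n : ℕ, 0 < n ∧ z ^ n ∈ M) {P : Place k K}
    (huniq : ∀ Q Q' : Place k M, IsOver Q P → IsOver Q' P → Q = Q')
    {Q₁ Q₂ : Place k K'} (h₁ : IsOver Q₁ P) (h₂ : IsOver Q₂ P) : Q₁ = Q₂ := by
  have hWM : WeakFF k M := (IsFunctionField.weakFF hK).of_finite
  obtain ⟨R₁, hR₁⟩ := hWM.exists_isOver Q₁
  obtain ⟨R₂, hR₂⟩ := hWM.exists_isOver Q₂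
  have e : R₁ = R₂ := huniq R₁ R₂ (isOver_of_isOver_of_isOver h₁ hR₁)
    (isOver_of_isOver_of_isOver h₂ hR₂)
  subst e
  refine place_unique_of_pow_mem (K := M) (fun z => ?_) hR₁ hR₂
  obtain ⟨n, hn, hz⟩ := hpow z
  exact ⟨n, hn, ⟨⟨z ^ n, hz⟩, rfl⟩⟩

end general

section residue

variable {k K : Type*} [Field k] [Field K] [Algebra k K]

/-- The residue map as a `k`-algebra homomorphism. -/
noncomputable def resAlgHom (R : Place k K) : R.O →ₐ[k] IsLocalRing.ResidueField R.O :=
  { IsLocalRing.residue R.O with commutes' := fun _ => rfl }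

/-- The inclusion of the valuation ring as a `k`-algebra homomorphism. -/
def valAlgHom (R : Place k K) : R.O →ₐ[k] K :=
  { R.O.subtype with commutes' := fun _ => rfl }

theorem aeval_residue_eq_zero (R : Place k K) {a : K} (ha : R.1 a ≤ 1) {g : k[X]}
    (hg : aeval a g = 0) : aeval (IsLocalRing.residue R.O ⟨a, ha⟩) g = 0 := by
  have h1 : aeval (⟨a, ha⟩ : R.O) g = 0 := by
    apply Subtype.val_injective
    have := Polynomial.aeval_algHom_apply (valAlgHom R) (⟨a, ha⟩ : R.O) g
    exact this.symm.trans hg
  have h2 := Polynomial.aeval_algHom_apply (resAlgHom R) (⟨a, ha⟩ : R.O) g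
  rw [h1, map_zero] at h2
  exact h2

end residue

section sepcount

variable {k K K' : Type*} [Field k] [Field K] [Field K'] [Algebra k K] [Algebra K K'] [Algebra k K']
  [IsScalarTower k K K']

/-- If `F_P/k` is purely inseparable and `a ∈ K'` is a root of a separable irreducible `g ∈ k[X]`,
every place of `K'` over `P` has residue degree at least `deg g`. -/
theorem natDegree_mul_deg_le_deg {P : Place k K} [IsPurelyInseparable k (IsLocalRing.ResidueField P.O)]
    {R : Place k K'} (hR : IsOver R P) (hRdeg : 0 < R.deg) {a : K'} {g : k[X]} (hirr : Irreducible g)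
    (hmonic : g.Monic) (hsep : g.Separable) (hg : aeval a g = 0) :
    g.natDegree * P.deg ≤ R.deg := by
  letI alg : Algebra (IsLocalRing.ResidueField P.O) (IsLocalRing.ResidueField R.O) :=
    (IsLocalRing.ResidueField.map (overRingHom hR)).toAlgebra
  haveI := isScalarTower_residue hR
  have hdm := deg_mul_finrank_residue hR
  have hfpos : 0 < Module.finrank (IsLocalRing.ResidueField P.O) (IsLocalRing.ResidueField R.O) := by
    rcases Nat.eq_zero_or_pos (Module.finrank (IsLocalRing.ResidueField P.O)
      (IsLocalRing.ResidueField R.O)) with h0 | h0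
    · rw [h0, mul_zero] at hdm; omega
    · exact h0
  haveI : FiniteDimensional (IsLocalRing.ResidueField P.O) (IsLocalRing.ResidueField R.O) :=
    Module.finite_of_finrank_pos hfpos
  have hint : IsIntegral k a := ⟨g, hmonic, hg⟩
  have ha : R.1 a ≤ 1 := val_le_one_of_isIntegral (K := k) R.1 R.2.1 hint
  set abar := IsLocalRing.residue R.O ⟨a, ha⟩ with habar
  have h0 : aeval abar g = 0 := aeval_residue_eq_zero R ha hg
  have hmin : g = minpoly k abar := minpoly.eq_of_irreducible_of_monic hirr h0 hmonic
  have hsep' : IsSeparable k abar := by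
    show (minpoly k abar).Separable
    rw [← hmin]; exact hsep
  have hmap := minpoly.map_eq_of_isSeparable_of_isPurelyInseparable
    (IsLocalRing.ResidueField P.O) abar hsep'
  have hle := minpoly.natDegree_le (A := IsLocalRing.ResidueField P.O) abar
  rw [← hmap, natDegree_map, ← hmin] at hle
  calc g.natDegree * P.deg ≤ Module.finrank (IsLocalRing.ResidueField P.O)
        (IsLocalRing.ResidueField R.O) * P.deg := Nat.mul_le_mul_right _ hle
    _ = R.deg := by rw [mul_comm]; exact hdm

/-- Under the same hypotheses, `K(a)` has at most one place over `P`. -/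
theorem place_unique_adjoin_of_purelyInseparable_residue [FiniteDimensional K K']
    (hK : IsFunctionField k K) {P : Place k K}
    [IsPurelyInseparable k (IsLocalRing.ResidueField P.O)] {a : K'} {g : k[X]}
    (hirr : Irreducible g) (hmonic : g.Monic) (hsep : g.Separable) (hg : aeval a g = 0)
    (Q Q' : Place k K⟮a⟯) (hQ : IsOver Q P) (hQ' : IsOver Q' P) : Q = Q' := by
  classical
  by_contra hne
  have hW : WeakFF k K⟮a⟯ := (IsFunctionField.weakFF hK).of_finite
  have hfin := finite_isOver (K' := K⟮a⟯) hK P
  have hsum := sum_ramIdx_mul_deg (K' := K⟮a⟯) hK P hfin.toFinset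
    (fun Q => Set.Finite.mem_toFinset hfin)
  have hga : aeval (⟨a, mem_adjoin_simple_self K a⟩ : K⟮a⟯) g = 0 := by
    apply (algebraMap K⟮a⟯ K').injective
    rw [map_zero, ← aeval_algebraMap_apply]
    exact hg
  have hintK : IsIntegral K a := by
    refine ⟨g.map (algebraMap k K), hmonic.map _, ?_⟩
    rw [← aeval_def, aeval_map_algebraMap]; exact hg
  have hrank : Module.finrank K K⟮a⟯ ≤ g.natDegree := by
    rw [IntermediateField.adjoin.finrank hintK]
    have hdvd : minpoly K a ∣ g.map (algebraMap k K) := by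
      apply minpoly.dvd
      rw [aeval_map_algebraMap]; exact hg
    have := natDegree_le_of_dvd hdvd (hmonic.map _).ne_zero
    rwa [natDegree_map] at this
  have hterm : ∀ R : Place k K⟮a⟯, IsOver R P → g.natDegree * P.deg ≤ ramIdx R P * R.deg := by
    intro R hR
    have h1 := natDegree_mul_deg_le_deg hR (hW.deg_pos R) hirr hmonic hsep hga
    have h2 := isOver_ramIdx_pos hR
    calc g.natDegree * P.deg ≤ R.deg := h1
      _ ≤ ramIdx R P * R.deg := Nat.le_mul_of_pos_left _ h2
  have h2 := Finset.add_le_sum (f := fun R : Place k K⟮a⟯ => ramIdx R P * R.deg)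
    (fun _ _ => Nat.zero_le _) ((Set.Finite.mem_toFinset hfin).mpr hQ)
    ((Set.Finite.mem_toFinset hfin).mpr hQ') hne
  rw [hsum] at h2
  have h3 := hterm Q hQ
  have h4 := hterm Q' hQ'
  have hPpos := deg_pos hK P
  have hgpos : 0 < g.natDegree := hirr.natDegree_pos
  have h5 : Module.finrank K K⟮a⟯ * P.deg ≤ g.natDegree * P.deg := Nat.mul_le_mul_right _ hrank
  have h6 : 0 < g.natDegree * P.deg := Nat.mul_pos hgpos hPpos
  omega

end sepcount

section constext

variable {k k' : Type u} {K K' : Type v} [Field k] [Field k'] [Field K] [Field K']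
  [Algebra k k'] [Algebra k K] [Algebra K K'] [Algebra k' K'] [Algebra k K']
  [IsScalarTower k k' K'] [IsScalarTower k K K']

theorem exists_pow_mem_of_forall
    (h : Function.Bijective (Algebra.TensorProduct.productMap
      (IsScalarTower.toAlgHom k k' K') (IsScalarTower.toAlgHom k K K')))
    (q : ℕ) [ExpChar k q] (M : IntermediateField K K')
    (hE : ∀ a : k', ∃ n : ℕ, algebraMap k' K' (a ^ q ^ n) ∈ M) (z : K') :
    ∃ n : ℕ, z ^ q ^ n ∈ M := by
  haveI : ExpChar K' q := expChar_of_injective_algebraMap (algebraMap k K').injective q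
  obtain ⟨w, rfl⟩ := h.2 z
  induction w using TensorProduct.induction_on with
  | zero => exact ⟨0, by simp⟩
  | tmul a x =>
    obtain ⟨n, hn⟩ := hE a
    refine ⟨n, ?_⟩
    rw [Algebra.TensorProduct.productMap_apply_tmul, mul_pow]
    refine M.mul_mem ?_ ?_
    · rw [← map_pow]; exact hn
    · rw [← map_pow]; exact M.algebraMap_mem _
  | add w₁ w₂ h₁ h₂ =>
    obtain ⟨n₁, hn₁⟩ := h₁
    obtain ⟨n₂, hn₂⟩ := h₂
    refine ⟨n₁ + n₂, ?_⟩
    rw [map_add, add_pow_expChar_pow]
    refine M.add_mem ?_ ?_
    · rw [pow_add, pow_mul]; exact pow_mem hn₁ _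
    · rw [pow_add, mul_comm, pow_mul]; exact pow_mem hn₂ _

theorem algebraMap_mem_adjoin_of_mem_adjoin {α₁ e : k'} (he : e ∈ k⟮α₁⟯) :
    algebraMap k' K' e ∈ K⟮algebraMap k' K' α₁⟯ := by
  have hmap : (k⟮α₁⟯).map (IsScalarTower.toAlgHom k k' K') = k⟮algebraMap k' K' α₁⟯ := by
    rw [IntermediateField.adjoin_map, Set.image_singleton]; rfl
  have hle : k⟮algebraMap k' K' α₁⟯ ≤ (K⟮algebraMap k' K' α₁⟯).restrictScalars k := by
    rw [IntermediateField.adjoin_le_iff]
    intro w hw
    rw [Set.mem_singleton_iff.mp hw]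
    exact mem_adjoin_simple_self K _
  apply hle
  rw [← hmap]
  exact ⟨_, he, rfl⟩

/-- **Uniqueness of the place above `P`** in a constant field extension when `k'/k` or `F_P/k` is
purely inseparable. -/
theorem place_unique_constExt [FiniteDimensional k k']
    (h : Function.Bijective (Algebra.TensorProduct.productMap
      (IsScalarTower.toAlgHom k k' K') (IsScalarTower.toAlgHom k K K')))
    (hK : IsFunctionField k K) (P : Place k K)
    (hpi : IsPurelyInseparable k k' ∨ IsPurelyInseparable k (IsLocalRing.ResidueField P.O))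
    {Q₁ Q₂ : Place k K'} (h₁ : IsOver Q₁ P) (h₂ : IsOver Q₂ P) : Q₁ = Q₂ := by
  classical
  haveI := finiteDimensional_of_tensor h
  set q := ringExpChar k with hq
  have hqpos : 0 < q := expChar_pos k q
  rcases hpi with hpi | hpi
  · -- `k'/k` purely inseparable
    refine place_unique_of_pow_mem (fun z => ?_) h₁ h₂
    obtain ⟨n, hn⟩ := exists_pow_mem_of_forall h q (⊥ : IntermediateField K K') (fun a => by
      obtain ⟨n, c, hc⟩ := IsPurelyInseparable.pow_mem k q a
      refine ⟨n, ?_⟩
      rw [← hc, ← IsScalarTower.algebraMap_apply k k' K', IsScalarTower.algebraMap_apply k K K']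
      exact (⊥ : IntermediateField K K').algebraMap_mem _) z
    exact ⟨q ^ n, pow_pos hqpos n, IntermediateField.mem_bot.mp hn⟩
  · -- `F_P/k` purely inseparable
    set E := separableClosure k k' with hE
    haveI : IsPurelyInseparable E k' := separableClosure.isPurelyInseparable k k'
    haveI : ExpChar E q := expChar_of_injective_algebraMap (algebraMap k E).injective q
    obtain ⟨α, hα⟩ := Field.exists_primitive_element k E
    set α₁ : k' := (α : k') with hα₁
    have hEeq : E = k⟮α₁⟯ := by
      have := congrArg (IntermediateField.map E.val) hα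
      rw [IntermediateField.adjoin_map, Set.image_singleton, ← AlgHom.fieldRange_eq_map,
        IntermediateField.fieldRange_val] at this
      exact this.symm
    set α' : K' := algebraMap k' K' α₁ with hα'
    have hsepα : IsSeparable k α₁ := mem_separableClosure_iff.mp α.2
    set g := minpoly k α₁ with hg
    have hintα : IsIntegral k α₁ := hsepα.isIntegral
    have hgα' : aeval α' g = 0 := by
      rw [hα', aeval_algebraMap_apply, hg, minpoly.aeval, map_zero]
    refine place_unique_of_intermediate hK K⟮α'⟯ (fun z => ?_)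
      (place_unique_adjoin_of_purelyInseparable_residue hK (minpoly.irreducible hintα)
        (minpoly.monic hintα) hsepα hgα') h₁ h₂
    obtain ⟨n, hn⟩ := exists_pow_mem_of_forall h q K⟮α'⟯ (fun a => by
      obtain ⟨n, e, he⟩ := IsPurelyInseparable.pow_mem E q a
      refine ⟨n, ?_⟩
      rw [← he]
      have he' : (algebraMap E k' e) ∈ k⟮α₁⟯ := by rw [← hEeq]; exact e.2
      exact algebraMap_mem_adjoin_of_mem_adjoin (K := K) he') z
    exact ⟨q ^ n, pow_pos hqpos n, hn⟩

end constext

end Groth.Agent.Lib.Helper24.FFExt
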