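import Groth.Agent.Lib.Helper24.FFExt.PthPower
import Groth.Agent.Lib.Helper24.FFExt.ConstExt
import Groth.Agent.Lib.Helper24.FFExt.Inertia2

/-! # Local parameters at separable places are separating (helper24) -/

set_option autoImplicit false

namespace Groth.Agent.Lib.Helper24.FFExt

open FunFld IntermediateField Polynomial WithZero Groth.Agent.Lib.Helper18.FF

universe u v

variable {k : Type u} {K : Type v} [Field k] [Field K] [Algebra k K]

theorem transcendental_of_val_ne_one (P : Place k K) {t : K} (h0 : t ≠ 0) (h1 : P.1 t ≠ 1)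
    (hK : IsFunctionField k K) : Transcendental k t := by
  intro halg
  obtain ⟨c, hc⟩ := hK.2 t halg
  have hc0 : c ≠ 0 := by
    rintro rfl
    rw [map_zero] at hc
    exact h0 hc.symm
  exact h1 (hc ▸ val_algebraMap P hc0)

/-- The characteristic `p` case: a local parameter at a separable place is not in `kK^p`. -/
theorem uniformizer_not_mem_kKp (hK : IsFunctionField k K) (hg : IsGeometric k K) (p : ℕ)
    [hp : Fact p.Prime] [CharP K p] (P : Place k K)
    [Algebra.IsSeparable k (IsLocalRing.ResidueField P.O)] {t : K} (ht : P.1 t = exp (-1 : ℤ)) :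
    t ∉ IntermediateField.adjoin k (Set.range fun y : K => y ^ p) := by
  classical
  set L := IntermediateField.adjoin k (Set.range fun y : K => y ^ p) with hL
  intro htL
  haveI : ExpChar K p := ExpChar.prime hp.out
  have hfr : Module.finrank L K = p := finrank_kKp hK hg p
  haveI : FiniteDimensional L K :=
    Module.finite_of_finrank_pos (by rw [hfr]; exact hp.out.pos)
  obtain ⟨x, hx, -, -⟩ := exists_separating hK hg
  have hLff : IsFunctionField k L :=
    isFunctionField_intermediateField hK L
      ⟨x ^ p, IntermediateField.subset_adjoin _ _ ⟨x, rfl⟩, hx.pow hp.out.pos⟩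
  obtain ⟨PL, hPL⟩ := exists_isOver (K := L) (K' := K) hLff P
  obtain ⟨e, he⟩ := hPL
  have hPL : IsOver P PL := ⟨e, he⟩
  have he1 : e = 1 := by
    have h2 : P.1 t = PL.1 ⟨t, htL⟩ ^ e := he ⟨t, htL⟩
    rw [ht] at h2
    have hne : PL.1 ⟨t, htL⟩ ≠ 0 := by
      intro h0
      rw [h0, zero_pow (isOverWith_pos he).ne'] at h2
      exact WithZero.exp_ne_zero h2
    obtain ⟨m, hm⟩ : ∃ m : ℤ, PL.1 ⟨t, htL⟩ = exp m := ⟨_, (WithZero.exp_log hne).symm⟩
    rw [hm, ← exp_nsmul, exp_inj, nsmul_eq_mul] at h2
    have hdvd : (e : ℤ) ∣ 1 := ⟨-m, by linarith⟩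
    have := Int.eq_one_of_dvd_one (by positivity) hdvd
    exact_mod_cast this
  subst he1
  have huniq : ∀ Q : Place k K, Q ∈ ({P} : Finset (Place k K)) ↔ IsOver Q PL := by
    intro Q
    rw [Finset.mem_singleton]
    constructor
    · rintro rfl; exact hPL
    · intro hQ
      exact place_unique_of_pow_mem (K := L) (K' := K)
        (fun z => ⟨p, hp.out.pos, ⟨⟨z ^ p, IntermediateField.subset_adjoin _ _ ⟨z, rfl⟩⟩, rfl⟩⟩) hQ hPL
  have hsum := sum_ramIdx_mul_deg (K := L) (K' := K) hLff PL {P} huniq
  rw [Finset.sum_singleton, isOverWith_ramIdx_eq he, one_mul, hfr] at hsum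
  have hres := deg_mul_finrank_residue hPL
  letI alg : Algebra (IsLocalRing.ResidueField PL.O) (IsLocalRing.ResidueField P.O) :=
    (IsLocalRing.ResidueField.map (overRingHom hPL)).toAlgebra
  haveI htower : IsScalarTower k (IsLocalRing.ResidueField PL.O) (IsLocalRing.ResidueField P.O) :=
    isScalarTower_residue hPL
  have hdegpos : 0 < PL.deg := deg_pos hLff PL
  have hfinres : Module.finrank (IsLocalRing.ResidueField PL.O) (IsLocalRing.ResidueField P.O) = p := by
    have h3 : PL.deg * Module.finrank (IsLocalRing.ResidueField PL.O) (IsLocalRing.ResidueField P.O)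
        = PL.deg * p := by
      rw [hres, hsum, mul_comm]
    exact Nat.eq_of_mul_eq_mul_left hdegpos h3
  haveI : Algebra.IsSeparable (IsLocalRing.ResidueField PL.O) (IsLocalRing.ResidueField P.O) :=
    Algebra.isSeparable_tower_top_of_isSeparable k _ _
  haveI : CharP k p := (algebraMap k K).charP (algebraMap k K).injective p
  haveI : ExpChar k p := ExpChar.prime hp.out
  haveI : ExpChar (IsLocalRing.ResidueField PL.O) p :=
    expChar_of_injective_algebraMap (algebraMap k (IsLocalRing.ResidueField PL.O)).injective p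
  haveI : IsPurelyInseparable (IsLocalRing.ResidueField PL.O) (IsLocalRing.ResidueField P.O) := by
    rw [isPurelyInseparable_iff_pow_mem _ p]
    intro ybar
    obtain ⟨y, rfl⟩ := IsLocalRing.residue_surjective ybar
    refine ⟨1, ?_⟩
    have hyL : (y.1 : K) ^ p ∈ L := IntermediateField.subset_adjoin _ _ ⟨y.1, rfl⟩
    have hyle : PL.1 ⟨(y.1 : K) ^ p, hyL⟩ ≤ 1 := by
      rw [← isOver_le_one_iff hPL]
      show P.1 ((y.1 : K) ^ p) ≤ 1
      rw [map_pow]
      exact pow_le_one' y.2 p
    refine ⟨IsLocalRing.residue PL.O ⟨⟨(y.1 : K) ^ p, hyL⟩, hyle⟩, ?_⟩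
    rw [pow_one, RingHom.algebraMap_toAlgebra, IsLocalRing.ResidueField.map_residue, ← map_pow]
    congr 1
  have hsurj := IsPurelyInseparable.surjective_algebraMap_of_isSeparable
    (IsLocalRing.ResidueField PL.O) (IsLocalRing.ResidueField P.O)
  have hbij : Function.Bijective (Algebra.linearMap (IsLocalRing.ResidueField PL.O)
      (IsLocalRing.ResidueField P.O)) :=
    ⟨(algebraMap (IsLocalRing.ResidueField PL.O) (IsLocalRing.ResidueField P.O)).injective, hsurj⟩
  have h1 := (LinearEquiv.ofBijective _ hbij).finrank_eq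
  rw [Module.finrank_self, hfinres] at h1
  exact hp.out.one_lt.ne' h1.symm

/-- A local parameter at a place with separable residue field has `dt ≠ 0`. -/
theorem D_uniformizer_ne_zero (hK : IsFunctionField k K) (hg : IsGeometric k K) (P : Place k K)
    [Algebra.IsSeparable k (IsLocalRing.ResidueField P.O)] (t : K) (ht : P.1 t = exp (-1 : ℤ)) :
    KaehlerDifferential.D k K t ≠ 0 := by
  have ht0 : t ≠ 0 := by
    rintro rfl
    rw [map_zero] at ht
    exact WithZero.exp_ne_zero ht.symm
  have ht1 : P.1 t ≠ 1 := by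
    rw [ht, ← WithZero.exp_zero, Ne, exp_inj]
    omega
  have htr : Transcendental k t := transcendental_of_val_ne_one P ht0 ht1 hK
  obtain _ | ⟨p, hp, hpk⟩ := CharP.exists' k
  · haveI := finiteDimensional_adjoin_of_transcendental hK htr
    haveI : CharZero k⟮t⟯ := charZero_of_injective_algebraMap (algebraMap k k⟮t⟯).injective
    exact D_ne_zero_of_separating htr
  · haveI : CharP K p := charP_of_injective_algebraMap (algebraMap k K).injective p
    intro hD
    exact uniformizer_not_mem_kKp hK hg p P ht (mem_kKp_of_D_eq_zero hK hg p hD)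

end Groth.Agent.Lib.Helper24.FFExt
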