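import Groth.Agent.Lib.Helper24.FFExt.RamGroup

/-! # Intermediate fields unramified at `Q` are those contained in the inertia field (helper24) -/

set_option autoImplicit false

namespace Groth.Agent.Lib.Helper24.FFExt

open FunFld WithZero IntermediateField Groth.Agent.Lib.Helper18.FF

open scoped Pointwise

variable {k K K' : Type*} [Field k] [Field K] [Field K'] [Algebra k K] [Algebra K K'] [Algebra k K']
  [IsScalarTower k K K']

/-- Membership in the (image of the) inertia group in terms of the valuation. -/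
theorem mem_inertia_iff (Q : Place k K') (σ : K' ≃ₐ[K] K') :
    σ ∈ ((Q.O).inertiaSubgroup K).map ((Q.O).decompositionSubgroup K).subtype ↔
      ∀ x : K', Q.1 x ≤ 1 → Q.1 (σ x - x) ≤ exp (-(1 : ℤ)) := by
  refine ⟨?_, mem_inertia_of_sub_le⟩
  rintro ⟨σ', hσ', rfl⟩ x hx
  have h1 : MulSemiringAction.toRingAut _ (IsLocalRing.ResidueField Q.O) σ' = 1 := hσ'
  have h2 : σ' • IsLocalRing.residue Q.O ⟨x, hx⟩ = IsLocalRing.residue Q.O ⟨x, hx⟩ :=
    congrArg (fun f : RingAut (IsLocalRing.ResidueField Q.O) =>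
      f (IsLocalRing.residue Q.O ⟨x, hx⟩)) h1
  rw [← IsLocalRing.ResidueField.residue_smul, ← sub_eq_zero, ← map_sub,
    IsLocalRing.residue_eq_zero_iff] at h2
  have h3 := (Valuation.mem_maximalIdeal_iff (v := Q.1)).mp h2
  exact (zm0_lt_one_iff _).mp h3

theorem range_pow_eq_iff {e e' : ℕ} (he : 0 < e) (he' : 0 < e') :
    Set.range (fun γ : ℤᵐ⁰ => γ ^ e) = Set.range (fun γ : ℤᵐ⁰ => γ ^ e') ↔ e = e' := by
  refine ⟨fun h => ?_, fun h => by rw [h]⟩
  have key : ∀ {a b : ℕ}, 0 < a → Set.range (fun γ : ℤᵐ⁰ => γ ^ a) ⊆ Set.range (fun γ : ℤᵐ⁰ => γ ^ b) →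
      b ∣ a := by
    intro a b ha hsub
    obtain ⟨γ, hγ⟩ := hsub ⟨exp (1 : ℤ), rfl⟩
    simp only at hγ
    induction γ using WithZero.expRecOn with
    | zero =>
      exfalso
      by_cases hb : b = 0
      · subst hb
        rw [pow_zero, ← exp_zero, ← exp_nsmul, exp_inj] at hγ
        simp at hγ; omega
      · rw [zero_pow hb, ← exp_nsmul] at hγ
        exact WithZero.exp_ne_zero hγ.symm
    | exp m =>
      rw [← exp_nsmul, ← exp_nsmul, exp_inj] at hγ
      simp only [nsmul_eq_mul, mul_one] at hγ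
      have : (b : ℤ) ∣ (a : ℤ) := ⟨m, hγ.symm⟩
      exact Int.natCast_dvd_natCast.mp this
  exact Nat.dvd_antisymm (key he' h.ge) (key he h.le)

theorem range_comap_eq {Q : Place k K'} {P : Place k K} {e : ℕ} (he : IsOverWith Q P e) :
    Set.range (Q.1.comap (algebraMap K K')) = Set.range (fun γ : ℤᵐ⁰ => γ ^ e) := by
  ext γ
  constructor
  · rintro ⟨x, rfl⟩
    exact ⟨P.1 x, (he x).symm⟩
  · rintro ⟨δ, rfl⟩
    obtain ⟨x, rfl⟩ := P.2.2 δ
    exact ⟨x, he x⟩

/-- The inertia group over an intermediate field `E` is the part of the inertia group fixing `E`. -/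
theorem map_inertia_intermediate (Q : Place k K') (E : IntermediateField K K') :
    ((((Q.O).inertiaSubgroup E).map ((Q.O).decompositionSubgroup E).subtype)).map
        (AlgEquiv.restrictScalarsHom K) =
      (((Q.O).inertiaSubgroup K).map ((Q.O).decompositionSubgroup K).subtype) ⊓ E.fixingSubgroup := by
  ext σ
  rw [Subgroup.mem_inf, mem_inertia_iff, Subgroup.mem_map]
  constructor
  · rintro ⟨τ, hτ, rfl⟩
    rw [mem_inertia_iff] at hτ
    refine ⟨hτ, ?_⟩
    rw [IntermediateField.mem_fixingSubgroup_iff]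
    intro x hx
    exact τ.commutes ⟨x, hx⟩
  · rintro ⟨h1, h2⟩
    refine ⟨IntermediateField.fixingSubgroupEquiv E ⟨σ, h2⟩, ?_, ?_⟩
    · rw [mem_inertia_iff]
      exact h1
    · ext x
      rfl

/-- **`e(Q ∩ E | P) = 1` iff `E` is contained in the inertia field.** -/
theorem range_comap_eq_iff_le_inertiaField [FiniteDimensional K K'] [IsGalois K K']
    (hK : IsFunctionField k K) (Q : Place k K')
    [Algebra.IsSeparable k (IsLocalRing.ResidueField Q.O)] (E : IntermediateField K K') :
    Set.range (Q.1.comap (algebraMap E K')) = Set.range (Q.1.comap (algebraMap K K')) ↔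
      E ≤ IntermediateField.fixedField
        (((Q.O).inertiaSubgroup K).map ((Q.O).decompositionSubgroup K).subtype) := by
  classical
  have hW : WeakFF k K := IsFunctionField.weakFF hK
  have hWE : WeakFF k E := hW.of_finite
  obtain ⟨P, hP⟩ := hW.exists_isOver Q
  obtain ⟨PE, hPE⟩ := hWE.exists_isOver Q
  have he := isOver_isOverWith_ramIdx hP
  have heE := isOver_isOverWith_ramIdx hPE
  have hc := hW.card_inertia he
  have hcE := hWE.card_inertia heE
  rw [range_comap_eq he, range_comap_eq heE, range_pow_eq_iff (isOverWith_pos heE) (isOverWith_pos he),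
    IntermediateField.le_iff_le]
  set I' := ((Q.O).inertiaSubgroup K).map ((Q.O).decompositionSubgroup K).subtype with hI'
  have h1 : Nat.card I' = ramIdx Q P := by
    rw [hI', Subgroup.card_map_of_injective (Subgroup.subtype_injective _)]
    exact hc
  have h2 : Nat.card (I' ⊓ E.fixingSubgroup : Subgroup (K' ≃ₐ[K] K')) = ramIdx Q PE := by
    rw [hI', ← map_inertia_intermediate Q E,
      Subgroup.card_map_of_injective (AlgEquiv.restrictScalarsHom_injective K),
      Subgroup.card_map_of_injective (Subgroup.subtype_injective _)]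
    exact hcE
  rw [← h1, ← h2]
  constructor
  · intro h
    have := Subgroup.eq_of_le_of_card_ge (inf_le_left : I' ⊓ E.fixingSubgroup ≤ I') h.ge
    rw [← this]
    exact inf_le_right
  · intro h
    rw [inf_eq_left.mpr h]

end Groth.Agent.Lib.Helper24.FFExt
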