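import Groth.Agent.Lib.Helper24.FFExt.InertiaField
import Mathlib.FieldTheory.PrimitiveElement
import Groth.Agent.Lib.Helper18.FF.Adele3

/-! # Almost all places are unramified in a finite separable extension (helper24) -/

set_option autoImplicit false

namespace Groth.Agent.Lib.Helper24.FFExt

open FunFld WithZero IntermediateField Groth.Agent.Lib.Helper18.FF

open scoped Pointwise

variable {k K K' : Type*} [Field k] [Field K] [Field K'] [Algebra k K] [Algebra K K'] [Algebra k K']
  [IsScalarTower k K K']

/-- Without separability of the residue extension, the inertia group has order at least `e`. -/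
theorem ramIdx_le_card_inertia [FiniteDimensional K K'] [IsGalois K K'] (hK : IsFunctionField k K)
    {Q : Place k K'} {P : Place k K} {e : ℕ} (he : IsOverWith Q P e) :
    e ≤ Nat.card ((Q.O).inertiaSubgroup K) := by
  classical
  have h := isOverWith_isOver he
  letI alg : Algebra (IsLocalRing.ResidueField P.O) (IsLocalRing.ResidueField Q.O) :=
    (IsLocalRing.ResidueField.map (overRingHom h)).toAlgebra
  set D := (Q.O).decompositionSubgroup K with hD
  set ρ : D →* RingAut (IsLocalRing.ResidueField Q.O) :=
    MulSemiringAction.toRingAut D (IsLocalRing.ResidueField Q.O) with hρ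
  have hker : (Q.O).inertiaSubgroup K = ρ.ker := rfl
  have h1 : Nat.card ((Q.O).inertiaSubgroup K) * Nat.card ρ.range = Nat.card D := by
    rw [hker, ← Subgroup.index_ker]
    exact Subgroup.card_mul_index _
  haveI : Finite D := inferInstance
  haveI : Finite ρ.range := inferInstance
  letI : Fintype ρ.range := Fintype.ofFinite _
  have hartin := FixedPoints.finrank_eq_card ρ.range (IsLocalRing.ResidueField Q.O)
  have hS : ∀ x : IsLocalRing.ResidueField P.O,
      IsLocalRing.ResidueField.map (overRingHom h) x ∈
        FixedPoints.subfield ρ.range (IsLocalRing.ResidueField Q.O) := by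
    intro y
    obtain ⟨c, rfl⟩ := IsLocalRing.residue_surjective y
    rintro ⟨τ, σ, rfl⟩
    show σ • (IsLocalRing.ResidueField.map (overRingHom h) (IsLocalRing.residue P.O c)) = _
    rw [IsLocalRing.ResidueField.map_residue, ← IsLocalRing.ResidueField.residue_smul]
    congr 1
    apply Subtype.ext
    exact σ.1.commutes c.1
  let i0 : IsLocalRing.ResidueField P.O →+*
      FixedPoints.subfield ρ.range (IsLocalRing.ResidueField Q.O) :=
    (IsLocalRing.ResidueField.map (overRingHom h)).codRestrict _ hS
  letI algFix : Algebra (IsLocalRing.ResidueField P.O)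
      (FixedPoints.subfield ρ.range (IsLocalRing.ResidueField Q.O)) := i0.toAlgebra
  haveI : IsScalarTower (IsLocalRing.ResidueField P.O)
      (FixedPoints.subfield ρ.range (IsLocalRing.ResidueField Q.O))
      (IsLocalRing.ResidueField Q.O) := IsScalarTower.of_algebraMap_eq fun _ => rfl
  have hmul := Module.finrank_mul_finrank (IsLocalRing.ResidueField P.O)
      (FixedPoints.subfield ρ.range (IsLocalRing.ResidueField Q.O))
      (IsLocalRing.ResidueField Q.O)
  have hdm := deg_mul_finrank_residue h
  have hcd := card_decomposition_mul_deg hK he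
  have hQpos : 0 < Q.deg := ((IsFunctionField.weakFF hK).of_finite (K' := K')).deg_pos Q
  have hPpos := deg_pos hK P
  rw [hartin, ← Nat.card_eq_fintype_card] at hmul
  set f := Module.finrank (IsLocalRing.ResidueField P.O) (IsLocalRing.ResidueField Q.O) with hf
  have hfpos : 0 < f := by
    rcases Nat.eq_zero_or_pos f with h0 | h0
    · rw [h0, mul_zero] at hdm; omega
    · exact h0
  have hle : Nat.card ρ.range ≤ f := by
    rw [← hmul]
    refine Nat.le_mul_of_pos_left _ ?_
    rcases Nat.eq_zero_or_pos (Module.finrank (IsLocalRing.ResidueField P.O)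
      (FixedPoints.subfield ρ.range (IsLocalRing.ResidueField Q.O))) with h0 | h0
    · rw [h0, zero_mul] at hmul; omega
    · exact h0
  -- |I| * |range| * deg P = e * deg P * f
  have h2 : Nat.card ((Q.O).inertiaSubgroup K) * Nat.card ρ.range = e * f := by
    have : Nat.card ((Q.O).inertiaSubgroup K) * Nat.card ρ.range * P.deg = e * f * P.deg := by
      rw [h1, hcd, ← hdm]; ring
    exact Nat.eq_of_mul_eq_mul_right hPpos this
  have hHpos : 0 < Nat.card ρ.range := Nat.card_pos
  by_contra hlt
  push Not at hlt
  have : Nat.card ((Q.O).inertiaSubgroup K) * Nat.card ρ.range < e * f :=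
    calc Nat.card ((Q.O).inertiaSubgroup K) * Nat.card ρ.range
        < e * Nat.card ρ.range := Nat.mul_lt_mul_of_pos_right hlt hHpos
      _ ≤ e * f := Nat.mul_le_mul_left _ hle
  omega

theorem WeakFF.finite_poles (hW : WeakFF k K) (x : K) : {P : Place k K | ¬ P.1 x ≤ 1}.Finite := by
  have h := finite_poles' hW.isFunctionField_kc x
  have : {P : Place k K | ¬ P.1 x ≤ 1} = toAlg (algebraicClosure k K) ⁻¹' {P' | ¬ P'.1 x ≤ 1} := rfl
  rw [this]
  exact h.preimage (toAlg_injective _).injOn

theorem WeakFF.finite_zeros (hW : WeakFF k K) {x : K} (hx : x ≠ 0) :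
    {P : Place k K | P.1 x < 1}.Finite := by
  refine (hW.finite_poles x⁻¹).subset ?_
  intro P hP
  have hP' : P.1 x < 1 := hP
  show ¬ P.1 x⁻¹ ≤ 1
  rw [map_inv₀, not_le]
  exact (one_lt_inv₀ (zero_lt_iff.mpr ((Valuation.ne_zero_iff _).mpr hx))).mpr hP'

/-- In a finite Galois extension almost all places are unramified. -/
theorem finite_ramified_galois [FiniteDimensional K K'] [IsGalois K K'] (hK : IsFunctionField k K) :
    {Q : Place k K' | ¬ Function.Surjective (Q.1.comap (algebraMap K K'))}.Finite := by
  classical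
  have hW' : WeakFF k K' := (IsFunctionField.weakFF hK).of_finite
  obtain ⟨y, hy⟩ := Field.exists_primitive_element K K'
  have hne : ∀ σ : K' ≃ₐ[K] K', σ ≠ 1 → σ y - y ≠ 0 := by
    intro σ hσ h0
    apply hσ
    have hy' : σ y = y := sub_eq_zero.mp h0
    ext z
    have hz : z ∈ K⟮y⟯ := by rw [hy]; trivial
    rw [AlgEquiv.one_apply]
    induction hz using IntermediateField.adjoin_induction with
    | mem x hx => rw [Set.mem_singleton_iff.mp hx]; exact hy'
    | algebraMap x => exact σ.commutes x
    | add x y _ _ hx hy => rw [map_add, hx, hy]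
    | inv x _ hx => rw [map_inv₀, hx]
    | mul x y _ _ hx hy => rw [map_mul, hx, hy]
  set S : Set (Place k K') := {Q | ¬ Q.1 y ≤ 1} ∪
    ⋃ σ ∈ {σ : K' ≃ₐ[K] K' | σ ≠ 1}, {Q | Q.1 (σ y - y) < 1} with hSdef
  have hS : S.Finite := (hW'.finite_poles y).union
    (Set.Finite.biUnion (Set.toFinite _) fun σ hσ => hW'.finite_zeros (hne σ hσ))
  refine hS.subset ?_
  intro Q hQ
  by_contra hQS
  apply hQ
  have hy1 : Q.1 y ≤ 1 := by
    by_contra h; exact hQS (Or.inl h)
  have hσ1 : ∀ σ : K' ≃ₐ[K] K', σ ≠ 1 → ¬ Q.1 (σ y - y) < 1 :=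
    fun σ hσ h => hQS (Or.inr (Set.mem_biUnion (show σ ∈ {σ : K' ≃ₐ[K] K' | σ ≠ 1} from hσ) h))
  set I' := ((Q.O).inertiaSubgroup K).map ((Q.O).decompositionSubgroup K).subtype with hI'def
  have hI' : I' = ⊥ := by
    rw [eq_bot_iff]
    intro σ hσ
    rw [Subgroup.mem_bot]
    by_contra hne1
    have := (mem_inertia_iff Q σ).mp hσ y hy1
    exact hσ1 σ hne1 (lt_of_le_of_lt this exp_neg_one_lt_one)
  have hcard : Nat.card ((Q.O).inertiaSubgroup K) = 1 := by
    rw [← Subgroup.card_map_of_injective (Subgroup.subtype_injective _), ← hI'def, hI',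
      Subgroup.card_bot]
  obtain ⟨P, hP⟩ := exists_isOver hK Q
  have he := isOver_isOverWith_ramIdx hP
  have hle := ramIdx_le_card_inertia hK he
  have hpos := isOverWith_pos he
  have h1 : ramIdx Q P = 1 := by omega
  rw [h1] at he
  intro γ
  obtain ⟨x, hx⟩ := P.2.2 γ
  exact ⟨x, by rw [Valuation.comap_apply, he x, pow_one, hx]⟩

theorem WeakFF.exists_place_over [FiniteDimensional K K'] (hW : WeakFF k K) (P : Place k K) :
    ∃ Q : Place k K', IsOver Q P := by
  obtain ⟨Q', hQ'⟩ := Groth.Agent.Lib.Helper24.FFExt.exists_place_over (K' := K')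
    hW.isFunctionField_kc (toAlg (algebraicClosure k K) P)
  exact ⟨ofAlg _ Q', hQ'⟩

/-- Descent of the finiteness of the ramified locus along a tower `K ⊆ K' ⊆ L`. -/
theorem finite_ramified_of_tower {L : Type*} [Field L] [Algebra K L] [Algebra K' L] [Algebra k L]
    [IsScalarTower K K' L] [IsScalarTower k K' L] [FiniteDimensional K' L]
    [FiniteDimensional K K'] (hK : IsFunctionField k K)
    (h : {R : Place k L | ¬ Function.Surjective (R.1.comap (algebraMap K L))}.Finite) :
    {Q : Place k K' | ¬ Function.Surjective (Q.1.comap (algebraMap K K'))}.Finite := by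
  classical
  have hW' : WeakFF k K' := (IsFunctionField.weakFF hK).of_finite
  have hex : ∀ R : Place k L, ∃ Q : Place k K', IsOver R Q := fun R => hW'.exists_isOver R
  choose g hg using hex
  refine (h.image g).subset ?_
  intro Q hQ
  obtain ⟨R, hR⟩ := hW'.exists_place_over (K' := L) Q
  refine ⟨R, ?_, isOver_unique (hg R) hR⟩
  intro hsurj
  apply hQ
  obtain ⟨e', he'⟩ := hR
  have hcomp : ∀ x : K, R.1 (algebraMap K L x) = Q.1 (algebraMap K K' x) ^ e' := by
    intro x
    rw [IsScalarTower.algebraMap_apply K K' L]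
    exact he' _
  have he1 : e' = 1 := by
    obtain ⟨x, hx⟩ := hsurj (exp (1 : ℤ))
    rw [Valuation.comap_apply, hcomp] at hx
    have hne : Q.1 (algebraMap K K' x) ≠ 0 := by
      intro h0
      rw [h0] at hx
      rcases Nat.eq_zero_or_pos e' with h00 | hpos
      · rw [h00, pow_zero, ← exp_zero, exp_inj] at hx; omega
      · rw [zero_pow hpos.ne'] at hx
        exact WithZero.exp_ne_zero hx.symm
    obtain ⟨m, hm⟩ : ∃ m : ℤ, Q.1 (algebraMap K K' x) = exp m :=
      ⟨WithZero.log (Q.1 (algebraMap K K' x)), (WithZero.exp_log hne).symm⟩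
    rw [hm, ← exp_nsmul, exp_inj] at hx
    simp only [nsmul_eq_mul] at hx
    have := Int.eq_one_of_mul_eq_one_right (Int.natCast_nonneg e') hx
    exact_mod_cast this
  intro γ
  obtain ⟨x, hx⟩ := hsurj γ
  refine ⟨x, ?_⟩
  rw [Valuation.comap_apply, hcomp, he1, pow_one] at hx
  exact hx

/-- **In a finite separable extension of function fields almost all places are unramified.** -/
theorem finite_ramified_separable [FiniteDimensional K K'] [Algebra.IsSeparable K K']
    (hK : IsFunctionField k K) :
    {Q : Place k K' | ¬ Function.Surjective (Q.1.comap (algebraMap K K'))}.Finite := by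
  classical
  haveI : IsAlgClosure K (AlgebraicClosure K') :=
    ⟨inferInstance, Algebra.IsAlgebraic.trans K K' _⟩
  haveI : Normal K (AlgebraicClosure K') := IsAlgClosure.normal _ _
  set L := normalClosure K K' (AlgebraicClosure K') with hL
  haveI : Algebra.IsSeparable K L := by
    rw [hL, normalClosure_def]
    haveI : ∀ f : K' →ₐ[K] AlgebraicClosure K', Algebra.IsSeparable K f.fieldRange := fun f =>
      AlgEquiv.Algebra.isSeparable (AlgEquiv.ofInjectiveField f)
    exact IntermediateField.isSeparable_iSup _ _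
  haveI : IsGalois K L := ⟨⟩
  letI : Algebra k L := ((algebraMap K L).comp (algebraMap k K)).toAlgebra
  haveI : IsScalarTower k K L := IsScalarTower.of_algebraMap_eq fun _ => rfl
  haveI : IsScalarTower k K' L := IsScalarTower.of_algebraMap_eq fun c => by
    show algebraMap K L (algebraMap k K c) = algebraMap K' L (algebraMap k K' c)
    rw [IsScalarTower.algebraMap_apply k K K', ← IsScalarTower.algebraMap_apply K K' L]
  haveI : FiniteDimensional K' L := FiniteDimensional.right K K' L
  exact finite_ramified_of_tower hK (finite_ramified_galois (K' := L) hK)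

end Groth.Agent.Lib.Helper24.FFExt
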