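import Groth.Agent.Lib.Helper24.FFExt.Fundamental

/-! # The conorm of divisors in a finite extension of function fields (helper24) -/

set_option autoImplicit false

namespace Groth.Agent.Lib.Helper24.FFExt

open FunFld WithZero IntermediateField Groth.Agent.Lib.Helper18.FF

section Deg

variable {k K : Type*} [Field k] [Field K] [Algebra k K]

/-- The degree as an additive homomorphism. -/
noncomputable def degHom : Divisor k K →+ ℤ where
  toFun := Divisor.deg
  map_zero' := deg_zero
  map_add' := deg_add

@[simp] theorem degHom_apply (D : Divisor k K) : degHom D = D.deg := rfl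

theorem deg_zsmul (n : ℤ) (D : Divisor k K) : (n • D).deg = n * D.deg := by
  rw [← degHom_apply, map_zsmul, smul_eq_mul, degHom_apply]

theorem deg_sum' {ι : Type*} (s : Finset ι) (f : ι → Divisor k K) :
    (∑ i ∈ s, f i).deg = ∑ i ∈ s, (f i).deg := by
  rw [← degHom_apply, map_sum]; rfl

end Deg

variable {k K K' : Type*} [Field k] [Field K] [Field K'] [Algebra k K] [Algebra K K'] [Algebra k K']
  [IsScalarTower k K K']

open scoped Classical in
/-- The conorm of a single place. -/
noncomputable def conormP (K' : Type*) [Field K'] [Algebra K K'] [Algebra k K'] (P : Place k K) :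
    Divisor k K' :=
  if h : {Q : Place k K' | IsOver Q P}.Finite then
    h.toFinset.sum (fun Q => (ramIdx Q P : ℤ) • Finsupp.single Q 1) else 0

theorem conorm_eq_sum (D : Divisor k K) :
    conorm K' D = D.sum fun P n => n • conormP K' P := by
  classical
  unfold conorm conormP
  rfl

theorem conormP_apply [FiniteDimensional K K'] (hK : IsFunctionField k K) (P : Place k K)
    (Q : Place k K') : conormP K' P Q = (ramIdx Q P : ℤ) := by
  classical
  unfold conormP
  rw [dif_pos (finite_isOver hK P), Finsupp.finsetSum_apply]
  by_cases hQ : IsOver Q P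
  · rw [Finset.sum_eq_single Q]
    · simp
    · intro Q' _ hne
      simp [hne]
    · intro hn
      exact absurd ((Set.Finite.mem_toFinset (finite_isOver hK P)).mpr hQ) hn
  · rw [ramIdx_of_not_isOver hQ, Nat.cast_zero]
    apply Finset.sum_eq_zero
    intro Q' hQ'
    have hQ'P : IsOver Q' P := (Set.Finite.mem_toFinset (finite_isOver hK P)).mp hQ'
    have hne : Q' ≠ Q := by rintro rfl; exact hQ hQ'P
    simp [Finsupp.single_apply, hne]

theorem deg_conormP [FiniteDimensional K K'] (hK : IsFunctionField k K) (P : Place k K) :
    (conormP K' P).deg = Module.finrank K K' * P.deg := by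
  classical
  unfold conormP
  rw [dif_pos (finite_isOver hK P), deg_sum']
  have h := sum_ramIdx_mul_deg (K' := K') hK P (finite_isOver hK P).toFinset
    (fun Q => Set.Finite.mem_toFinset _)
  have h' : ((∑ Q ∈ (finite_isOver (K' := K') hK P).toFinset, ramIdx Q P * Q.deg : ℕ) : ℤ) =
      ((Module.finrank K K' * P.deg : ℕ) : ℤ) := by rw [h]
  push_cast at h'
  rw [← h']
  refine Finset.sum_congr rfl fun Q _ => ?_
  rw [deg_zsmul, deg_single, one_mul]

/-- `deg N*(D) = [K' : K] deg D` (degrees over `k`). -/
theorem deg_conorm [FiniteDimensional K K'] (hK : IsFunctionField k K) (D : Divisor k K) :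
    (conorm K' D).deg = Module.finrank K K' * D.deg := by
  classical
  rw [conorm_eq_sum, Finsupp.sum, deg_sum']
  have hD : D.deg = ∑ P ∈ D.support, D P * (P.deg : ℤ) := rfl
  rw [hD, Finset.mul_sum]
  refine Finset.sum_congr rfl fun P _ => ?_
  rw [deg_zsmul, deg_conormP hK]
  ring

/-- The coefficient of the conorm at a place `Q` above `P`. -/
theorem conorm_apply [FiniteDimensional K K'] (hK : IsFunctionField k K) (D : Divisor k K)
    {Q : Place k K'} {P : Place k K} (hQP : IsOver Q P) :
    conorm K' D Q = D P * (ramIdx Q P : ℤ) := by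
  classical
  rw [conorm_eq_sum, Finsupp.sum, Finsupp.finsetSum_apply]
  rw [Finset.sum_eq_single P]
  · rw [Finsupp.smul_apply, conormP_apply hK, smul_eq_mul]
  · intro P' _ hne
    rw [Finsupp.smul_apply, conormP_apply hK, ramIdx_of_not_isOver, Nat.cast_zero, smul_zero]
    intro h
    exact hne (isOver_unique h hQP)
  · intro hn
    rw [Finsupp.notMem_support_iff.mp hn, zero_smul]
    rfl

/-- Orders of an element of `K'` have finite support, for `K'` finite over a function field. -/
theorem finite_support_ord_weak [FiniteDimensional K K'] (hK : IsFunctionField k K) (z : K') :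
    (Function.support fun Q : Place k K' => Q.ord z).Finite := by
  obtain ⟨x, hx, hfin⟩ := hK.1
  have hx' : Transcendental k (algebraMap K K' x) :=
    (transcendental_algebraMap_iff (algebraMap K K').injective).mpr hx
  have hfin' := finiteDimensional_adjoin_map (K' := K') hfin
  have hKc := isFunctionField_kc hx' hfin'
  have h := finite_support_ord hKc z
  have : (Function.support fun Q : Place k K' => Q.ord z) =
      toKc ⁻¹' (Function.support fun Q' : Place (algebraicClosure k K') K' => Q'.ord z) := rfl
  rw [this]
  exact h.preimage toKc_injective.injOn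

theorem div_apply_weak [FiniteDimensional K K'] (hK : IsFunctionField k K) (z : K') (Q : Place k K') :
    FunFld.div k z Q = Q.ord z := by
  unfold FunFld.div
  rw [dif_pos (finite_support_ord_weak hK z)]
  rfl

/-- `(x)_{K'} = N*((x)_K)` for `x ∈ K`. -/
theorem div_algebraMap_eq_conorm [FiniteDimensional K K'] (hK : IsFunctionField k K) (x : K) :
    FunFld.div k (algebraMap K K' x) = conorm K' (FunFld.div k x) := by
  ext Q
  obtain ⟨P, hP⟩ := exists_isOver hK Q
  rw [div_apply_weak hK, conorm_apply hK _ hP, div_apply hK,
    isOverWith_ord_eq (isOver_isOverWith_ramIdx hP) x]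
  ring

end Groth.Agent.Lib.Helper24.FFExt
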