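import Groth.Agent.Lib.Helper24.FFExt.Inertia2
import Groth.Agent.Lib.Helper24.FFExt.Conorm

/-! # Extensions of a base field whose constant field is not exact (helper24)

`K` finite over `k(x)`, `k` not necessarily algebraically closed in `K` (e.g. `K` an intermediate field of a
finite extension of a function field).  All results are deduced from the exact case over
`c = algebraicClosure k K`. -/

set_option autoImplicit false

namespace Groth.Agent.Lib.Helper24.FFExt

open FunFld WithZero IntermediateField Groth.Agent.Lib.Helper18.FF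

section ToAlg

variable {k K' : Type*} [Field k] [Field K'] [Algebra k K']
variable (A : Type*) [Field A] [Algebra k A] [Algebra A K'] [IsScalarTower k A K']
  [Algebra.IsAlgebraic k A]

/-- A place over `k` is a place over an algebraic extension `A` of `k` inside `K'`. -/
def toAlg (Q : Place k K') : Place A K' :=
  ⟨Q.1, fun a => val_le_one_of_isIntegral (K := k) Q.1 Q.2.1
    ((Algebra.IsIntegral.isIntegral (R := k) a).algebraMap), Q.2.2⟩

/-- A place over `A` is a place over `k`. -/
def ofAlg (Q : Place A K') : Place k K' :=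
  ⟨Q.1, fun c => by rw [IsScalarTower.algebraMap_apply k A K']; exact Q.2.1 _, Q.2.2⟩

@[simp] theorem toAlg_val (Q : Place k K') : (toAlg A Q).1 = Q.1 := rfl
@[simp] theorem ofAlg_val (Q : Place A K') : (ofAlg A Q : Place k K').1 = Q.1 := rfl
@[simp] theorem toAlg_ofAlg (Q : Place A K') : toAlg A (ofAlg A Q : Place k K') = Q := rfl
@[simp] theorem ofAlg_toAlg (Q : Place k K') : ofAlg A (toAlg A Q) = Q := rfl

theorem toAlg_injective : Function.Injective (toAlg A : Place k K' → _) :=
  Function.LeftInverse.injective (ofAlg_toAlg A)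

theorem deg_eq_mul_deg_toAlg (Q : Place k K') :
    Q.deg = Module.finrank k A * (toAlg A Q).deg := by
  unfold Place.deg
  letI i2 : Algebra A Q.O := Place.algO (toAlg A Q)
  haveI : IsScalarTower k A Q.O :=
    IsScalarTower.of_algebraMap_eq fun c => Subtype.ext (IsScalarTower.algebraMap_apply k A K' c)
  exact (Module.finrank_mul_finrank k A (IsLocalRing.ResidueField Q.O)).symm

end ToAlg

section Ext

variable {k K K' : Type*} [Field k] [Field K] [Field K'] [Algebra k K] [Algebra K K'] [Algebra k K']
  [IsScalarTower k K K']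

instance : IsScalarTower k (algebraicClosure k K) K' :=
  IsScalarTower.of_algebraMap_eq fun c => IsScalarTower.algebraMap_apply k K K' c

/-- The weak function field hypothesis. -/
def WeakFF (k K : Type*) [Field k] [Field K] [Algebra k K] : Prop :=
  ∃ x : K, Transcendental k x ∧ FiniteDimensional (IntermediateField.adjoin k ({x} : Set K)) K

theorem IsFunctionField.weakFF (hK : IsFunctionField k K) : WeakFF k K := hK.1

theorem WeakFF.isFunctionField_kc (hW : WeakFF k K) : IsFunctionField (algebraicClosure k K) K := by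
  obtain ⟨x, hx, hfin⟩ := hW
  exact Groth.Agent.Lib.Helper24.FFExt.isFunctionField_kc hx hfin

/-- A finite extension of a weak function field is a weak function field. -/
theorem WeakFF.of_finite [FiniteDimensional K K'] (hW : WeakFF k K) : WeakFF k K' := by
  obtain ⟨x, hx, hfin⟩ := hW
  exact ⟨algebraMap K K' x, (transcendental_algebraMap_iff (algebraMap K K').injective).mpr hx,
    finiteDimensional_adjoin_map (K' := K') hfin⟩

theorem WeakFF.finrank_kc_pos (hW : WeakFF k K) : 0 < Module.finrank k (algebraicClosure k K) := by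
  obtain ⟨x, hx, hfin⟩ := hW
  have h1 := finrank_adjoin_eq_mul (algebraicClosure k K) (transcendental_kc hx)
  have h2 : 0 < Module.finrank (IntermediateField.adjoin k ({x} : Set K)) K := Module.finrank_pos
  rw [h1] at h2
  exact Nat.pos_of_mul_pos_right h2

theorem WeakFF.deg_pos (hW : WeakFF k K) (P : Place k K) : 0 < P.deg := by
  rw [deg_eq_mul_deg_toAlg (algebraicClosure k K)]
  exact Nat.mul_pos hW.finrank_kc_pos (Groth.Agent.Lib.Helper18.FF.deg_pos hW.isFunctionField_kc _)

theorem isOverWith_toAlg_iff {Q : Place k K'} {P : Place k K} {e : ℕ} :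
    IsOverWith (toAlg (algebraicClosure k K) Q) (toAlg (algebraicClosure k K) P) e ↔
      IsOverWith Q P e := Iff.rfl

theorem isOver_toAlg_iff {Q : Place k K'} {P : Place k K} :
    IsOver (toAlg (algebraicClosure k K) Q) (toAlg (algebraicClosure k K) P) ↔ IsOver Q P := Iff.rfl

theorem ramIdx_toAlg (Q : Place k K') (P : Place k K) :
    ramIdx (toAlg (algebraicClosure k K) Q) (toAlg (algebraicClosure k K) P) = ramIdx Q P := by
  by_cases h : IsOver Q P
  · exact isOverWith_ramIdx_eq (isOverWith_toAlg_iff.mpr (isOver_isOverWith_ramIdx h))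
  · rw [ramIdx_of_not_isOver h, ramIdx_of_not_isOver (fun h' => h (isOver_toAlg_iff.mp h'))]

/-- The place below, for a weak base. -/
theorem WeakFF.exists_isOver [Algebra.IsAlgebraic K K'] (hW : WeakFF k K) (Q : Place k K') :
    ∃ P : Place k K, IsOver Q P := by
  obtain ⟨P', hP'⟩ := Groth.Agent.Lib.Helper24.FFExt.exists_isOver hW.isFunctionField_kc
    (toAlg (algebraicClosure k K) Q)
  exact ⟨ofAlg _ P', hP'⟩

theorem WeakFF.finite_isOver [FiniteDimensional K K'] (hW : WeakFF k K) (P : Place k K) :
    {Q : Place k K' | IsOver Q P}.Finite := by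
  have h := Groth.Agent.Lib.Helper24.FFExt.finite_isOver (K' := K') hW.isFunctionField_kc
    (toAlg (algebraicClosure k K) P)
  have : {Q : Place k K' | IsOver Q P} = toAlg (algebraicClosure k K) ⁻¹'
      {Q' | IsOver Q' (toAlg (algebraicClosure k K) P)} := rfl
  rw [this]
  exact h.preimage (toAlg_injective _).injOn

theorem WeakFF.sum_ramIdx_mul_deg [FiniteDimensional K K'] (hW : WeakFF k K) (P : Place k K)
    (Qs : Finset (Place k K')) (hQs : ∀ Q, Q ∈ Qs ↔ IsOver Q P) :
    ∑ Q ∈ Qs, ramIdx Q P * Q.deg = Module.finrank K K' * P.deg := by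
  classical
  have h := Groth.Agent.Lib.Helper24.FFExt.sum_ramIdx_mul_deg (K' := K') hW.isFunctionField_kc
    (toAlg (algebraicClosure k K) P) (Qs.image (toAlg (algebraicClosure k K)))
    (fun Q' => by
      rw [Finset.mem_image]
      constructor
      · rintro ⟨Q, hQ, rfl⟩
        exact (hQs Q).mp hQ
      · intro hQ'
        exact ⟨ofAlg _ Q', (hQs _).mpr hQ', rfl⟩)
  rw [Finset.sum_image (fun a _ b _ hab => toAlg_injective _ hab)] at h
  rw [deg_eq_mul_deg_toAlg (algebraicClosure k K) P, mul_left_comm, ← h, Finset.mul_sum]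
  refine Finset.sum_congr rfl fun Q _ => ?_
  rw [ramIdx_toAlg, deg_eq_mul_deg_toAlg (algebraicClosure k K) Q]
  ring

end Ext

end Groth.Agent.Lib.Helper24.FFExt
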