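import Mathlib.FieldTheory.LinearDisjoint
import Mathlib.FieldTheory.IntermediateField.Adjoin.Algebra
import Mathlib.RingTheory.Localization.Module
import Mathlib.RingTheory.Adjoin.Polynomial.Basic
import Mathlib.LinearAlgebra.Dimension.Free

/-! # `[E : k(x)] = [A : k] [E : A(x)]` for `A/k` algebraic and `x` transcendental over `A` (helper24) -/

set_option autoImplicit false

namespace Groth.Agent.Lib.Helper24.FFExt

open IntermediateField Polynomial

open scoped IntermediateField.algebraAdjoinAdjoin

variable {k E : Type*} [Field k] [Field E] [Algebra k E]

/-- A `k`-linearly independent family in `A` stays independent over `k[x]`, `x` transcendental over `A`. -/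
theorem linearIndependent_algebraAdjoin (A : IntermediateField k E) {x : E} (hx : Transcendental A x)
    {ι : Type*} {a : ι → A} (ha : LinearIndependent k a) :
    LinearIndependent (Algebra.adjoin k ({x} : Set E)) (fun i => (a i : E)) := by
  classical
  rw [linearIndependent_iff']
  intro s g hg i hi
  have hP : ∀ j, ∃ P : k[X], aeval x P = (g j : E) := by
    intro j
    have h2 : ∀ y : E, y ∈ Algebra.adjoin k ({x} : Set E) → ∃ P : k[X], aeval x P = y := by
      intro y hy
      rw [Algebra.adjoin_singleton_eq_range_aeval] at hy
      exact hy
    exact h2 _ (g j).2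
  choose P hP using hP
  set R : A[X] := ∑ j ∈ s, (P j).map (algebraMap k A) * C (a j) with hR
  have hR0 : aeval x R = 0 := by
    rw [hR, map_sum, ← hg]
    refine Finset.sum_congr rfl fun j _ => ?_
    rw [map_mul, aeval_map_algebraMap, aeval_C, hP j]
    rfl
  have hRz : R = 0 := by
    by_contra hne
    exact hx ⟨R, hne, hR0⟩
  have hcoef : ∀ n : ℕ, ∑ j ∈ s, (P j).coeff n • a j = 0 := by
    intro n
    have := congrArg (fun q => q.coeff n) hRz
    simp only [hR, finset_sum_coeff, coeff_mul_C, coeff_map, coeff_zero] at this
    rw [← this]
    refine Finset.sum_congr rfl fun j _ => ?_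
    rw [Algebra.smul_def]
  have hPz : P i = 0 := by
    ext n
    rw [coeff_zero]
    exact (linearIndependent_iff'.mp ha) s (fun j => (P j).coeff n) (hcoef n) i hi
  apply Subtype.ext
  rw [← hP i, hPz, map_zero]
  rfl

/-- A `k`-linearly independent family in `A` stays independent over `k(x)`. -/
theorem linearIndependent_adjoin (A : IntermediateField k E) {x : E} (hx : Transcendental A x)
    {ι : Type*} {a : ι → A} (ha : LinearIndependent k a) :
    LinearIndependent (IntermediateField.adjoin k ({x} : Set E)) (fun i => (a i : E)) :=
  LinearIndependent.localization (R := Algebra.adjoin k ({x} : Set E))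
    (IntermediateField.adjoin k ({x} : Set E)) (nonZeroDivisors _)
    (linearIndependent_algebraAdjoin A hx ha)

theorem linearDisjoint_adjoin (A : IntermediateField k E) {x : E} (hx : Transcendental A x) :
    A.LinearDisjoint (IntermediateField.adjoin k ({x} : Set E)) :=
  IntermediateField.LinearDisjoint.of_basis_left (Module.Free.chooseBasis k A)
    (linearIndependent_adjoin A hx (Module.Free.chooseBasis k A).linearIndependent)

/-- Two intermediate fields (over possibly different base fields) with the same carrier have the same
codegree. -/
theorem finrank_eq_of_coe_eq {F₁ F₂ : Type*} [Field F₁] [Field F₂] [Algebra F₁ E] [Algebra F₂ E]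
    (S₁ : IntermediateField F₁ E) (S₂ : IntermediateField F₂ E) (h : ∀ a : E, a ∈ S₁ ↔ a ∈ S₂) :
    Module.finrank S₁ E = Module.finrank S₂ E := by
  let i : S₁ ≃+* S₂ :=
    { toFun := fun a => ⟨a.1, (h a.1).mp a.2⟩
      invFun := fun a => ⟨a.1, (h a.1).mpr a.2⟩
      left_inv := fun _ => rfl
      right_inv := fun _ => rfl
      map_mul' := fun _ _ => rfl
      map_add' := fun _ _ => rfl }
  exact Algebra.finrank_eq_of_equiv_equiv i (RingEquiv.refl E) (by ext a; rfl)

/-- `[E : k(x)] = [A : k] [E : A(x)]`. -/
theorem finrank_adjoin_eq_mul (A : IntermediateField k E) [Algebra.IsAlgebraic k A] {x : E}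
    (hx : Transcendental A x) :
    Module.finrank (IntermediateField.adjoin k ({x} : Set E)) E =
      Module.finrank k A * Module.finrank (IntermediateField.adjoin A ({x} : Set E)) E := by
  set L := IntermediateField.adjoin k ({x} : Set E) with hL
  have H := linearDisjoint_adjoin A hx
  have h1 : Module.finrank L (IntermediateField.adjoin L (A : Set E)) = Module.finrank k A :=
    congrArg Cardinal.toNat H.adjoin_rank_eq_rank_left_of_isAlgebraic_left
  have h2 := Module.finrank_mul_finrank L (IntermediateField.adjoin L (A : Set E)) E
  have hxL : x ∈ L := IntermediateField.subset_adjoin k _ rfl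
  have h3 : Module.finrank (IntermediateField.adjoin L (A : Set E)) E =
      Module.finrank (IntermediateField.adjoin A ({x} : Set E)) E := by
    apply finrank_eq_of_coe_eq
    intro a
    constructor
    · intro ha
      -- `adjoin L A ≤ adjoin A {x}` (as sets)
      let T : IntermediateField L E :=
        { (IntermediateField.adjoin A ({x} : Set E)).toSubfield with
          algebraMap_mem' := by
            intro c
            have hle : L ≤ (IntermediateField.adjoin A ({x} : Set E)).restrictScalars k := by
              rw [hL, IntermediateField.adjoin_le_iff]
              rintro _ rfl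
              exact IntermediateField.subset_adjoin _ _ rfl
            exact hle c.2 }
      have hle : IntermediateField.adjoin L (A : Set E) ≤ T := by
        rw [IntermediateField.adjoin_le_iff]
        intro c hc
        exact (IntermediateField.adjoin A ({x} : Set E)).algebraMap_mem ⟨c, hc⟩
      exact hle ha
    · intro ha
      let T : IntermediateField A E :=
        { (IntermediateField.adjoin L (A : Set E)).toSubfield with
          algebraMap_mem' := by
            intro c
            exact IntermediateField.subset_adjoin L _ c.2 }
      have hle : IntermediateField.adjoin A ({x} : Set E) ≤ T := by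
        rw [IntermediateField.adjoin_le_iff]
        intro y hy
        rw [Set.mem_singleton_iff] at hy
        rw [hy]
        exact (IntermediateField.adjoin L (A : Set E)).algebraMap_mem ⟨x, hxL⟩
      exact hle ha
  rw [← h2, h1, h3]

end Groth.Agent.Lib.Helper24.FFExt
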