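import Groth.Agent.Lib.Helper24.FFExt.ConstField
import Groth.Agent.Lib.Helper24.FFExt.RatDeg

/-! # The degree theorem for weak function fields (constant field not assumed exact) (helper24) -/

set_option autoImplicit false

namespace Groth.Agent.Lib.Helper24.FFExt

open FunFld WithZero IntermediateField Groth.Agent.Lib.Helper18.FF

variable {k K' : Type*} [Field k] [Field K'] [Algebra k K']

theorem transcendental_kc {x : K'} (hx : Transcendental k x) :
    Transcendental (algebraicClosure k K') x := fun halg => hx (halg.restrictScalars k)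

theorem finite_zeros_weak {x : K'} (hx : Transcendental k x)
    (hfin : FiniteDimensional (IntermediateField.adjoin k ({x} : Set K')) K') :
    {Q : Place k K' | Q.1 x < 1}.Finite := by
  have hKc := isFunctionField_kc hx hfin
  have h := finite_zeros hKc (transcendental_kc hx)
  have : {Q : Place k K' | Q.1 x < 1} = toKc ⁻¹' {Q' | Q'.1 x < 1} := rfl
  rw [this]
  exact h.preimage toKc_injective.injOn

theorem finite_poles_weak {x : K'} (hx : Transcendental k x)
    (hfin : FiniteDimensional (IntermediateField.adjoin k ({x} : Set K')) K') :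
    {Q : Place k K' | 1 < Q.1 x}.Finite := by
  have hKc := isFunctionField_kc hx hfin
  have h := finite_poles hKc (transcendental_kc hx)
  have : {Q : Place k K' | 1 < Q.1 x} = toKc ⁻¹' {Q' | 1 < Q'.1 x} := rfl
  rw [this]
  exact h.preimage toKc_injective.injOn

/-- The degree theorem: `∑_{Q a zero of x} ord_Q x · deg Q = [K' : k(x)]`, degrees over `k`. -/
theorem sum_zeros_weak {x : K'} (hx : Transcendental k x)
    (hfin : FiniteDimensional (IntermediateField.adjoin k ({x} : Set K')) K')
    (S : Finset (Place k K')) (hS : ∀ Q, Q ∈ S ↔ Q.1 x < 1) :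
    ∑ Q ∈ S, Q.ord x * (Q.deg : ℤ) =
      Module.finrank (IntermediateField.adjoin k ({x} : Set K')) K' := by
  classical
  have hKc := isFunctionField_kc hx hfin
  have hx' := transcendental_kc hx
  have hx0 : x ≠ 0 := by
    rintro rfl
    exact hx ⟨Polynomial.X, Polynomial.X_ne_zero, by simp⟩
  have h1 := deg_zeroDiv_eq hKc hx'
  have h2 := sum_zeros_eq_deg_zeroDiv hKc x
  have hT : ((FunFld.div (algebraicClosure k K') x).support.filter
      (fun Q' => 0 < FunFld.div (algebraicClosure k K') x Q')) = S.image toKc := by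
    ext Q'
    rw [Finset.mem_filter, Finsupp.mem_support_iff, div_apply hKc, Finset.mem_image]
    constructor
    · rintro ⟨-, hpos⟩
      refine ⟨ofKc Q', (hS _).mpr ?_, rfl⟩
      exact (val_lt_one_iff_ord_pos Q' hx0).mpr hpos
    · rintro ⟨Q, hQ, rfl⟩
      have := (val_lt_one_iff_ord_pos (toKc Q) hx0).mp ((hS Q).mp hQ)
      exact ⟨this.ne', this⟩
  rw [hT, Finset.sum_image (fun a _ b _ h => toKc_injective h)] at h2
  rw [finrank_adjoin_eq_mul (algebraicClosure k K') hx', Nat.cast_mul, ← h1, ← h2, Finset.mul_sum]
  refine Finset.sum_congr rfl fun Q _ => ?_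
  rw [div_apply hKc, toKc_ord, deg_eq_mul_deg_toKc Q, Nat.cast_mul]
  ring

end Groth.Agent.Lib.Helper24.FFExt
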