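import Groth.Agent.Lib.Helper24.FFExt.ASPole
import Groth.Agent.Lib.Helper18.FF.StrongApprox
import Groth.Agent.Lib.Helper18.FF.Rational

/-! # Repartition classes in an Artin–Schreier double cover -/

set_option autoImplicit false
set_option linter.style.haveILetI false

namespace Groth.Agent.Lib.Helper24.FFExt

open FunFld WithZero IntermediateField Polynomial Groth.Agent.Lib.Helper18.FF

universe u v

section general

variable {k : Type u} {K : Type v} [Field k] [Field K] [Algebra k K]
  [Algebra (RatFunc k) K] [IsScalarTower k (RatFunc k) K]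

/-- If `Q` is the only place of `K` over the place `p` of `k(x)`, then any repartition supported at
`Q` with value in `k(x)` lies in `A(0) + K`. -/
theorem single_algebraMap_mem [DecidableEq (Place k K)] [DecidableEq (Place k (RatFunc k))]
    [Algebra.IsAlgebraic (RatFunc k) K]
    {Q : Place k K} {p : Place k (RatFunc k)} (hQ : IsOver Q p)
    (huniq : ∀ P : Place k K, IsOver P p → P = Q) (h : RatFunc k) :
    (Pi.single Q (algebraMap (RatFunc k) K h) : Place k K → K) ∈
      (AD (0 : Divisor k K) ⊔ LinearMap.range (diag k K)) := by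
  have hK₀ : IsFunctionField k (RatFunc k) := isFunctionField_ratFunc
  have hg : genus k (RatFunc k) = 0 :=
    genus_eq_zero_of_deg_poleDiv_eq_one hK₀ RatFunc.transcendental_X deg_poleDiv_X
  have hδ : delta (0 : Divisor k (RatFunc k)) = genus k (RatFunc k) := by
    rw [delta_zero hK₀, hg]; rfl
  obtain ⟨z, hz⟩ := exists_sub_mem_AD hK₀ hδ (single_mem_adele p h)
  have hb : (Pi.single Q (algebraMap (RatFunc k) K h) - diag k K (algebraMap (RatFunc k) K z) :
      Place k K → K) ∈ AD (0 : Divisor k K) := by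
    intro P
    show P.1 ((Pi.single Q (algebraMap (RatFunc k) K h) - diag k K (algebraMap (RatFunc k) K z) :
      Place k K → K) P) ≤ exp ((0 : Divisor k K) P)
    rw [Pi.sub_apply, diag_apply, Finsupp.zero_apply, exp_zero]
    by_cases hPQ : P = Q
    · subst hPQ
      rw [Pi.single_eq_same, ← map_sub, isOver_le_one_iff hQ, ← Valuation.map_sub_swap]
      have := hz p
      rwa [Pi.single_eq_same, Finsupp.zero_apply, exp_zero] at this
    · rw [Pi.single_eq_of_ne hPQ, zero_sub, Valuation.map_neg]
      obtain ⟨p', hp'⟩ := exists_isOver (K := RatFunc k) (K' := K) hK₀ P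
      rw [isOver_le_one_iff hp']
      have hne : p' ≠ p := by
        rintro rfl
        exact hPQ (huniq P hp')
      have := hz p'
      rwa [Pi.single_eq_of_ne hne, sub_zero, Finsupp.zero_apply, exp_zero] at this
  have : (Pi.single Q (algebraMap (RatFunc k) K h) : Place k K → K) =
      (Pi.single Q (algebraMap (RatFunc k) K h) - diag k K (algebraMap (RatFunc k) K z)) +
        diag k K (algebraMap (RatFunc k) K z) := by
    rw [sub_add_cancel]
  rw [this]
  exact Submodule.add_mem_sup hb ⟨_, rfl⟩

end general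

section as

variable {k : Type u} {K : Type v} [Field k] [IsAlgClosed k] [CharP k 2] [Field K] [Algebra k K]
  [Algebra (RatFunc k) K] [IsScalarTower k (RatFunc k) K]

variable (hK : IsFunctionField k K) (hdeg : Module.finrank (RatFunc k) K = 2)
  {y : K} (hy : y ∉ Set.range (algebraMap (RatFunc k) K)) {f : RatFunc k}
  (heq : y ^ 2 + y = algebraMap (RatFunc k) K f)
  {B : Finset k} {d : k → ℕ} (hd : ∀ β ∈ B, Odd (d β))
  (hpole : ∀ (p : Place k (RatFunc k)) (β : k), β ∈ B →
    p.1 ((RatFunc.X : RatFunc k) - RatFunc.C β) < 1 → p.ord f = -(d β : ℤ))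

include hdeg hy heq hd hpole in
/-- A repartition supported at a place over a pole `x = β`, with value in `k(x)`, lies in
`A(0) + K`. -/
theorem as_single_algebraMap_mem [DecidableEq (Place k K)] {β : k} (hβ : β ∈ B) {Q : Place k K}
    (hQ : Q.1 (algebraMap (RatFunc k) K RatFunc.X - algebraMap k K β) < 1) (h : RatFunc k) :
    (Pi.single Q (algebraMap (RatFunc k) K h) : Place k K → K) ∈
      (AD (0 : Divisor k K) ⊔ LinearMap.range (diag k K)) := by
  classical
  have hK₀ : IsFunctionField k (RatFunc k) := isFunctionField_ratFunc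
  haveI : FiniteDimensional (RatFunc k) K := Module.finite_of_finrank_pos (by rw [hdeg]; norm_num)
  haveI := as_isSeparable hdeg hy heq
  have h2 : ringChar k = 2 := ringChar.eq k 2
  obtain ⟨p, hp⟩ := exists_isOver (K := RatFunc k) (K' := K) hK₀ Q
  rw [sub_const_eq] at hQ
  have hpβ : p.1 ((RatFunc.X : RatFunc k) - RatFunc.C β) < 1 := (isOver_lt_one_iff hp _).mp hQ
  have hord := hpole p β hβ hpβ
  have hdpos : 0 < d β := (hd β hβ).pos
  have hneg : p.ord f < 0 := by rw [hord]; exact_mod_cast (by omega : -(d β : ℤ) < 0)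
  have hodd : Odd (p.ord f) := by
    rw [hord]
    exact (by exact_mod_cast hd β hβ : Odd (d β : ℤ)).neg
  obtain ⟨⟨Q', hQ', huniq⟩, -⟩ :=
    (Groth.Agent.S12519.result k K h2 hdeg y hy f heq p).1 ⟨hneg, hodd⟩
  have hQQ' : Q = Q' := huniq Q hp
  refine single_algebraMap_mem hp (fun P hP => ?_) h
  rw [hQQ']
  exact huniq P hP

include hK hdeg hy heq hd hpole in
theorem as_frobenius_class [DecidableEq (Place k K)] {α : k} (hα : α ∈ B) {Q : Place k K}
    (hQ : Q.1 (algebraMap (RatFunc k) K RatFunc.X - algebraMap k K α) < 1) (j : ℕ) :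
    ((Pi.single Q ((y * (algebraMap (RatFunc k) K RatFunc.X - algebraMap k K α) ^ j) ^ 2) :
        Place k K → K) -
      (Pi.single Q (y * (algebraMap (RatFunc k) K RatFunc.X - algebraMap k K α) ^ (2 * j)) :
        Place k K → K) ∈ (AD (0 : Divisor k K) ⊔ LinearMap.range (diag k K))) ∧
    (d α < 4 * j + 1 →
      (Pi.single Q ((y * (algebraMap (RatFunc k) K RatFunc.X - algebraMap k K α) ^ j) ^ 2) :
        Place k K → K) ∈ (AD (0 : Divisor k K) ⊔ LinearMap.range (diag k K))) := by
  set t : K := algebraMap (RatFunc k) K RatFunc.X - algebraMap k K α with ht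
  have hchar : (2 : K) = 0 := by
    haveI : CharP K 2 := (algebraMap k K).charP_iff_charP 2 |>.mp inferInstance
    exact CharTwo.two_eq_zero
  have hkey : (y * t ^ j) ^ 2 - y * t ^ (2 * j) =
      algebraMap (RatFunc k) K (f * (RatFunc.X - RatFunc.C α) ^ (2 * j)) := by
    rw [map_mul, map_pow, ← heq, ← sub_const_eq, ← ht]
    have : y ^ 2 + y = y ^ 2 - y + 2 * y := by ring
    rw [this, hchar]
    ring
  have h1 : (Pi.single Q ((y * t ^ j) ^ 2) : Place k K → K) - Pi.single Q (y * t ^ (2 * j)) ∈
      (AD (0 : Divisor k K) ⊔ LinearMap.range (diag k K)) := by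
    rw [← Pi.single_sub, hkey]
    exact as_single_algebraMap_mem hdeg hy heq hd hpole hα hQ _
  refine ⟨h1, fun hlt => ?_⟩
  have h2 : (Pi.single Q (y * t ^ (2 * j)) : Place k K → K) ∈ AD (0 : Divisor k K) := by
    intro P
    show P.1 ((Pi.single Q (y * t ^ (2 * j)) : Place k K → K) P) ≤ exp ((0 : Divisor k K) P)
    rw [Finsupp.zero_apply, exp_zero]
    by_cases hPQ : P = Q
    · subst hPQ
      obtain ⟨hy1, ht1⟩ := as_fin_pole_data hK hdeg hy heq hd hpole hα hQ
      rw [← ht] at ht1
      rw [Pi.single_eq_same, map_mul, map_pow, hy1, ht1, ← exp_nsmul, ← exp_add,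
        ← exp_zero, exp_le_exp]
      simp only [smul_eq_mul, nsmul_eq_mul]
      push_cast
      omega
    · rw [Pi.single_eq_of_ne hPQ, map_zero]
      exact zero_le'
  have : (Pi.single Q ((y * t ^ j) ^ 2) : Place k K → K) =
      (Pi.single Q ((y * t ^ j) ^ 2) - Pi.single Q (y * t ^ (2 * j))) +
        Pi.single Q (y * t ^ (2 * j)) := by rw [sub_add_cancel]
  rw [this]
  exact Submodule.add_mem _ h1 (Submodule.mem_sup_left h2)

end as

end Groth.Agent.Lib.Helper24.FFExt
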