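import Groth.Agent.Lib.Helper24.FFExt.ASGenus

/-! # Pole divisors in an Artin–Schreier double cover with poles at a finite set of points -/

set_option autoImplicit false
set_option linter.style.haveILetI false

namespace Groth.Agent.Lib.Helper24.FFExt

open FunFld WithZero IntermediateField Polynomial Groth.Agent.Lib.Helper18.FF

universe u v

section general

variable {k : Type u} {K : Type v} [Field k] [Field K] [Algebra k K]

theorem ord_zpow (P : Place k K) (x : K) (j : ℤ) : P.ord (x ^ j) = j * P.ord x := by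
  rw [Place.ord, Place.ord, map_zpow₀, log_zpow, smul_eq_mul]
  ring

theorem ord_eq_zero_of_val_eq_one (P : Place k K) {x : K} (h : P.1 x = 1) : P.ord x = 0 := by
  rw [Place.ord, h, log_one, neg_zero]

theorem val_sub_const_of_one_lt (P : Place k K) {x : K} (hx : 1 < P.1 x) (c : k) :
    P.1 (x - algebraMap k K c) = P.1 x := by
  have h1 : P.1 (algebraMap k K c) < P.1 x := lt_of_le_of_lt (P.2.1 c) hx
  exact Valuation.map_sub_eq_of_lt_left _ h1

theorem val_sub_const_eq_one (P : Place k K) {x : K} {b a : k} (hab : b ≠ a)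
    (hx : P.1 (x - algebraMap k K b) < 1) : P.1 (x - algebraMap k K a) = 1 := by
  have h1 : x - algebraMap k K a = (x - algebraMap k K b) + algebraMap k K (b - a) := by
    rw [map_sub]; ring
  have h2 : P.1 (algebraMap k K (b - a)) = 1 := val_algebraMap P (sub_ne_zero.mpr hab)
  rw [h1, Valuation.map_add_eq_of_lt_right _ (by rw [h2]; exact hx), h2]

end general

section as

variable {k : Type u} {K : Type v} [Field k] [IsAlgClosed k] [CharP k 2] [Field K] [Algebra k K]
  [Algebra (RatFunc k) K] [IsScalarTower k (RatFunc k) K]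

omit [IsAlgClosed k] [CharP k 2] in
theorem sub_const_eq (β : k) :
    algebraMap (RatFunc k) K RatFunc.X - algebraMap k K β =
      algebraMap (RatFunc k) K (RatFunc.X - RatFunc.C β) := by
  rw [map_sub, IsScalarTower.algebraMap_apply k (RatFunc k) K, RatFunc.algebraMap_eq_C]

omit [IsAlgClosed k] [CharP k 2] in
theorem ord_nonneg_of_val_le_one (p : Place k (RatFunc k)) {f : RatFunc k} (h : p.1 f ≤ 1) :
    0 ≤ p.ord f := by
  rcases eq_or_ne f 0 with rfl | hf0
  · rw [ord_zero]
  · exact (val_le_one_iff_ord_nonneg p hf0).mp h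

variable (hK : IsFunctionField k K) (hdeg : Module.finrank (RatFunc k) K = 2)
  {y : K} (hy : y ∉ Set.range (algebraMap (RatFunc k) K)) {f : RatFunc k}
  (heq : y ^ 2 + y = algebraMap (RatFunc k) K f)
  {B : Finset k} {d : k → ℕ} (hd : ∀ β ∈ B, Odd (d β))
  (hpole : ∀ (p : Place k (RatFunc k)) (β : k), β ∈ B →
    p.1 ((RatFunc.X : RatFunc k) - RatFunc.C β) < 1 → p.ord f = -(d β : ℤ))
  (hint : ∀ p : Place k (RatFunc k),
    (∀ β ∈ B, 1 ≤ p.1 ((RatFunc.X : RatFunc k) - RatFunc.C β)) → p.1 f ≤ 1)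

include hK hdeg hy heq hd hpole in
theorem as_fin_pole_data {β : k} (hβ : β ∈ B) {P : Place k K}
    (hP : P.1 (algebraMap (RatFunc k) K RatFunc.X - algebraMap k K β) < 1) :
    P.1 y = exp (d β : ℤ) ∧
      P.1 (algebraMap (RatFunc k) K RatFunc.X - algebraMap k K β) = exp (-2 : ℤ) := by
  have hK₀ : IsFunctionField k (RatFunc k) := isFunctionField_ratFunc
  haveI : FiniteDimensional (RatFunc k) K := Module.finite_of_finrank_pos (by rw [hdeg]; norm_num)
  have h2 : ringChar k = 2 := ringChar.eq k 2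
  obtain ⟨p, hp⟩ := exists_isOver (K := RatFunc k) (K' := K) hK₀ P
  rw [sub_const_eq] at hP ⊢
  have hpβ : p.1 ((RatFunc.X : RatFunc k) - RatFunc.C β) < 1 := (isOver_lt_one_iff hp _).mp hP
  have hord := hpole p β hβ hpβ
  have hdpos : 0 < d β := (hd β hβ).pos
  have hneg : p.ord f < 0 := by rw [hord]; exact_mod_cast (by omega : -(d β : ℤ) < 0)
  have hodd : Odd (p.ord f) := by
    rw [hord]
    exact (by exact_mod_cast hd β hβ : Odd (d β : ℤ)).neg
  obtain ⟨he2, hPy⟩ := as_pole_data h2 hdeg hy heq hneg hodd hp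
  have hf0 : f ≠ 0 := by
    rintro rfl
    rw [ord_zero] at hneg
    exact lt_irrefl _ hneg
  refine ⟨?_, ?_⟩
  · rw [hPy, val_eq_exp_neg_ord p hf0, hord, neg_neg]
  · have hirr : Irreducible (X - C β : k[X]) := irreducible_X_sub_C β
    have hXC : algebraMap k[X] (RatFunc k) (X - C β) = RatFunc.X - RatFunc.C β := by
      rw [map_sub, RatFunc.algebraMap_X, RatFunc.algebraMap_C]
    have hv := val_irreducible_eq p hirr (by rw [hXC]; exact hpβ)
    rw [hXC] at hv
    rw [he2, hv, ← exp_nsmul]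
    congr 1

include hK hdeg hy heq hint in
theorem as_inf_data {P : Place k K} (hP : 1 < P.1 (algebraMap (RatFunc k) K RatFunc.X)) :
    P.1 y ≤ 1 ∧ P.1 (algebraMap (RatFunc k) K RatFunc.X) = exp (1 : ℤ) := by
  have hK₀ : IsFunctionField k (RatFunc k) := isFunctionField_ratFunc
  haveI : FiniteDimensional (RatFunc k) K := Module.finite_of_finrank_pos (by rw [hdeg]; norm_num)
  have h2 : ringChar k = 2 := ringChar.eq k 2
  haveI := as_isSeparable hdeg hy heq
  obtain ⟨p, hp⟩ := exists_isOver (K := RatFunc k) (K' := K) hK₀ P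
  have hpX : 1 < p.1 RatFunc.X := by
    by_contra hle
    push Not at hle
    exact absurd ((isOver_le_one_iff hp _).mpr hle) (not_le.mpr hP)
  have hpf : p.1 f ≤ 1 := by
    refine hint p fun β _ => ?_
    have h1 : RatFunc.C β = algebraMap k (RatFunc k) β := (RatFunc.algebraMap_eq_C (K := k) ▸ rfl)
    rw [h1, val_sub_const_of_one_lt p hpX]
    exact hpX.le
  have hnn := ord_nonneg_of_val_le_one p hpf
  refine ⟨as_val_y_le_one heq hnn hp, ?_⟩
  have he1 : IsOverWith P p 1 :=
    (Groth.Agent.S12519.result k K h2 hdeg y hy f heq p).2 hnn P hp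
  rw [he1, pow_one, val_X_inf p hpX]

include hK hdeg heq hint in
theorem as_other_data {P : Place k K} (hx : P.1 (algebraMap (RatFunc k) K RatFunc.X) ≤ 1)
    (hB : ∀ β ∈ B, 1 ≤ P.1 (algebraMap (RatFunc k) K RatFunc.X - algebraMap k K β)) :
    P.1 y ≤ 1 := by
  have hK₀ : IsFunctionField k (RatFunc k) := isFunctionField_ratFunc
  haveI : FiniteDimensional (RatFunc k) K := Module.finite_of_finrank_pos (by rw [hdeg]; norm_num)
  obtain ⟨p, hp⟩ := exists_isOver (K := RatFunc k) (K' := K) hK₀ P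
  have hpf : p.1 f ≤ 1 := by
    refine hint p fun β hβ => ?_
    have h1 := hB β hβ
    rw [sub_const_eq] at h1
    by_contra hlt
    push Not at hlt
    exact absurd ((isOver_lt_one_iff hp _).mpr hlt) (not_lt.mpr h1)
  exact as_val_y_le_one heq (ord_nonneg_of_val_le_one p hpf) hp

include hK hdeg hy heq hd hpole hint in
theorem as_poleDivisor_y_mul_zpow :
    (∀ P : Place k K, 1 < P.1 (algebraMap (RatFunc k) K RatFunc.X) → 0 ≤ P.ord y) ∧
    (∃ P : Place k K, 1 < P.1 (algebraMap (RatFunc k) K RatFunc.X) ∧ P.ord y = 0) ∧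
    ∀ (α : k), α ∈ B → ∀ (j : ℤ) (P : Place k K),
      (P.1 ((algebraMap (RatFunc k) K RatFunc.X) - (algebraMap k K α)) < 1 →
        max (-(P.ord (y * ((algebraMap (RatFunc k) K RatFunc.X) - (algebraMap k K α)) ^ j))) 0 =
          max ((d α : ℤ) - 2 * j) 0) ∧
      (∀ β : k, β ∈ B → β ≠ α →
        P.1 ((algebraMap (RatFunc k) K RatFunc.X) - (algebraMap k K β)) < 1 →
        P.ord (y * ((algebraMap (RatFunc k) K RatFunc.X) - (algebraMap k K α)) ^ j) =
          -(d β : ℤ)) ∧
      (1 < P.1 (algebraMap (RatFunc k) K RatFunc.X) →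
        max (-(P.ord (y * ((algebraMap (RatFunc k) K RatFunc.X) - (algebraMap k K α)) ^ j))) 0 =
          max (j - P.ord y) 0) ∧
      (P.1 (algebraMap (RatFunc k) K RatFunc.X) ≤ 1 →
        (∀ β : k, β ∈ B → 1 ≤ P.1 ((algebraMap (RatFunc k) K RatFunc.X) - (algebraMap k K β))) →
        0 ≤ P.ord (y * ((algebraMap (RatFunc k) K RatFunc.X) - (algebraMap k K α)) ^ j)) := by
  classical
  set x : K := algebraMap (RatFunc k) K RatFunc.X with hx
  have hy0 : y ≠ 0 := by
    rintro rfl
    exact hy ⟨0, map_zero _⟩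
  have hxk : x ∉ Set.range (algebraMap k K) := by
    rintro ⟨c, hc⟩
    have htr : Transcendental k x :=
      (transcendental_algebraMap_iff (algebraMap (RatFunc k) K).injective).mpr
        RatFunc.transcendental_X
    exact htr (hc ▸ isAlgebraic_algebraMap c)
  have hxa0 : ∀ a : k, x - algebraMap k K a ≠ 0 := by
    intro a h0
    exact hxk ⟨a, (sub_eq_zero.mp h0).symm⟩
  have hordmul : ∀ (P : Place k K) (a : k) (j : ℤ),
      P.ord (y * (x - algebraMap k K a) ^ j) = P.ord y + j * P.ord (x - algebraMap k K a) := by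
    intro P a j
    rw [ord_mul P hy0 (zpow_ne_zero _ (hxa0 a)), ord_zpow]
  refine ⟨fun P hP => ?_, ?_, ?_⟩
  · exact (val_le_one_iff_ord_nonneg P hy0).mp (as_inf_data hK hdeg hy heq hint hP).1
  · obtain ⟨P, hP⟩ := exists_pole hK hxk
    have hPy := (as_inf_data hK hdeg hy heq hint hP).1
    rcases hPy.lt_or_eq with hlt | heq1
    · obtain ⟨σ, hσ⟩ := as_exists_involution hdeg hy heq
      refine ⟨placeComap σ P, ?_, ?_⟩
      · rw [placeComap_val, σ.commutes]
        exact hP
      · refine ord_eq_zero_of_val_eq_one _ ?_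
        rw [placeComap_val, hσ]
        have h1 : P.1 y < P.1 (1 : K) := by rw [map_one]; exact hlt
        rw [Valuation.map_add_eq_of_lt_right _ h1, map_one]
    · exact ⟨P, hP, ord_eq_zero_of_val_eq_one P heq1⟩
  · intro α hα j P
    refine ⟨fun hP => ?_, fun β hβ hβα hP => ?_, fun hP => ?_, fun hP hB => ?_⟩
    · obtain ⟨h1, h3⟩ := as_fin_pole_data hK hdeg hy heq hd hpole hα hP
      rw [hordmul, ord_eq_of_val_eq_exp P h1, ord_eq_of_val_eq_exp P h3]
      congr 1
      ring
    · obtain ⟨h1, -⟩ := as_fin_pole_data hK hdeg hy heq hd hpole hβ hP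
      have h3 := val_sub_const_eq_one P hβα hP
      rw [hordmul, ord_eq_of_val_eq_exp P h1, ord_eq_zero_of_val_eq_one P h3, mul_zero, add_zero]
    · obtain ⟨-, h3⟩ := as_inf_data hK hdeg hy heq hint hP
      have h4 : P.1 (x - algebraMap k K α) = exp (1 : ℤ) := by
        rw [val_sub_const_of_one_lt P hP, h3]
      rw [hordmul, ord_eq_of_val_eq_exp P h4]
      congr 1
      ring
    · have h1 := as_other_data hK hdeg heq hint hP hB
      have h3 : P.1 (x - algebraMap k K α) = 1 := by
        refine le_antisymm ?_ (hB α hα)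
        exact (Valuation.map_sub _ _ _).trans (max_le hP (P.2.1 α))
      rw [hordmul, ord_eq_zero_of_val_eq_one P h3, mul_zero, add_zero]
      exact (val_le_one_iff_ord_nonneg P hy0).mp h1

end as

end Groth.Agent.Lib.Helper24.FFExt
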