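import Groth.Agent.Lib.Helper24.FFExt.ASRegDiff
import Groth.Agent.Lib.Helper24.FFExt.ASPole

/-! # The partial-fraction basis of regular differentials of an Artin–Schreier double cover -/

set_option autoImplicit false
set_option linter.style.haveILetI false

namespace Groth.Agent.Lib.Helper24.FFExt

open FunFld LocRes LaurentSeries WithZero IntermediateField Polynomial
  Groth.Agent.Lib.Helper18.FF

universe u v w

section general

variable {k : Type u} {K : Type v} [Field k] [Field K] [Algebra k K]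

/-- If `∑ cᵢ zᵢ = 0`, the `zᵢ` (`i ∈ S`) have pairwise distinct valuations `> 1` at `P` and all
other terms are integral at `P`, then `cᵢ = 0` for `i ∈ S`. -/
theorem coeff_eq_zero_of_val_gt {ι : Type*} [Fintype ι] (P : Place k K) (z : ι → K) (c : ι → k)
    (S : Set ι) (hS : ∀ i ∈ S, 1 < P.1 (z i))
    (hinj : ∀ i ∈ S, ∀ j ∈ S, P.1 (z i) = P.1 (z j) → i = j)
    (hrest : ∀ i, i ∉ S → P.1 (c i • z i) ≤ 1)
    (h : ∑ i, c i • z i = 0) : ∀ i ∈ S, c i = 0 := by
  classical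
  by_contra hcon
  push Not at hcon
  have hne : (Finset.univ.filter (fun i => i ∈ S ∧ c i ≠ 0)).Nonempty := by
    obtain ⟨i, hiS, hi⟩ := hcon
    exact ⟨i, by simp [hi, hiS]⟩
  obtain ⟨i₀, hi₀, hmax⟩ := Finset.exists_max_image _ (fun i => P.1 (z i)) hne
  have hi₀S : i₀ ∈ S := (Finset.mem_filter.mp hi₀).2.1
  have hc₀ : c i₀ ≠ 0 := (Finset.mem_filter.mp hi₀).2.2
  have hv₁ : 1 < P.1 (z i₀) := hS i₀ hi₀S
  have hv₀ : P.1 (z i₀) ≠ 0 := (zero_lt_one.trans hv₁).ne'
  have hsplit : ∑ i, c i • z i = c i₀ • z i₀ + ∑ i ∈ Finset.univ.erase i₀, c i • z i := by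
    exact (Finset.add_sum_erase Finset.univ (fun i => c i • z i) (Finset.mem_univ i₀)).symm
  have hrest' : P.1 (∑ i ∈ Finset.univ.erase i₀, c i • z i) < P.1 (z i₀) := by
    apply Valuation.map_sum_lt _ hv₀
    intro i hi
    have hii₀ : i ≠ i₀ := (Finset.mem_erase.mp hi).1
    by_cases hiS : i ∈ S
    · by_cases hci : c i = 0
      · rw [hci, zero_smul, map_zero]; exact zero_lt_iff.mpr hv₀
      · rw [val_smul P hci]
        have hle := hmax i (Finset.mem_filter.mpr ⟨Finset.mem_univ i, hiS, hci⟩)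
        exact lt_of_le_of_ne hle (fun heq => hii₀ (hinj i hiS i₀ hi₀S heq))
    · exact lt_of_le_of_lt (hrest i hiS) hv₁
  have hval : P.1 (∑ i, c i • z i) = P.1 (z i₀) := by
    rw [hsplit, Valuation.map_add_eq_of_lt_left _ (by rw [val_smul P hc₀]; exact hrest'),
      val_smul P hc₀]
  rw [h, map_zero] at hval
  exact hv₀ hval.symm

end general

section as

variable {k : Type u} {K : Type v} [Field k] [Field K] [Algebra k K] [Algebra (RatFunc k) K]
  [IsScalarTower k (RatFunc k) K] {F : Type w} [Field F] [Algebra k F]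

/-- `a(x) dx / q(x)` is regular when `deg a < g`. -/
theorem as_regular_of_natDegree_lt [PerfectField k] (hK : IsFunctionField k K)
    (h2 : ringChar k = 2)
    (hdeg : Module.finrank (RatFunc k) K = 2) {y : K}
    (hy : y ∉ Set.range (algebraMap (RatFunc k) K)) {f : RatFunc k}
    (heq : y ^ 2 + y = algebraMap (RatFunc k) K f)
    (hodd : ∀ p : Place k (RatFunc k), p.ord f < 0 → Odd (p.ord f))
    {q : k[X]} (hq0 : q ≠ 0)
    (hq : ∀ p : Place k (RatFunc k), p.1 RatFunc.X ≤ 1 →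
      p.ord (algebraMap k[X] (RatFunc k) q) = asE f p)
    (P : Place k K) (ψ : K →ₐ[k] F⸨X⸩) (hψ : IsExpansionAt P.1 ψ)
    {a : k[X]} (ha : a.natDegree < genus k K) :
    vDiff ψ (algebraMap (RatFunc k) K
        (algebraMap k[X] (RatFunc k) a / algebraMap k[X] (RatFunc k) q))
      (algebraMap (RatFunc k) K RatFunc.X) ≤ 1 := by
  set x : K := algebraMap (RatFunc k) K RatFunc.X with hx
  set g := genus k K with hgdef
  set qx : K := aeval x q with hqx
  have hqx0 : qx ≠ 0 := fun h0 =>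
    hq0 (aeval_algebraMap_X_injective (by rw [← hqx, h0, map_zero]))
  have hkey := as_val_D_x hK h2 hdeg hy heq hodd hq0 hq P ψ hψ
  have hPq0 : P.1 qx ≠ 0 := (Valuation.ne_zero_iff _).mpr hqx0
  set M := max 1 (P.1 x) with hM
  have hM1 : (1 : ℤᵐ⁰) ≤ M := le_max_left _ _
  have hM0 : M ≠ 0 := (zero_lt_one.trans_le hM1).ne'
  have hMg0 : M ^ g ≠ 0 := pow_ne_zero _ hM0
  refine le_of_mul_le_mul_right ?_ (zero_lt_iff.mpr hMg0)
  have harg : algebraMap (RatFunc k) K
      (algebraMap k[X] (RatFunc k) a / algebraMap k[X] (RatFunc k) q) = aeval x a / qx := by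
    rw [map_div₀, algebraMap_poly, algebraMap_poly]
  rw [one_mul, vDiff, map_mul, hψ.1, harg, map_div₀, mul_assoc, hkey,
    div_mul_eq_mul_div, mul_div_assoc, mul_comm (P.1 qx), mul_div_assoc, div_self hPq0,
    mul_one]
  calc P.1 (aeval x a) * M ≤ M ^ a.natDegree * M :=
        mul_le_mul' (val_aeval_le_max_pow P x a) le_rfl
    _ = M ^ (a.natDegree + 1) := (pow_succ M _).symm
    _ ≤ M ^ g := pow_le_pow_right' hM1 ha

end as

section partialFraction

variable {k : Type u} [Field k]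

theorem rat_C_eq (β : k) : (RatFunc.C β : RatFunc k) = algebraMap k (RatFunc k) β :=
  (RatFunc.algebraMap_eq_C (K := k) ▸ rfl)

theorem rat_val_sub_eq_one (p : Place k (RatFunc k)) {α β : k} (hαβ : α ≠ β)
    (hp : p.1 ((RatFunc.X : RatFunc k) - RatFunc.C α) < 1) :
    p.1 ((RatFunc.X : RatFunc k) - RatFunc.C β) = 1 := by
  rw [rat_C_eq] at hp ⊢
  exact val_sub_const_eq_one p hαβ hp

theorem rat_val_sub_eq (p : Place k (RatFunc k)) {α : k}
    (hp : p.1 ((RatFunc.X : RatFunc k) - RatFunc.C α) < 1) :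
    p.1 ((RatFunc.X : RatFunc k) - RatFunc.C α) = exp (-1 : ℤ) := by
  have hirr : Irreducible (X - C α : k[X]) := irreducible_X_sub_C α
  have hXC : algebraMap k[X] (RatFunc k) (X - C α) = RatFunc.X - RatFunc.C α := by
    rw [map_sub, RatFunc.algebraMap_X, RatFunc.algebraMap_C]
  have hv := val_irreducible_eq p hirr (by rw [hXC]; exact hp)
  rwa [hXC] at hv

theorem rat_val_X_eq_one (p : Place k (RatFunc k)) {α : k} (hα : α ≠ 0)
    (hp : p.1 ((RatFunc.X : RatFunc k) - RatFunc.C α) < 1) :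
    p.1 (RatFunc.X : RatFunc k) = 1 := by
  have := rat_val_sub_eq_one p hα hp
  rwa [map_zero, sub_zero] at this

theorem val_fam_inl_same (p : Place k (RatFunc k)) {α : k}
    (hp : p.1 ((RatFunc.X : RatFunc k) - RatFunc.C α) < 1) (j : ℕ) :
    p.1 (((RatFunc.X : RatFunc k) - RatFunc.C α)⁻¹ ^ (j + 1)) = exp ((j : ℤ) + 1) := by
  rw [map_pow, map_inv₀, rat_val_sub_eq p hp, ← exp_neg, neg_neg, ← exp_nsmul]
  congr 1
  simp

theorem val_fam_inl_other (p : Place k (RatFunc k)) {α β : k} (hαβ : α ≠ β)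
    (hp : p.1 ((RatFunc.X : RatFunc k) - RatFunc.C α) < 1) (j : ℕ) :
    p.1 (((RatFunc.X : RatFunc k) - RatFunc.C β)⁻¹ ^ (j + 1)) = 1 := by
  rw [map_pow, map_inv₀, rat_val_sub_eq_one p hαβ hp, inv_one, one_pow]

theorem val_fam_inr_same (p : Place k (RatFunc k)) {α : k} (hα : α ≠ 0)
    (hp : p.1 ((RatFunc.X : RatFunc k) - RatFunc.C α) < 1) :
    p.1 (RatFunc.C α / ((RatFunc.X : RatFunc k) * (RatFunc.X - RatFunc.C α))) = exp (1 : ℤ) := by
  rw [map_div₀, map_mul, rat_val_X_eq_one p hα hp, rat_val_sub_eq p hp, rat_C_eq,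
    val_algebraMap p hα, one_mul, one_div, ← exp_neg, neg_neg]

theorem val_fam_inr_zero (p : Place k (RatFunc k)) {b : k} (hb : b ≠ 0)
    (hp : p.1 ((RatFunc.X : RatFunc k) - RatFunc.C 0) < 1) :
    p.1 (RatFunc.C b / ((RatFunc.X : RatFunc k) * (RatFunc.X - RatFunc.C b))) = exp (1 : ℤ) := by
  have h1 := rat_val_sub_eq p hp
  rw [map_zero, sub_zero] at h1
  rw [map_div₀, map_mul, h1, rat_val_sub_eq_one p hb.symm hp, rat_C_eq,
    val_algebraMap p hb, mul_one, one_div, ← exp_neg, neg_neg]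

theorem val_fam_inr_other (p : Place k (RatFunc k)) {α b : k} (hα : α ≠ 0) (hb : b ≠ 0)
    (hαb : α ≠ b)
    (hp : p.1 ((RatFunc.X : RatFunc k) - RatFunc.C α) < 1) :
    p.1 (RatFunc.C b / ((RatFunc.X : RatFunc k) * (RatFunc.X - RatFunc.C b))) = 1 := by
  rw [map_div₀, map_mul, rat_val_X_eq_one p hα hp, rat_val_sub_eq_one p hαb hp, rat_C_eq,
    val_algebraMap p hb, one_mul, _root_.div_one]

theorem exists_place_sub_lt_one (α : k) :
    ∃ p : Place k (RatFunc k), p.1 ((RatFunc.X : RatFunc k) - RatFunc.C α) < 1 := by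
  have hK₀ : IsFunctionField k (RatFunc k) := isFunctionField_ratFunc
  refine exists_zero hK₀ ?_
  rintro ⟨c, hc⟩
  have htr : Transcendental k (RatFunc.X : RatFunc k) := RatFunc.transcendental_X
  apply htr
  have : (RatFunc.X : RatFunc k) = algebraMap k (RatFunc k) (c + α) := by
    rw [map_add, hc, ← rat_C_eq]; ring
  rw [this]
  exact isAlgebraic_algebraMap _

variable (B : Finset k) (d : k → ℕ)

/-- The partial-fraction family in `k(x)`. -/
noncomputable def pfFam :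
    ({a : ↥B × ℕ // 1 ≤ a.2 ∧ 2 * a.2 + 1 ≤ d (a.1 : k)} ⊕ {b : ↥B // (b : k) ≠ 0}) → RatFunc k :=
  Sum.elim
    (fun a => ((RatFunc.X : RatFunc k) - RatFunc.C (a.1.1 : k))⁻¹ ^ (a.1.2 + 1))
    (fun b => RatFunc.C (b.1 : k) / ((RatFunc.X : RatFunc k) * (RatFunc.X - RatFunc.C (b.1 : k))))

instance pfIdx₁_finite : Finite {a : ↥B × ℕ // 1 ≤ a.2 ∧ 2 * a.2 + 1 ≤ d (a.1 : k)} := by
  have hfin : ({a : ↥B × ℕ | 1 ≤ a.2 ∧ 2 * a.2 + 1 ≤ d (a.1 : k)}).Finite := by
    refine ((Set.finite_univ (α := ↥B)).prod (Set.finite_Iic (B.sup d))).subset ?_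
    rintro ⟨α, j⟩ ⟨-, h2⟩
    refine ⟨Set.mem_univ _, ?_⟩
    have : d (α : k) ≤ B.sup d := Finset.le_sup α.2
    simp only [Set.mem_Iic]
    simp only at h2
    omega
  exact hfin.to_subtype

instance pfFam_finite :
    Finite ({a : ↥B × ℕ // 1 ≤ a.2 ∧ 2 * a.2 + 1 ≤ d (a.1 : k)} ⊕ {b : ↥B // (b : k) ≠ 0}) :=
  inferInstance

theorem card_pfIdx (h0 : (0 : k) ∈ B) (hd : ∀ α ∈ B, Odd (d α)) :
    Nat.card ({a : ↥B × ℕ // 1 ≤ a.2 ∧ 2 * a.2 + 1 ≤ d (a.1 : k)} ⊕ {b : ↥B // (b : k) ≠ 0}) + 1 =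
      ∑ α ∈ B, (d α + 1) / 2 := by
  classical
  have h1 : Nat.card {a : ↥B × ℕ // 1 ≤ a.2 ∧ 2 * a.2 + 1 ≤ d (a.1 : k)} =
      ∑ α ∈ B, (d α - 1) / 2 := by
    rw [Nat.card_congr (Equiv.subtypeProdEquivSigmaSubtype
      (fun (α : ↥B) (j : ℕ) => 1 ≤ j ∧ 2 * j + 1 ≤ d (α : k)))]
    haveI : ∀ α : ↥B, Finite {j : ℕ // 1 ≤ j ∧ 2 * j + 1 ≤ d (α : k)} := fun α =>
      ((Set.finite_Iic (d (α : k))).subset (fun j hj => by
        have := hj.2
        simp only [Set.mem_Iic]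
        omega)).to_subtype
    rw [Nat.card_sigma, ← Finset.sum_coe_sort B (fun α => (d α - 1) / 2)]
    refine Finset.sum_congr rfl fun α _ => ?_
    rw [Nat.card_congr (Equiv.subtypeEquivRight
      (q := fun j => j ∈ Finset.Icc 1 ((d (α : k) - 1) / 2))
      (fun j => by rw [Finset.mem_Icc]; omega))]
    rw [Nat.card_eq_fintype_card, Fintype.card_coe, Nat.card_Icc]
    omega
  have h2 : Nat.card {b : ↥B // (b : k) ≠ 0} + 1 = B.card := by
    have e : {b : ↥B // (b : k) ≠ 0} ≃ ↥(B.erase 0) :=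
      (Equiv.subtypeSubtypeEquivSubtypeInter (fun x => x ∈ B) (fun x => x ≠ 0)).trans
        (Equiv.subtypeEquivRight (fun x => by rw [Finset.mem_erase, and_comm]))
    rw [Nat.card_congr e, Nat.card_eq_fintype_card, Fintype.card_coe,
      Finset.card_erase_of_mem h0]
    have : 0 < B.card := Finset.card_pos.mpr ⟨0, h0⟩
    omega
  rw [Nat.card_sum, h1, add_assoc, h2]
  have h3 : ∀ α ∈ B, (d α + 1) / 2 = (d α - 1) / 2 + 1 := by
    intro α hα
    obtain ⟨m, hm⟩ := hd α hα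
    omega
  rw [Finset.sum_congr rfl h3, Finset.sum_add_distrib, Finset.sum_const, smul_eq_mul, mul_one]

variable {B d}

theorem pfFam_coeff_zero_at [Fintype ({a : ↥B × ℕ // 1 ≤ a.2 ∧ 2 * a.2 + 1 ≤ d (a.1 : k)} ⊕
      {b : ↥B // (b : k) ≠ 0})]
    (c : ({a : ↥B × ℕ // 1 ≤ a.2 ∧ 2 * a.2 + 1 ≤ d (a.1 : k)} ⊕ {b : ↥B // (b : k) ≠ 0}) → k)
    (h : ∑ i, c i • pfFam B d i = 0) (α : ↥B)
    (hα : (α : k) = 0 → ∀ b, c (Sum.inr b) = 0) :
    (∀ a : {a : ↥B × ℕ // 1 ≤ a.2 ∧ 2 * a.2 + 1 ≤ d (a.1 : k)}, a.1.1 = α → c (Sum.inl a) = 0) ∧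
    (∀ b : {b : ↥B // (b : k) ≠ 0}, b.1 = α → c (Sum.inr b) = 0) := by
  obtain ⟨p, hp⟩ := exists_place_sub_lt_one (α : k)
  set S : Set ({a : ↥B × ℕ // 1 ≤ a.2 ∧ 2 * a.2 + 1 ≤ d (a.1 : k)} ⊕ {b : ↥B // (b : k) ≠ 0}) :=
    {i | Sum.elim (fun a => a.1.1 = α) (fun b => b.1 = α) i} with hS
  have key := coeff_eq_zero_of_val_gt p (pfFam B d) c S ?_ ?_ ?_ h
  · exact ⟨fun a ha => key (Sum.inl a) ha, fun b hb => key (Sum.inr b) hb⟩
  · rintro (a | b) hi
    · have ha : a.1.1 = α := hi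
      show 1 < p.1 (((RatFunc.X : RatFunc k) - RatFunc.C (a.1.1 : k))⁻¹ ^ (a.1.2 + 1))
      rw [ha, val_fam_inl_same p hp, ← exp_zero, exp_lt_exp]
      omega
    · have hb : b.1 = α := hi
      show 1 < p.1 (RatFunc.C (b.1 : k) / ((RatFunc.X : RatFunc k) *
        (RatFunc.X - RatFunc.C (b.1 : k))))
      rw [hb, val_fam_inr_same p (hb ▸ b.2) hp, ← exp_zero, exp_lt_exp]
      omega
  · rintro (a | b) hi (a' | b') hj hval
    · have ha : a.1.1 = α := hi
      have ha' : a'.1.1 = α := hj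
      have h1 : p.1 (((RatFunc.X : RatFunc k) - RatFunc.C (a.1.1 : k))⁻¹ ^ (a.1.2 + 1)) =
        p.1 (((RatFunc.X : RatFunc k) - RatFunc.C (a'.1.1 : k))⁻¹ ^ (a'.1.2 + 1)) := hval
      rw [ha, ha', val_fam_inl_same p hp, val_fam_inl_same p hp, exp_inj] at h1
      congr 1
      apply Subtype.ext
      apply Prod.ext
      · rw [ha, ha']
      · omega
    · exfalso
      have ha : a.1.1 = α := hi
      have hb : b'.1 = α := hj
      have h1 : p.1 (((RatFunc.X : RatFunc k) - RatFunc.C (a.1.1 : k))⁻¹ ^ (a.1.2 + 1)) =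
        p.1 (RatFunc.C (b'.1 : k) / ((RatFunc.X : RatFunc k) *
          (RatFunc.X - RatFunc.C (b'.1 : k)))) := hval
      rw [ha, hb, val_fam_inl_same p hp, val_fam_inr_same p (hb ▸ b'.2) hp, exp_inj] at h1
      have := a.2.1
      omega
    · exfalso
      have ha : a'.1.1 = α := hj
      have hb : b.1 = α := hi
      have h1 : p.1 (RatFunc.C (b.1 : k) / ((RatFunc.X : RatFunc k) *
          (RatFunc.X - RatFunc.C (b.1 : k)))) =
        p.1 (((RatFunc.X : RatFunc k) - RatFunc.C (a'.1.1 : k))⁻¹ ^ (a'.1.2 + 1)) := hval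
      rw [ha, hb, val_fam_inl_same p hp, val_fam_inr_same p (hb ▸ b.2) hp, exp_inj] at h1
      have := a'.2.1
      omega
    · have hb : b.1 = α := hi
      have hb' : b'.1 = α := hj
      congr 1
      apply Subtype.ext
      rw [hb, hb']
  · rintro (a | b) hi
    · have ha : a.1.1 ≠ α := hi
      refine (val_smul_le p _ _).trans ?_
      show p.1 (((RatFunc.X : RatFunc k) - RatFunc.C (a.1.1 : k))⁻¹ ^ (a.1.2 + 1)) ≤ 1
      rw [val_fam_inl_other p (fun h => ha (Subtype.ext h.symm)) hp]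
    · have hb : b.1 ≠ α := hi
      by_cases hα0 : (α : k) = 0
      · rw [hα hα0 b, zero_smul, map_zero]
        exact zero_le'
      · refine (val_smul_le p _ _).trans ?_
        show p.1 (RatFunc.C (b.1 : k) / ((RatFunc.X : RatFunc k) *
          (RatFunc.X - RatFunc.C (b.1 : k)))) ≤ 1
        rw [val_fam_inr_other p hα0 b.2 (fun h => hb (Subtype.ext h.symm)) hp]

theorem pfFam_linearIndependent : LinearIndependent k (pfFam B d) := by
  haveI := Fintype.ofFinite ({a : ↥B × ℕ // 1 ≤ a.2 ∧ 2 * a.2 + 1 ≤ d (a.1 : k)} ⊕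
      {b : ↥B // (b : k) ≠ 0})
  rw [Fintype.linearIndependent_iff]
  intro c h
  have h1 : ∀ b, c (Sum.inr b) = 0 := fun b =>
    (pfFam_coeff_zero_at c h b.1 (fun h0 => absurd h0 b.2)).2 b rfl
  rintro (a | b)
  · exact (pfFam_coeff_zero_at c h a.1.1 (fun _ => h1)).1 a rfl
  · exact h1 b

/-- The common denominator `∏ (x - α)^{(d_α+1)/2}`. -/
noncomputable def pfQ (B : Finset k) (d : k → ℕ) : k[X] := ∏ α ∈ B, (X - C α) ^ ((d α + 1) / 2)

theorem pfQ_monic : (pfQ B d).Monic :=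
  monic_prod_of_monic _ _ fun α _ => (monic_X_sub_C α).pow _

theorem pfQ_ne_zero : pfQ B d ≠ 0 := pfQ_monic.ne_zero

theorem natDegree_pfQ : (pfQ B d).natDegree = ∑ α ∈ B, (d α + 1) / 2 := by
  rw [pfQ, natDegree_prod_of_monic _ _ (fun α _ => (monic_X_sub_C α).pow _)]
  refine Finset.sum_congr rfl fun α _ => ?_
  rw [(monic_X_sub_C α).natDegree_pow, natDegree_X_sub_C, mul_one]

theorem algebraMap_X_sub_C (α : k) :
    algebraMap k[X] (RatFunc k) (X - C α) = RatFunc.X - RatFunc.C α := by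
  rw [map_sub, RatFunc.algebraMap_X, RatFunc.algebraMap_C]

theorem val_pfQ (p : Place k (RatFunc k)) :
    p.1 (algebraMap k[X] (RatFunc k) (pfQ B d)) =
      ∏ α ∈ B, p.1 ((RatFunc.X : RatFunc k) - RatFunc.C α) ^ ((d α + 1) / 2) := by
  rw [pfQ, map_prod, map_prod]
  refine Finset.prod_congr rfl fun α _ => ?_
  rw [map_pow, map_pow, algebraMap_X_sub_C]

theorem ord_pfQ {f : RatFunc k} (hd : ∀ α ∈ B, Odd (d α))
    (hpole : ∀ (p : Place k (RatFunc k)) (α : k), α ∈ B →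
      p.1 ((RatFunc.X : RatFunc k) - RatFunc.C α) < 1 → p.ord f = -(d α : ℤ))
    (hint : ∀ p : Place k (RatFunc k),
      (∀ α ∈ B, 1 ≤ p.1 ((RatFunc.X : RatFunc k) - RatFunc.C α)) → p.1 f ≤ 1)
    (p : Place k (RatFunc k)) (hfin : p.1 RatFunc.X ≤ 1) :
    p.ord (algebraMap k[X] (RatFunc k) (pfQ B d)) = asE f p := by
  by_cases hex : ∃ β ∈ B, p.1 ((RatFunc.X : RatFunc k) - RatFunc.C β) < 1
  · obtain ⟨β, hβ, hpβ⟩ := hex
    have hord := hpole p β hβ hpβ
    have hval : p.1 (algebraMap k[X] (RatFunc k) (pfQ B d)) =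
        exp (-(((d β + 1) / 2 : ℕ) : ℤ)) := by
      rw [val_pfQ, Finset.prod_eq_single_of_mem β hβ (fun α _ hne => by
        rw [rat_val_sub_eq_one p hne.symm hpβ, one_pow]), rat_val_sub_eq p hpβ, ← exp_nsmul]
      congr 1
      simp
    have hdpos : 0 < d β := (hd β hβ).pos
    rw [ord_eq_of_val_eq_exp p hval, asE_apply, if_pos (by rw [hord]; omega), hord, neg_neg]
    push_cast
    omega
  · push Not at hex
    have hval : p.1 (algebraMap k[X] (RatFunc k) (pfQ B d)) = 1 := by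
      rw [val_pfQ]
      refine Finset.prod_eq_one fun α hα => ?_
      have h1 : p.1 ((RatFunc.X : RatFunc k) - RatFunc.C α) ≤ 1 := by
        rw [← algebraMap_X_sub_C]
        exact val_poly_le_one p hfin _
      rw [le_antisymm h1 (hex α hα), one_pow]
    have hf : p.1 f ≤ 1 := hint p hex
    rw [ord_eq_zero_of_val_eq_one p hval, asE_apply,
      if_neg (not_lt.mpr (ord_nonneg_of_val_le_one p hf))]

theorem asE_inf {f : RatFunc k}
    (hint : ∀ p : Place k (RatFunc k),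
      (∀ α ∈ B, 1 ≤ p.1 ((RatFunc.X : RatFunc k) - RatFunc.C α)) → p.1 f ≤ 1)
    (p : Place k (RatFunc k)) (hinf : 1 < p.1 RatFunc.X) : asE f p = 0 := by
  have hf : p.1 f ≤ 1 := by
    refine hint p fun α _ => ?_
    rw [rat_C_eq, val_sub_const_of_one_lt p hinf]
    exact hinf.le
  rw [asE_apply, if_neg (not_lt.mpr (ord_nonneg_of_val_le_one p hf))]

theorem pfFam_repr (h0 : (0 : k) ∈ B) (hd : ∀ α ∈ B, Odd (d α))
    (i : {a : ↥B × ℕ // 1 ≤ a.2 ∧ 2 * a.2 + 1 ≤ d (a.1 : k)} ⊕ {b : ↥B // (b : k) ≠ 0}) :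
    ∃ a : k[X], a.natDegree + 2 ≤ (pfQ B d).natDegree ∧
      pfFam B d i = algebraMap k[X] (RatFunc k) a / algebraMap k[X] (RatFunc k) (pfQ B d) := by
  have hq0 : pfQ B d ≠ 0 := pfQ_ne_zero
  have hdvd : ∀ α ∈ B, ∀ n, n ≤ (d α + 1) / 2 → (X - C α : k[X]) ^ n ∣ pfQ B d := fun α hα n hn =>
    (pow_dvd_pow _ hn).trans (Finset.dvd_prod_of_mem _ hα)
  rcases i with a | b
  · obtain ⟨r, hr⟩ := hdvd a.1.1 a.1.1.2 (a.1.2 + 1) (by have := a.2.2; omega)
    have hr0 : r ≠ 0 := by rintro rfl; rw [mul_zero] at hr; exact hq0 hr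
    have hu0 : (X - C (a.1.1 : k) : k[X]) ^ (a.1.2 + 1) ≠ 0 := pow_ne_zero _ (X_sub_C_ne_zero _)
    refine ⟨r, ?_, ?_⟩
    · rw [hr, natDegree_mul hu0 hr0, (monic_X_sub_C _).natDegree_pow, natDegree_X_sub_C]
      have := a.2.1
      omega
    · show ((RatFunc.X : RatFunc k) - RatFunc.C (a.1.1 : k))⁻¹ ^ (a.1.2 + 1) = _
      have h1 : algebraMap k[X] (RatFunc k) r ≠ 0 := RatFunc.algebraMap_ne_zero hr0
      have h2 : (RatFunc.X : RatFunc k) - RatFunc.C (a.1.1 : k) ≠ 0 := by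
        rw [← algebraMap_X_sub_C]
        exact RatFunc.algebraMap_ne_zero (X_sub_C_ne_zero _)
      rw [hr, map_mul, map_pow, algebraMap_X_sub_C, inv_pow]
      field_simp
  · have hb0 : (b.1 : k) ≠ 0 := b.2
    have h1 : (X - C (0 : k)) ∣ pfQ B d := by
      have := hdvd 0 h0 1 (by have := (hd 0 h0).pos; omega)
      rwa [pow_one] at this
    have h2 : (X - C (b.1 : k)) ∣ pfQ B d := by
      have := hdvd b.1 b.1.2 1 (by have := (hd b.1 b.1.2).pos; omega)
      rwa [pow_one] at this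
    have hcop : IsCoprime (X - C (0 : k)) (X - C (b.1 : k)) :=
      isCoprime_X_sub_C_of_isUnit_sub (by rw [zero_sub]; exact (neg_ne_zero.mpr hb0).isUnit)
    obtain ⟨r, hr⟩ := hcop.mul_dvd h1 h2
    rw [map_zero, sub_zero] at hr
    have hr0 : r ≠ 0 := by rintro rfl; rw [mul_zero] at hr; exact hq0 hr
    have hu0 : (X * (X - C (b.1 : k)) : k[X]) ≠ 0 := mul_ne_zero X_ne_zero (X_sub_C_ne_zero _)
    refine ⟨C (b.1 : k) * r, ?_, ?_⟩
    · rw [hr, natDegree_mul hu0 hr0, natDegree_mul X_ne_zero (X_sub_C_ne_zero _), natDegree_X,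
        natDegree_X_sub_C, natDegree_C_mul hb0]
      omega
    · show RatFunc.C (b.1 : k) / ((RatFunc.X : RatFunc k) * (RatFunc.X - RatFunc.C (b.1 : k))) = _
      have h1 : algebraMap k[X] (RatFunc k) r ≠ 0 := RatFunc.algebraMap_ne_zero hr0
      have h2 : (RatFunc.X : RatFunc k) - RatFunc.C (b.1 : k) ≠ 0 := by
        rw [← algebraMap_X_sub_C]
        exact RatFunc.algebraMap_ne_zero (X_sub_C_ne_zero _)
      have h3 : (RatFunc.X : RatFunc k) ≠ 0 := RatFunc.X_ne_zero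
      rw [hr, map_mul, map_mul, map_mul, algebraMap_X_sub_C, RatFunc.algebraMap_X,
        RatFunc.algebraMap_C]
      field_simp

end partialFraction

section final

variable {k : Type u} {K : Type v} [Field k] [IsAlgClosed k] [CharP k 2] [Field K] [Algebra k K]
  [Algebra (RatFunc k) K] [IsScalarTower k (RatFunc k) K]

/-- `a ↦ a(x)/q(x)` as a `k`-linear map `k[X] → K`. -/
noncomputable def pfPhi (q : k[X]) : k[X] →ₗ[k] K where
  toFun a := algebraMap (RatFunc k) K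
    (algebraMap k[X] (RatFunc k) a / algebraMap k[X] (RatFunc k) q)
  map_add' a b := by rw [map_add, add_div, map_add]
  map_smul' c a := by
    rw [RingHom.id_apply, Algebra.smul_def, map_mul, mul_div_assoc, map_mul, Algebra.smul_def]
    congr 1
    rw [← IsScalarTower.algebraMap_apply k k[X] (RatFunc k),
      ← IsScalarTower.algebraMap_apply k (RatFunc k) K]

omit [IsAlgClosed k] [CharP k 2] in
theorem pfPhi_apply (q a : k[X]) : pfPhi (K := K) q a = algebraMap (RatFunc k) K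
    (algebraMap k[X] (RatFunc k) a / algebraMap k[X] (RatFunc k) q) := rfl

theorem as_genus_add_one (hK : IsFunctionField k K)
    (hdeg : Module.finrank (RatFunc k) K = 2)
    {y : K} (hy : y ∉ Set.range (algebraMap (RatFunc k) K)) {f : RatFunc k}
    (heq : y ^ 2 + y = algebraMap (RatFunc k) K f)
    {B : Finset k} {d : k → ℕ} (hd : ∀ α ∈ B, Odd (d α))
    (hpole : ∀ (p : Place k (RatFunc k)) (α : k), α ∈ B →
      p.1 ((RatFunc.X : RatFunc k) - RatFunc.C α) < 1 → p.ord f = -(d α : ℤ))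
    (hint : ∀ p : Place k (RatFunc k),
      (∀ α ∈ B, 1 ≤ p.1 ((RatFunc.X : RatFunc k) - RatFunc.C α)) → p.1 f ≤ 1) :
    genus k K + 1 = ∑ α ∈ B, (d α + 1) / 2 := by
  have hK₀ : IsFunctionField k (RatFunc k) := isFunctionField_ratFunc
  have h2 : ringChar k = 2 := ringChar.eq k 2
  have hodd : ∀ p : Place k (RatFunc k), p.ord f < 0 → Odd (p.ord f) := by
    intro p hneg
    by_cases hex : ∃ β ∈ B, p.1 ((RatFunc.X : RatFunc k) - RatFunc.C β) < 1
    · obtain ⟨β, hβ, hpβ⟩ := hex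
      rw [hpole p β hβ hpβ]
      exact (by exact_mod_cast hd β hβ : Odd (d β : ℤ)).neg
    · push Not at hex
      exact absurd (ord_nonneg_of_val_le_one p (hint p hex)) (not_le.mpr hneg)
  have hq0 : pfQ B d ≠ 0 := pfQ_ne_zero
  have hq : ∀ p : Place k (RatFunc k), p.1 RatFunc.X ≤ 1 →
      p.ord (algebraMap k[X] (RatFunc k) (pfQ B d)) = asE f p := ord_pfQ hd hpole hint
  have hg := as_genus hK h2 hdeg hy heq hodd
  have hXk : (RatFunc.X : RatFunc k) ∉ Set.range (algebraMap k (RatFunc k)) := by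
    rintro ⟨c, hc⟩
    exact (RatFunc.transcendental_X (K := k)) (hc ▸ isAlgebraic_algebraMap c)
  obtain ⟨p, hp⟩ := exists_pole hK₀ hXk
  rw [deg_asE_eq f hq0 hq hp, asE_inf hint p hp, natDegree_pfQ] at hg
  have : ((genus k K + 1 : ℕ) : ℤ) = ((∑ α ∈ B, (d α + 1) / 2 : ℕ) : ℤ) := by
    push_cast at hg ⊢
    omega
  exact_mod_cast this

theorem as_partialFraction_basis (hK : IsFunctionField k K)
    (hdeg : Module.finrank (RatFunc k) K = 2)
    {y : K} (hy : y ∉ Set.range (algebraMap (RatFunc k) K)) {f : RatFunc k}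
    (heq : y ^ 2 + y = algebraMap (RatFunc k) K f)
    {B : Finset k} (h0 : (0 : k) ∈ B) {d : k → ℕ} (hd : ∀ α ∈ B, Odd (d α))
    (hpole : ∀ (p : Place k (RatFunc k)) (α : k), α ∈ B →
      p.1 ((RatFunc.X : RatFunc k) - RatFunc.C α) < 1 → p.ord f = -(d α : ℤ))
    (hint : ∀ p : Place k (RatFunc k),
      (∀ α ∈ B, 1 ≤ p.1 ((RatFunc.X : RatFunc k) - RatFunc.C α)) → p.1 f ≤ 1)
    (F : Place k K → Type w) [∀ P, Field (F P)] [∀ P, Algebra k (F P)]
    (φ : ∀ P, K →ₐ[k] LaurentSeries (F P)) (hφ : ∀ P, IsExpansionAt P.1 (φ P)) :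
    (∀ i P, vDiff (φ P) (algebraMap (RatFunc k) K (pfFam B d i))
      (algebraMap (RatFunc k) K RatFunc.X) ≤ 1) ∧
    LinearIndependent k (fun i => algebraMap (RatFunc k) K (pfFam B d i)) ∧
    ∀ z : K, (∀ P, vDiff (φ P) z (algebraMap (RatFunc k) K RatFunc.X) ≤ 1) →
      z ∈ Submodule.span k (Set.range (fun i => algebraMap (RatFunc k) K (pfFam B d i))) := by
  classical
  have hK₀ : IsFunctionField k (RatFunc k) := isFunctionField_ratFunc
  have h2 : ringChar k = 2 := ringChar.eq k 2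
  have hodd : ∀ p : Place k (RatFunc k), p.ord f < 0 → Odd (p.ord f) := by
    intro p hneg
    by_cases hex : ∃ β ∈ B, p.1 ((RatFunc.X : RatFunc k) - RatFunc.C β) < 1
    · obtain ⟨β, hβ, hpβ⟩ := hex
      rw [hpole p β hβ hpβ]
      exact (by exact_mod_cast hd β hβ : Odd (d β : ℤ)).neg
    · push Not at hex
      exact absurd (ord_nonneg_of_val_le_one p (hint p hex)) (not_le.mpr hneg)
  set q := pfQ B d with hqdef
  have hq0 : q ≠ 0 := pfQ_ne_zero
  have hq : ∀ p : Place k (RatFunc k), p.1 RatFunc.X ≤ 1 →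
      p.ord (algebraMap k[X] (RatFunc k) q) = asE f p := ord_pfQ hd hpole hint
  -- the genus
  have hgenus : genus k K + 1 = q.natDegree := by
    have hg := as_genus hK h2 hdeg hy heq hodd
    have hXk : (RatFunc.X : RatFunc k) ∉ Set.range (algebraMap k (RatFunc k)) := by
      rintro ⟨c, hc⟩
      exact (RatFunc.transcendental_X (K := k)) (hc ▸ isAlgebraic_algebraMap c)
    obtain ⟨p, hp⟩ := exists_pole hK₀ hXk
    rw [deg_asE_eq f hq0 hq hp, asE_inf hint p hp] at hg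
    omega
  have hcard := card_pfIdx B d h0 hd
  rw [← natDegree_pfQ, ← hqdef] at hcard
  have hreg := as_regularDifferentials hK h2 hdeg hy heq hodd hq0 hq F φ hφ
  -- family members are `a/q` with small degree
  have hrepr := pfFam_repr (B := B) (d := d) h0 hd
  rw [← hqdef] at hrepr
  haveI := Fintype.ofFinite ({a : ↥B × ℕ // 1 ≤ a.2 ∧ 2 * a.2 + 1 ≤ d (a.1 : k)} ⊕
      {b : ↥B // (b : k) ≠ 0})
  have hli : LinearIndependent k (fun i => algebraMap (RatFunc k) K (pfFam B d i)) := by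
    have := (pfFam_linearIndependent (B := B) (d := d)).map'
      ((IsScalarTower.toAlgHom k (RatFunc k) K).toLinearMap)
      (LinearMap.ker_eq_bot.mpr (algebraMap (RatFunc k) K).injective)
    exact this
  refine ⟨?_, hli, ?_⟩
  · intro i P
    obtain ⟨a, ha, hai⟩ := hrepr i
    rw [hai]
    exact as_regular_of_natDegree_lt hK h2 hdeg hy heq hodd hq0 hq P (φ P) (hφ P) (by omega)
  · intro z hz
    set W := Submodule.span k (Set.range (fun i => algebraMap (RatFunc k) K (pfFam B d i)))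
      with hW
    set V := Submodule.map (pfPhi (K := K) q) (degreeLT k (genus k K)) with hV
    have hWV : W ≤ V := by
      rw [hW, Submodule.span_le]
      rintro _ ⟨i, rfl⟩
      obtain ⟨a, ha, hai⟩ := hrepr i
      refine ⟨a, ?_, ?_⟩
      · rw [SetLike.mem_coe, mem_degreeLT]
        refine lt_of_le_of_lt degree_le_natDegree ?_
        exact_mod_cast (by omega : a.natDegree < genus k K)
      · show pfPhi (K := K) q a = algebraMap (RatFunc k) K (pfFam B d i)
        rw [pfPhi_apply, hai]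
    have hfinW : Module.finrank k W = genus k K := by
      rw [hW, finrank_span_eq_card hli, ← Nat.card_eq_fintype_card]
      omega
    haveI : Module.Finite k (degreeLT k (genus k K)) :=
      Module.Finite.equiv (degreeLTEquiv k (genus k K)).symm
    have hfinV : Module.finrank k V ≤ genus k K := by
      refine (Submodule.finrank_map_le _ _).trans ?_
      rw [finrank_degreeLT]
    haveI : FiniteDimensional k V := by
      rw [hV]
      infer_instance
    have hWV' : W = V := Submodule.eq_of_le_of_finrank_le hWV (by rw [hfinW]; exact hfinV)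
    rw [hWV']
    obtain ⟨a, ha, rfl⟩ := hreg.2 z hz
    exact ⟨a, mem_degreeLT.mpr ha, rfl⟩

end final

end Groth.Agent.Lib.Helper24.FFExt
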