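import Groth.Agent.Lib.Helper24.FFExt.DiffExp
import Groth.Agent.Lib.Helper24.FFExt.NormFormula
import Groth.Agent.Lib.Helper24.FFExt.IntClosure
import Mathlib.RingTheory.Norm.Transitivity
import Mathlib.FieldTheory.Minpoly.IsIntegrallyClosed
import Mathlib.RingTheory.Valuation.Extension

/-! # `v_Q(f'(s)) = d(Q|P)` for the minimal polynomial of a suitable local parameter (helper24) -/

set_option autoImplicit false

namespace Groth.Agent.Lib.Helper24.FFExt

open FunFld WithZero LocRes LaurentSeries Polynomial Groth.Agent.Lib.Helper18.FF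

universe u v v' w

section Deriv

variable {R K A M : Type*} [CommRing R] [CommRing K] [CommRing A] [Algebra R K] [Algebra K A]
  [Algebra R A] [IsScalarTower R K A] [AddCommGroup M] [Module A M] [Module R M]
  [IsScalarTower R A M]

/-- Differentiating `f(s)` when the coefficients of `f` are not constants. -/
theorem derivation_aeval (d : Derivation R A M) (s : A) (f : K[X]) :
    d (aeval s f) = aeval s (derivative f) • d s +
      f.sum (fun i a => s ^ i • d (algebraMap K A a)) := by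
  induction f using Polynomial.induction_on' with
  | add p q hp hq =>
    rw [map_add, map_add, hp, hq, derivative_add, map_add, add_smul,
      Polynomial.sum_add_index p q _ (fun i => by simp) (fun i a b => by simp [smul_add])]
    abel
  | monomial n a =>
    rw [Polynomial.sum_monomial_index _ _ (by simp), aeval_monomial, Derivation.leibniz,
      Derivation.leibniz_pow, derivative_monomial, aeval_monomial]
    congr 1
    rw [← Nat.cast_smul_eq_nsmul A n, smul_smul, smul_smul]
    congr 1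
    simp only [map_mul, map_natCast]

end Deriv

section Core

variable {k : Type u} {K : Type v} {K' : Type v'} {F F' : Type w} [Field k] [Field K] [Field K'] [Algebra k K]
  [Algebra K K'] [Algebra k K'] [IsScalarTower k K K'] [Field F] [Algebra k F] [Field F']
  [Algebra k F']

theorem val_D_uniformizer (φ : K →ₐ[k] F⸨X⸩) {P : Place k K} (hφ : IsExpansionAt P.1 φ) {t : K}
    (ht : P.1 t = exp (-1 : ℤ)) : Valued.v (LocRes.D F (φ t)) = 1 := by
  have hφt : Valued.v (φ t) = exp (-(1 : ℤ)) := by rw [hφ.1, ht]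
  have h1F : ((1 : ℤ) : F) ≠ 0 := by simp
  have := val_D_eq_of_cast_ne_zero hφt h1F
  rw [this]; simp

theorem val_D_le_one_of_le_one (φ : K →ₐ[k] F⸨X⸩) {P : Place k K} (hφ : IsExpansionAt P.1 φ) {a : K}
    (ha : P.1 a ≤ 1) : Valued.v (LocRes.D F (φ a)) ≤ 1 := by
  have h1 : Valued.v (φ a) ≤ 1 := by rw [hφ.1]; exact ha
  obtain ⟨U, hU⟩ := (LaurentSeries.val_le_one_iff_eq_coe F (φ a)).mp h1
  rw [← hU, D_coe]
  exact (LaurentSeries.val_le_one_iff_eq_coe F _).mpr ⟨_, rfl⟩

/-- The different exponent is the order of `dt` above, for a local parameter `t` below. -/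
theorem diffExp_eq_ordDiff_uniformizer (hK : IsFunctionField k K) (hg : IsGeometric k K)
    {P : Place k K} {Q : Place k K'} {e : ℕ} (he : IsOverWith Q P e)
    (φ : K →ₐ[k] F⸨X⸩) (hφ : IsExpansionAt P.1 φ) (ψ : K' →ₐ[k] F'⸨X⸩) (hψ : IsExpansionAt Q.1 ψ)
    {x : K} (hx : vDiff φ 1 x ≠ 0) (hx' : vDiff ψ 1 (algebraMap K K' x) ≠ 0)
    {t : K} (ht : P.1 t = exp (-1 : ℤ)) :
    vDiff ψ 1 (algebraMap K K' t) ≠ 0 ∧
      diffExp φ ψ e x = ordDiff ψ 1 (algebraMap K K' t) := by
  have hvt : vDiff φ 1 t = 1 := by rw [vDiff_one, val_D_uniformizer φ hφ ht]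
  have hvt0 : vDiff φ 1 t ≠ 0 := by rw [hvt]; exact one_ne_zero
  obtain ⟨hvt', heq⟩ := diffExp_eq_diffExp' hK hg he φ hφ ψ hψ hx hx' hvt0
  have hordφ : ordDiff φ 1 t = 0 := by rw [ordDiff, hvt, log_one, neg_zero]
  refine ⟨hvt', ?_⟩
  rw [heq, diffExp, hordφ, mul_zero, sub_zero]

/-- **Core.** If the minimal polynomial `f` of a local parameter `s` at `Q` has coefficients in `O_P`
and constant coefficient of order one at `P`, then `v_Q(f'(s)) = d(Q|P)`. -/
theorem ord_aeval_derivative_eq_diffExp (hK : IsFunctionField k K) (hg : IsGeometric k K)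
    {P : Place k K} {Q : Place k K'} {e : ℕ} (he : IsOverWith Q P e)
    (φ : K →ₐ[k] F⸨X⸩) (hφ : IsExpansionAt P.1 φ) (ψ : K' →ₐ[k] F'⸨X⸩) (hψ : IsExpansionAt Q.1 ψ)
    {x : K} (hx : vDiff φ 1 x ≠ 0) (hx' : vDiff ψ 1 (algebraMap K K' x) ≠ 0)
    {s : K'} (hs : Q.1 s = exp (-1 : ℤ)) {f : K[X]} (hfs : aeval s f = 0)
    (hint : ∀ i, P.1 (f.coeff i) ≤ 1) (ha0 : P.1 (f.coeff 0) = exp (-1 : ℤ)) :
    Q.ord (aeval s (derivative f)) = diffExp φ ψ e x := by
  classical
  obtain ⟨t, ht⟩ := exists_uniformizer P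
  obtain ⟨hvt', heq⟩ := diffExp_eq_ordDiff_uniformizer hK hg he φ hφ ψ hψ hx hx' ht
  have hDt1 := val_D_uniformizer φ hφ ht
  have hdim := finrank_kaehler hK hg
  have hDt : KaehlerDifferential.D k K t ≠ 0 := by
    intro h0
    rw [D_exp_eq_zero_of_D_eq_zero φ h0, map_zero] at hDt1
    exact zero_ne_one hDt1
  have hex : ∀ a : K, ∃ g : K, KaehlerDifferential.D k K a = g • KaehlerDifferential.D k K t :=
    fun a => by
      obtain ⟨g, hg'⟩ := (finrank_eq_one_iff_of_nonzero' _ hDt).mp hdim (KaehlerDifferential.D k K a)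
      exact ⟨g, hg'.symm⟩
  choose g hg' using hex
  -- bounds on `g`
  have hgval : ∀ a : K, P.1 (g a) = Valued.v (LocRes.D F (φ a)) := by
    intro a
    have := D_exp_eq_of_D_eq_smul φ (hg' a)
    rw [this, map_mul, hDt1, mul_one, hφ.1]
  have hgle : ∀ a : K, P.1 a ≤ 1 → P.1 (g a) ≤ 1 := fun a ha => by
    rw [hgval]; exact val_D_le_one_of_le_one φ hφ ha
  have hg0 : P.1 (g (f.coeff 0)) = 1 := by
    rw [hgval]; exact val_D_uniformizer φ hφ ha0
  -- differentiate `f(s) = 0`
  have hdiff := derivation_aeval (KaehlerDifferential.D k K') s f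
  rw [hfs, map_zero] at hdiff
  set W : K' := f.sum (fun i a => s ^ i * algebraMap K K' (g a)) with hW
  have hsum : f.sum (fun i a => s ^ i • KaehlerDifferential.D k K' (algebraMap K K' a)) =
      W • KaehlerDifferential.D k K' (algebraMap K K' t) := by
    rw [hW, Polynomial.sum, Polynomial.sum, Finset.sum_smul]
    refine Finset.sum_congr rfl fun i _ => ?_
    rw [D_algebraMap_eq_of_D_eq_smul (hg' (f.coeff i)), smul_smul]
  rw [hsum] at hdiff
  -- apply the expansion above
  letI := ψ.toRingHom.toAlgebra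
  haveI : IsScalarTower k K' F'⸨X⸩ := isScalarTower_exp ψ
  have h1 := congrArg (dExp ψ).liftKaehlerDifferential hdiff
  rw [map_zero, map_add, map_smul, map_smul, Derivation.liftKaehlerDifferential_comp_D,
    Derivation.liftKaehlerDifferential_comp_D] at h1
  have h2 : ψ (aeval s (derivative f)) * LocRes.D F' (ψ s) +
      ψ W * LocRes.D F' (ψ (algebraMap K K' t)) = 0 := h1.symm
  have h3 : Valued.v (ψ (aeval s (derivative f)) * LocRes.D F' (ψ s)) =
      Valued.v (ψ W * LocRes.D F' (ψ (algebraMap K K' t))) := by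
    rw [eq_neg_of_add_eq_zero_left h2, Valuation.map_neg]
  rw [map_mul, map_mul, hψ.1, hψ.1, val_D_uniformizer ψ hψ hs, mul_one] at h3
  -- `W` is a unit at `Q`
  have hW1 : Q.1 W = 1 := by
    have hf0 : f.coeff 0 ≠ 0 := by
      intro h0; rw [h0, map_zero] at ha0; exact exp_ne_zero ha0.symm
    have h0mem : 0 ∈ f.support := Polynomial.mem_support_iff.mpr hf0
    rw [hW, Polynomial.sum, ← Finset.add_sum_erase _ _ h0mem, pow_zero, one_mul]
    have hfirst : Q.1 (algebraMap K K' (g (f.coeff 0))) = 1 := by rw [he, hg0, one_pow]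
    have hrest : Q.1 (∑ i ∈ f.support.erase 0, s ^ i * algebraMap K K' (g (f.coeff i))) < 1 := by
      refine Valuation.map_sum_lt Q.1 one_ne_zero fun i hi => ?_
      have hi0 : i ≠ 0 := (Finset.mem_erase.mp hi).1
      rw [map_mul, map_pow, he]
      have h4 : P.1 (g (f.coeff i)) ^ e ≤ 1 := pow_le_one' (hgle _ (hint i)) e
      have h5 : Q.1 s ^ i < 1 := by
        rw [hs]
        exact pow_lt_one' (by rw [← exp_zero, exp_lt_exp]; norm_num) hi0
      calc Q.1 s ^ i * P.1 (g (f.coeff i)) ^ e ≤ Q.1 s ^ i * 1 := mul_le_mul' le_rfl h4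
        _ < 1 := by rwa [mul_one]
    rw [Valuation.map_add_eq_of_lt_left Q.1 (by rw [hfirst]; exact hrest), hfirst]
  rw [hW1, one_mul] at h3
  rw [heq, Place.ord, h3, ordDiff, vDiff_one]

/-- Shared part of S12572 / S12573. -/
theorem adjoin_eq_top_and_ord_eq_diffExp [FiniteDimensional K K']
    (hK : IsFunctionField k K) (hg : IsGeometric k K)
    {P : Place k K} {Q : Place k K'} {e : ℕ} (he : IsOverWith Q P e)
    (φ : K →ₐ[k] F⸨X⸩) (hφ : IsExpansionAt P.1 φ) (ψ : K' →ₐ[k] F'⸨X⸩) (hψ : IsExpansionAt Q.1 ψ)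
    {x : K} (hx : vDiff φ 1 x ≠ 0) (hx' : vDiff ψ 1 (algebraMap K K' x) ≠ 0)
    (hdeg : Q.deg = P.deg)
    {s : K'} (hs : Q.1 s = exp (-1 : ℤ))
    (hs' : ∀ Q' : Place k K', IsOver Q' P → Q' ≠ Q → Q'.1 s = 1) :
    IntermediateField.adjoin K ({s} : Set K') = ⊤ ∧
    Q.ord (aeval s (derivative (minpoly K s))) = diffExp φ ψ e x := by
  classical
  have hQP : IsOver Q P := ⟨e, he⟩
  have hs0 : s ≠ 0 := by
    rintro rfl; rw [map_zero] at hs; exact exp_ne_zero hs.symm
  -- integrality
  have hsint : IsIntegral P.O s := by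
    apply isIntegral_of_forall_isOver hK P
    intro Q' hQ'
    by_cases hQQ : Q' = Q
    · rw [hQQ, hs, ← exp_zero, exp_le_exp]; norm_num
    · rw [hs' Q' hQ' hQQ]
  have hsintK : IsIntegral K s := Algebra.IsIntegral.isIntegral s
  have hmin := minpoly.isIntegrallyClosed_eq_field_fractions' K hsint
  have hint : ∀ i, P.1 ((minpoly K s).coeff i) ≤ 1 := by
    intro i
    rw [hmin, coeff_map]
    exact ((minpoly P.O s).coeff i).2
  -- the norm
  have hfin := finite_isOver (K' := K') hK P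
  have hQs : ∀ Q', Q' ∈ hfin.toFinset ↔ IsOver Q' P := fun Q' => hfin.mem_toFinset
  have hnorm := normFormula (K' := K') hK P s hfin.toFinset hQs
  have hsum : ∑ Q' ∈ hfin.toFinset, (Q'.deg : ℤ) * Q'.ord s = (Q.deg : ℤ) := by
    rw [Finset.sum_eq_single Q]
    · rw [ord_eq_of_val_eq_exp Q hs]; simp
    · intro Q' hQ' hne
      have : Q'.ord s = 0 := by
        unfold Place.ord
        rw [hs' Q' ((hQs Q').mp hQ') hne, log_one, neg_zero]
      rw [this, mul_zero]
    · intro h; exact absurd ((hQs Q).mpr hQP) h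
  rw [hsum, hdeg] at hnorm
  have hPdeg : (0 : ℤ) < (P.deg : ℤ) := by exact_mod_cast deg_pos hK P
  have hordN : P.ord (Algebra.norm K s) = 1 := by
    have : (P.deg : ℤ) * P.ord (Algebra.norm K s) = (P.deg : ℤ) * 1 := by rw [hnorm, mul_one]
    exact mul_left_cancel₀ hPdeg.ne' this
  -- the norm in terms of the minimal polynomial
  have hNN := Algebra.norm_eq_norm_adjoin K s
  set pb := IntermediateField.adjoin.powerBasis hsintK with hpb
  have hgen : Algebra.norm K (IntermediateField.AdjoinSimple.gen K s) =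
      (-1) ^ pb.dim * (minpoly K s).coeff 0 := by
    have := Algebra.PowerBasis.norm_gen_eq_coeff_zero_minpoly pb
    rw [hpb, IntermediateField.adjoin.powerBasis_gen, IntermediateField.minpoly_gen] at this
    exact this
  set r := Module.finrank (IntermediateField.adjoin K ({s} : Set K')) K' with hr
  rw [hNN, ord_pow] at hordN
  have hr1 : (r : ℤ) = 1 := Int.eq_one_of_mul_eq_one_right (by positivity) hordN
  have hordgen : P.ord (Algebra.norm K (IntermediateField.AdjoinSimple.gen K s)) = 1 := by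
    rw [hr1, one_mul] at hordN; exact hordN
  have htop : IntermediateField.adjoin K ({s} : Set K') = ⊤ := by
    rw [← IntermediateField.finrank_eq_one_iff_eq_top]
    exact_mod_cast hr1
  have ha0ne : (minpoly K s).coeff 0 ≠ 0 := minpoly.coeff_zero_ne_zero hsintK hs0
  have ha0 : P.1 ((minpoly K s).coeff 0) = exp (-1 : ℤ) := by
    have h1 : P.1 ((-1 : K) ^ pb.dim) = 1 := by
      rw [map_pow, Valuation.map_neg, map_one, one_pow]
    have h2 : P.ord ((minpoly K s).coeff 0) = 1 := by
      rw [hgen] at hordgen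
      unfold Place.ord at hordgen ⊢
      rwa [map_mul, h1, one_mul] at hordgen
    rw [val_eq_exp_neg_ord P ha0ne, h2]
  exact ⟨htop, ord_aeval_derivative_eq_diffExp hK hg he φ hφ ψ hψ hx hx' hs (minpoly.aeval K s)
    hint ha0⟩

/-- Residue degree one: the degrees of `Q` and `P` agree. -/
theorem deg_eq_of_residue_surjective {P : Place k K} {Q : Place k K'} [P.1.HasExtension Q.1]
    (hf : Function.Surjective (algebraMap (IsLocalRing.ResidueField P.O)
      (IsLocalRing.ResidueField Q.O))) : Q.deg = P.deg := by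
  let g : IsLocalRing.ResidueField P.O →ₐ[k] IsLocalRing.ResidueField Q.O :=
    { (algebraMap (IsLocalRing.ResidueField P.O) (IsLocalRing.ResidueField Q.O)) with
      commutes' := fun c => by
        show algebraMap (IsLocalRing.ResidueField P.O) (IsLocalRing.ResidueField Q.O)
          (IsLocalRing.residue P.O ⟨algebraMap k K c, P.2.1 c⟩) =
          IsLocalRing.residue Q.O ⟨algebraMap k K' c, Q.2.1 c⟩
        rw [Valuation.HasExtension.algebraMap_residue_eq_residue_algebraMap]
        congr 1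
        apply Subtype.ext
        rw [Valuation.HasExtension.coe_algebraMap_valuationSubring_eq]
        exact (IsScalarTower.algebraMap_apply k K K' c).symm }
  have hbij : Function.Bijective g :=
    ⟨(algebraMap (IsLocalRing.ResidueField P.O) (IsLocalRing.ResidueField Q.O)).injective, hf⟩
  exact (AlgEquiv.ofBijective g hbij).toLinearEquiv.finrank_eq.symm

/-- **S12572.** -/
theorem ord_derivative_minpoly_localParameter_eq_diffExp [FiniteDimensional K K']
    (hK : IsFunctionField k K) (hg : IsGeometric k K)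
    {P : Place k K} {Q : Place k K'} {e : ℕ} (he : IsOverWith Q P e)
    (φ : K →ₐ[k] F⸨X⸩) (hφ : IsExpansionAt P.1 φ) (ψ : K' →ₐ[k] F'⸨X⸩) (hψ : IsExpansionAt Q.1 ψ)
    {x : K} (hx : vDiff φ 1 x ≠ 0) (hx' : vDiff ψ 1 (algebraMap K K' x) ≠ 0)
    [P.1.HasExtension Q.1]
    (hf : Function.Surjective (algebraMap (IsLocalRing.ResidueField P.O)
      (IsLocalRing.ResidueField Q.O)))
    {s : K'} (hs : Q.1 s = exp (-1 : ℤ))
    (hs' : ∀ Q' : Place k K', IsOver Q' P → Q' ≠ Q → Q'.1 s = 1) :
    IntermediateField.adjoin K ({s} : Set K') = ⊤ ∧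
    Q.ord (aeval s (derivative (minpoly K s))) = diffExp φ ψ e x :=
  adjoin_eq_top_and_ord_eq_diffExp hK hg he φ hφ ψ hψ hx hx' (deg_eq_of_residue_surjective hf) hs hs'

/-- **S12573.** -/
theorem ord_derivative_minpoly_eq_diffExp_of_totallyRamified [FiniteDimensional K K']
    (hK : IsFunctionField k K) (hg : IsGeometric k K)
    {P : Place k K} {Q : Place k K'} {e : ℕ} (he : IsOverWith Q P e)
    (φ : K →ₐ[k] F⸨X⸩) (hφ : IsExpansionAt P.1 φ) (ψ : K' →ₐ[k] F'⸨X⸩) (hψ : IsExpansionAt Q.1 ψ)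
    {x : K} (hx : vDiff φ 1 x ≠ 0) (hx' : vDiff ψ 1 (algebraMap K K' x) ≠ 0)
    (hn : e = Module.finrank K K') {s : K'} (hs : Q.1 s = exp (-1 : ℤ)) :
    Q.ord (aeval s (derivative (minpoly K s))) = diffExp φ ψ e x := by
  classical
  have hQP : IsOver Q P := ⟨e, he⟩
  have hfin := finite_isOver (K' := K') hK P
  have hQs : ∀ Q', Q' ∈ hfin.toFinset ↔ IsOver Q' P := fun Q' => hfin.mem_toFinset
  have hsum := sum_ramIdx_mul_deg (K' := K') hK P hfin.toFinset hQs
  have hQmem : Q ∈ hfin.toFinset := (hQs Q).mpr hQP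
  have hle := deg_le_deg hK hQP
  have hePos : 0 < e := isOverWith_pos he
  rw [← Finset.add_sum_erase _ _ hQmem, isOverWith_ramIdx_eq he, ← hn] at hsum
  have hrest : ∑ Q' ∈ hfin.toFinset.erase Q, ramIdx Q' P * Q'.deg = 0 := by
    have h1 : e * P.deg ≤ e * Q.deg := Nat.mul_le_mul_left e hle
    omega
  have hdeg : Q.deg = P.deg := by
    rw [hrest, add_zero] at hsum
    exact Nat.eq_of_mul_eq_mul_left hePos hsum
  have huniq : ∀ Q' : Place k K', IsOver Q' P → Q' ≠ Q → Q'.1 s = 1 := by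
    intro Q' hQ' hne
    exfalso
    have hmem : Q' ∈ hfin.toFinset.erase Q := Finset.mem_erase.mpr ⟨hne, (hQs Q').mpr hQ'⟩
    have h0 := (Finset.sum_eq_zero_iff.mp hrest) Q' hmem
    have h1 := isOver_ramIdx_pos hQ'
    have h2 := deg_pos_weak hK Q'
    rcases Nat.mul_eq_zero.mp h0 with h | h <;> omega
  exact (adjoin_eq_top_and_ord_eq_diffExp hK hg he φ hφ ψ hψ hx hx' hdeg hs huniq).2

end Core

end Groth.Agent.Lib.Helper24.FFExt
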