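import Groth.Agent.Lib.Helper24.FFExt.Basic
import Mathlib.FieldTheory.RatFunc.AsPolynomial
import Mathlib.FieldTheory.RatFunc.IntermediateField

/-! # Places of the rational function field `k(X)` (helper24) -/

set_option autoImplicit false

namespace Groth.Agent.Lib.Helper24.FFExt

open FunFld WithZero Polynomial Groth.Agent.Lib.Helper18.FF

variable {k : Type*} [Field k]

/-- The rational function field is a function field of one variable. -/
theorem isFunctionField_ratFunc : IsFunctionField k (RatFunc k) := by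
  refine ⟨⟨RatFunc.X, RatFunc.transcendental_X, ?_⟩, ?_⟩
  · rw [RatFunc.adjoin_X]
    exact Module.Finite.of_surjective
      (Algebra.linearMap (⊤ : IntermediateField k (RatFunc k)) (RatFunc k))
      (fun z => ⟨⟨z, IntermediateField.mem_top⟩, rfl⟩)
  · intro y hy
    by_contra hne
    apply RatFunc.transcendental_of_ne_C y _ hy
    rintro ⟨c, rfl⟩
    exact hne ⟨c, by rw [RatFunc.algebraMap_eq_C]⟩

instance (P₀ : Place k (RatFunc k)) : Valuation.IsTrivialOn k P₀.1 :=
  ⟨fun _ ha => val_algebraMap P₀ ha⟩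

section Finite

variable (P₀ : Place k (RatFunc k))

theorem val_poly_le_one (hX : P₀.1 RatFunc.X ≤ 1) (g : k[X]) :
    P₀.1 (algebraMap k[X] (RatFunc k) g) ≤ 1 := by
  rw [← RatFunc.coePolynomial_eq_algebraMap]
  exact Polynomial.valuation_le_one_of_valuation_X_le_one k hX g

theorem val_X_le_one_of_val_poly_lt_one {p : k[X]} (hp0 : p ≠ 0)
    (hP : P₀.1 (algebraMap k[X] (RatFunc k) p) < 1) : P₀.1 RatFunc.X ≤ 1 := by
  by_contra hlt
  push Not at hlt
  have := Polynomial.valuation_eq_valuation_X_pow_natDegree_of_one_lt_valuation_X k hlt hp0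
  rw [RatFunc.coePolynomial_eq_algebraMap] at this
  rw [this] at hP
  exact absurd hP (not_lt.mpr (one_le_pow₀ hlt.le))

theorem val_eq_one_of_not_dvd {p : k[X]} (hp : Irreducible p)
    (hP : P₀.1 (algebraMap k[X] (RatFunc k) p) < 1) {g : k[X]} (hg : ¬ p ∣ g) :
    P₀.1 (algebraMap k[X] (RatFunc k) g) = 1 := by
  have hX := val_X_le_one_of_val_poly_lt_one P₀ hp.ne_zero hP
  refine le_antisymm (val_poly_le_one P₀ hX g) (not_lt.mp fun hlt => ?_)
  obtain ⟨a, b, hab⟩ := (hp.coprime_iff_not_dvd).mpr hg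
  have h1 : P₀.1 (algebraMap k[X] (RatFunc k) (a * p + b * g)) < 1 := by
    rw [map_add, map_mul, map_mul]
    refine Valuation.map_add_lt _ ?_ ?_
    · rw [map_mul]
      exact lt_of_le_of_lt (mul_le_mul' (val_poly_le_one P₀ hX a) le_rfl) (by rwa [one_mul])
    · rw [map_mul]
      exact lt_of_le_of_lt (mul_le_mul' (val_poly_le_one P₀ hX b) le_rfl) (by rwa [one_mul])
  rw [hab, map_one, map_one] at h1
  exact lt_irrefl _ h1

/-- The value of a polynomial at the `p`-adic place. -/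
theorem val_pow_mul_of_not_dvd {p : k[X]} (hp : Irreducible p)
    (hP : P₀.1 (algebraMap k[X] (RatFunc k) p) < 1) {a : k[X]} (ha : ¬ p ∣ a) (n : ℕ) :
    P₀.1 (algebraMap k[X] (RatFunc k) (p ^ n * a)) = P₀.1 (algebraMap k[X] (RatFunc k) p) ^ n := by
  rw [map_mul, map_pow, map_mul, map_pow, val_eq_one_of_not_dvd P₀ hp hP ha, mul_one]

/-- An irreducible polynomial with a zero at `P₀` is a uniformizer of `P₀`. -/
theorem val_irreducible_eq {p : k[X]} (hp : Irreducible p)
    (hP : P₀.1 (algebraMap k[X] (RatFunc k) p) < 1) :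
    P₀.1 (algebraMap k[X] (RatFunc k) p) = exp (-1 : ℤ) := by
  obtain ⟨t, ht⟩ := exists_uniformizer P₀
  have ht0 : t ≠ 0 := by rintro rfl; rw [map_zero] at ht; exact exp_ne_zero ht.symm
  have hp0 : p ≠ 0 := hp.ne_zero
  have hpv0 : P₀.1 (algebraMap k[X] (RatFunc k) p) ≠ 0 :=
    (Valuation.ne_zero_iff _).mpr (RatFunc.algebraMap_ne_zero hp0)
  set m : ℤ := log (P₀.1 (algebraMap k[X] (RatFunc k) p)) with hm
  have hpm : P₀.1 (algebraMap k[X] (RatFunc k) p) = exp m := (exp_log hpv0).symm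
  have hm_neg : m < 0 := by
    rw [hpm, ← exp_zero, exp_lt_exp] at hP
    exact hP
  obtain ⟨i, a, ha, hnum⟩ := WfDvdMonoid.max_power_factor (RatFunc.num_ne_zero ht0) hp
  obtain ⟨j, b, hb, hden⟩ := WfDvdMonoid.max_power_factor (RatFunc.denom_ne_zero t) hp
  have h1 := RatFunc.num_div_denom t
  have h2 : P₀.1 t = exp m ^ i / exp m ^ j := by
    rw [← h1, map_div₀, hnum, hden, val_pow_mul_of_not_dvd P₀ hp hP ha,
      val_pow_mul_of_not_dvd P₀ hp hP hb, hpm]
  rw [ht, ← exp_nsmul, ← exp_nsmul, ← exp_sub, exp_inj, nsmul_eq_mul, nsmul_eq_mul] at h2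
  have h3 : m * ((j : ℤ) - i) = 1 := by linarith
  rcases Int.eq_one_or_neg_one_of_mul_eq_one h3 with h | h
  · omega
  · rw [hpm, h]

theorem ord_irreducible_eq {p : k[X]} (hp : Irreducible p)
    (hP : P₀.1 (algebraMap k[X] (RatFunc k) p) < 1) :
    P₀.ord (algebraMap k[X] (RatFunc k) p) = 1 := by
  rw [ord_eq_of_val_eq_exp P₀ (val_irreducible_eq P₀ hp hP)]
  norm_num

/-- A squarefree polynomial divisible by `p` has order one at the `p`-adic place. -/
theorem ord_squarefree_eq {p : k[X]} (hp : Irreducible p)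
    (hP : P₀.1 (algebraMap k[X] (RatFunc k) p) < 1) {f : k[X]} (hf : Squarefree f) (hpf : p ∣ f) :
    P₀.ord (algebraMap k[X] (RatFunc k) f) = 1 := by
  obtain ⟨g, rfl⟩ := hpf
  have hg : ¬ p ∣ g := by
    intro hpg
    obtain ⟨g', rfl⟩ := hpg
    have : p * p ∣ p * (p * g') := ⟨g', by ring⟩
    exact hp.not_isUnit (hf p this)
  have h := val_pow_mul_of_not_dvd P₀ hp hP hg 1
  rw [pow_one, pow_one, val_irreducible_eq P₀ hp hP] at h
  rw [ord_eq_of_val_eq_exp P₀ h]
  norm_num

end Finite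

end Groth.Agent.Lib.Helper24.FFExt
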