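import Groth.Agent.S12519
import Groth.Agent.Lib.Helper24.FFExt.DiffMinpoly
import Groth.Agent.Lib.Helper24.FFExt.SepConst
import Groth.Agent.Lib.Helper24.FFExt.RatPlace

/-! # Different exponent of an Artin–Schreier extension at an odd pole -/

set_option autoImplicit false
set_option linter.style.haveILetI false

namespace Groth.Agent.Lib.Helper24.FFExt

open FunFld LocRes LaurentSeries WithZero Polynomial Groth.Agent.Lib.Helper18.FF

universe u v w

theorem artin_schreier_diffExp {k : Type u} {K : Type v} [Field k] [Field K] [Algebra k K]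
    [Algebra (RatFunc k) K] [IsScalarTower k (RatFunc k) K]
    (hdeg : Module.finrank (RatFunc k) K = 2) [PerfectField k] (h2 : ringChar k = 2)
    [Algebra.IsSeparable (RatFunc k) K]
    (y : K) (hy : y ∉ Set.range (algebraMap (RatFunc k) K)) (f : RatFunc k)
    (heq : y ^ 2 + y = algebraMap (RatFunc k) K f)
    (p : Place k (RatFunc k)) (hp : 1 < p.1 f) (hodd : Odd (p.ord f))
    (P : Place k K) (e : ℕ) (he : IsOverWith P p e)
    {F F' : Type w} [Field F] [Algebra k F] [Field F'] [Algebra k F']
    (φ : RatFunc k →ₐ[k] F⸨X⸩) (hφ : IsExpansionAt p.1 φ)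
    (ψ : K →ₐ[k] F'⸨X⸩) (hψ : IsExpansionAt P.1 ψ)
    (z : RatFunc k) (hz : vDiff φ 1 z ≠ 0) (hz' : vDiff ψ 1 (algebraMap (RatFunc k) K z) ≠ 0) :
    diffExp φ ψ e z = 1 - p.ord f := by
  classical
  have hK₀ : IsFunctionField k (RatFunc k) := isFunctionField_ratFunc
  have hg₀ : IsGeometric k (RatFunc k) := isGeometric_of_perfectField hK₀
  haveI : FiniteDimensional (RatFunc k) K := Module.finite_of_finrank_pos (by rw [hdeg]; norm_num)
  have hf0 : f ≠ 0 := by
    rintro rfl
    rw [map_zero] at hp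
    exact absurd hp (by simp)
  have hneg : p.ord f < 0 := (one_lt_val_iff_ord_neg p hf0).mp hp
  have hPp : IsOver P p := isOverWith_isOver he
  have he2 := (((Groth.Agent.S12519.result k K h2 hdeg y hy f heq p).1 ⟨hneg, hodd⟩).2 P hPp).1
  have hee : e = 2 := isOverWith_eq he he2
  subst hee
  obtain ⟨π, hπ⟩ := exists_uniformizer p
  obtain ⟨d, hd⟩ : ∃ d : ℕ, p.ord f = 1 - 2 * (d : ℤ) := by
    obtain ⟨m, hm⟩ := hodd
    refine ⟨(-m).toNat, ?_⟩
    have : ((-m).toNat : ℤ) = -m := Int.toNat_of_nonneg (by omega)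
    rw [this, hm]
    ring
  have hπ0 : π ≠ 0 := by
    rintro rfl
    rw [map_zero] at hπ
    exact absurd hπ.symm (by simp)
  set a : RatFunc k := π ^ d with ha
  have ha0 : a ≠ 0 := pow_ne_zero _ hπ0
  have haK0 : algebraMap (RatFunc k) K a ≠ 0 := (_root_.map_ne_zero _).mpr ha0
  -- valuations
  have hpf : p.1 f = exp (2 * (d : ℤ) - 1) := by
    rw [val_eq_exp_neg_ord p hf0, hd]
    congr 1
    ring
  have hPf : P.1 (algebraMap (RatFunc k) K f) = exp (2 * (2 * (d : ℤ) - 1)) := by
    have := isOverWith_val_of_val_eq_exp he hpf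
    simpa using this
  have hPy1 : 1 < P.1 y := by
    by_contra hle
    push Not at hle
    have h1 : P.1 (y ^ 2 + y) ≤ 1 := by
      refine (P.1.map_add _ _).trans (max_le ?_ hle)
      rw [map_pow]
      exact pow_le_one₀ zero_le hle
    rw [heq, hPf, ← exp_zero, exp_le_exp] at h1
    omega
  have hy0 : y ≠ 0 := by
    rintro rfl
    rw [map_zero] at hPy1
    exact absurd hPy1 (by simp)
  have hlt : P.1 y < P.1 (y ^ 2) := by
    rw [map_pow, pow_two]
    have h0 : 0 < P.1 y := zero_lt_one.trans hPy1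
    calc P.1 y = P.1 y * 1 := (mul_one _).symm
      _ < P.1 y * P.1 y := mul_lt_mul_of_pos_left hPy1 h0
  have hval : P.1 (y ^ 2 + y) = P.1 (y ^ 2) := Valuation.map_add_eq_of_lt_left _ hlt
  have hPy : P.1 y = exp (2 * (d : ℤ) - 1) := by
    have h1 := val_eq_exp_neg_ord P hy0
    rw [heq, hPf, map_pow, h1, ← exp_nsmul, exp_inj] at hval
    rw [h1]
    congr 1
    simp only [nsmul_eq_mul] at hval
    push_cast at hval
    omega
  have hPa : P.1 (algebraMap (RatFunc k) K a) = exp (-(2 * (d : ℤ))) := by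
    have h1 : p.1 a = exp (-(d : ℤ)) := by
      rw [ha, map_pow, hπ, ← exp_nsmul]
      congr 1
      simp
    have := isOverWith_val_of_val_eq_exp he h1
    rw [this]
    congr 1
    push_cast
    ring
  set s : K := algebraMap (RatFunc k) K a * y with hs
  have hPs : P.1 s = exp (-1 : ℤ) := by
    rw [hs, map_mul, hPa, hPy, ← exp_add]
    congr 1
    ring
  -- minimal polynomial
  set g : (RatFunc k)[X] := X ^ 2 + C a * X - C (a ^ 2 * f) with hg
  have hgmonic : g.Monic := by
    rw [hg]
    monicity!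
  have hgdeg : g.degree = 2 := by
    rw [hg]
    compute_degree!
  have hgs : aeval s g = 0 := by
    rw [hg]
    simp only [map_sub, map_add, map_mul, map_pow, aeval_X, aeval_C]
    rw [← heq, hs]
    ring
  have hsint : IsIntegral (RatFunc k) s := Algebra.IsIntegral.isIntegral s
  have hsnot : s ∉ (algebraMap (RatFunc k) K).range := by
    rintro ⟨c, hc⟩
    apply hy
    refine ⟨c / a, ?_⟩
    rw [map_div₀, hc, hs, mul_div_assoc, mul_comm, div_mul_cancel₀ _ haK0]
  have hmin : minpoly (RatFunc k) s = g := by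
    symm
    refine minpoly.unique _ _ hgmonic hgs fun q hq hqs => ?_
    have h1 := (minpoly.two_le_natDegree_iff hsint).mpr hsnot
    have h2' := minpoly.min (RatFunc k) s hq hqs
    rw [hgdeg]
    refine le_trans ?_ h2'
    rw [Polynomial.degree_eq_natDegree (minpoly.ne_zero hsint)]
    exact_mod_cast h1
  haveI : CharP k 2 := ringChar.of_eq h2
  haveI : CharP (RatFunc k) 2 := charP_of_injective_algebraMap (algebraMap k (RatFunc k)).injective 2
  have hder : derivative g = C a := by
    rw [hg]
    simp only [derivative_sub, derivative_add, derivative_X_pow, Polynomial.derivative_mul,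
      Polynomial.derivative_C, derivative_X, zero_mul, zero_add, mul_one, sub_zero]
    have h20 : (2 : (RatFunc k)[X]) = 0 := by
      rw [← C_ofNat, CharTwo.two_eq_zero, C_0]
    have h20' : (2 : RatFunc k) = 0 := CharTwo.two_eq_zero
    simp [h20']
  have key := ord_derivative_minpoly_eq_diffExp_of_totallyRamified hK₀ hg₀ he φ hφ ψ hψ hz hz'
    hdeg.symm hPs
  rw [← key, hmin, hder, aeval_C, isOverWith_ord_eq he, ha, ord_pow,
    ord_eq_of_val_eq_exp p hπ, hd]
  push_cast
  ring

end Groth.Agent.Lib.Helper24.FFExt
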