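import Groth.Agent.Lib.Helper24.FFExt.Basic
import Groth.Agent.Lib.Helper18.FF.Approx2
import Mathlib.RingTheory.Norm.Transitivity
import Mathlib.FieldTheory.Galois.Basic

/-! # The Galois group acts transitively on the places above a place (helper24) -/

set_option autoImplicit false

namespace Groth.Agent.Lib.Helper24.FFExt

open FunFld WithZero Groth.Agent.Lib.Helper18.FF

variable {k K K' : Type*} [Field k] [Field K] [Field K'] [Algebra k K] [Algebra K K'] [Algebra k K']
  [IsScalarTower k K K']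

/-- The place `x ↦ Q (σ x)`. -/
def placeComap (σ : K' ≃ₐ[K] K') (Q : Place k K') : Place k K' :=
  ⟨Q.1.comap (σ : K' →+* K'), fun c => by
      rw [Valuation.comap_apply]
      have : (σ : K' →+* K') (algebraMap k K' c) = algebraMap k K' c := by
        rw [IsScalarTower.algebraMap_apply k K K']; exact σ.commutes _
      rw [this]; exact Q.2.1 c,
    fun γ => by
      obtain ⟨y, hy⟩ := Q.2.2 γ
      refine ⟨σ.symm y, ?_⟩
      rw [Valuation.comap_apply]
      have : (σ : K' →+* K') (σ.symm y) = y := σ.apply_symm_apply y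
      rw [this, hy]⟩

theorem placeComap_val (σ : K' ≃ₐ[K] K') (Q : Place k K') (x : K') :
    (placeComap σ Q).1 x = Q.1 (σ x) := rfl

theorem placeComap_mul (σ τ : K' ≃ₐ[K] K') (Q : Place k K') :
    placeComap (σ * τ) Q = placeComap τ (placeComap σ Q) := rfl

theorem placeComap_one (Q : Place k K') : placeComap (1 : K' ≃ₐ[K] K') Q = Q := rfl

theorem placeComap_inv_placeComap (σ : K' ≃ₐ[K] K') (Q : Place k K') :
    placeComap σ⁻¹ (placeComap σ Q) = Q := by
  rw [← placeComap_mul, mul_inv_cancel, placeComap_one]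

theorem isOverWith_placeComap {Q : Place k K'} {P : Place k K} {e : ℕ} (h : IsOverWith Q P e)
    (σ : K' ≃ₐ[K] K') : IsOverWith (placeComap σ Q) P e := by
  intro x
  rw [placeComap_val, σ.commutes]
  exact h x

theorem isOver_placeComap {Q : Place k K'} {P : Place k K} (h : IsOver Q P)
    (σ : K' ≃ₐ[K] K') : IsOver (placeComap σ Q) P := by
  obtain ⟨e, he⟩ := h
  exact ⟨e, isOverWith_placeComap he σ⟩

/-- **Transitivity**: two places of a finite Galois extension with equivalent restrictions are conjugate. -/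
theorem exists_placeComap_eq [FiniteDimensional K K'] [IsGalois K K'] (Q₁ Q₂ : Place k K')
    (h : (Q₁.1.comap (algebraMap K K')).IsEquiv (Q₂.1.comap (algebraMap K K'))) :
    ∃ σ : K' ≃ₐ[K] K', placeComap σ Q₁ = Q₂ := by
  classical
  by_contra hcon
  push Not at hcon
  set T₁ : Finset (Place k K') := Finset.univ.image (fun σ : K' ≃ₐ[K] K' => placeComap σ Q₁) with hT₁
  set T₂ : Finset (Place k K') := Finset.univ.image (fun σ : K' ≃ₐ[K] K' => placeComap σ Q₂) with hT₂
  have hdisj : ∀ σ : K' ≃ₐ[K] K', placeComap σ Q₁ ∉ T₂ := by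
    intro σ hmem
    rw [hT₂, Finset.mem_image] at hmem
    obtain ⟨τ, -, hτ⟩ := hmem
    apply hcon (σ * τ⁻¹)
    rw [placeComap_mul, ← hτ, placeComap_inv_placeComap]
  obtain ⟨z, hz⟩ := exists_approx_eq (T₁ ∪ T₂) (fun _ => (0 : K'))
    (fun Q => if Q ∈ T₂ then (-1 : ℤ) else 0)
  have hz1 : ∀ σ : K' ≃ₐ[K] K', Q₁.1 (σ z) = 1 := by
    intro σ
    have hm : placeComap σ Q₁ ∈ T₁ ∪ T₂ :=
      Finset.mem_union_left _ (Finset.mem_image_of_mem _ (Finset.mem_univ σ))
    have := hz _ hm
    rw [sub_zero, if_neg (hdisj σ), exp_zero] at this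
    exact this
  have hz2 : ∀ σ : K' ≃ₐ[K] K', Q₂.1 (σ z) = exp (-1 : ℤ) := by
    intro σ
    have hm2 : placeComap σ Q₂ ∈ T₂ := Finset.mem_image_of_mem _ (Finset.mem_univ σ)
    have hm : placeComap σ Q₂ ∈ T₁ ∪ T₂ := Finset.mem_union_right _ hm2
    have := hz _ hm
    rw [sub_zero, if_pos hm2] at this
    exact this
  have hnorm := Algebra.norm_eq_prod_automorphisms K z
  have h1 : Q₁.1 (algebraMap K K' (Algebra.norm K z)) = 1 := by
    rw [hnorm, map_prod]
    exact Finset.prod_eq_one fun σ _ => hz1 σ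
  have h2 : Q₂.1 (algebraMap K K' (Algebra.norm K z)) < 1 := by
    rw [hnorm, map_prod, Finset.prod_congr rfl (fun σ _ => hz2 σ), Finset.prod_const]
    have hcard : Finset.card (Finset.univ : Finset (K' ≃ₐ[K] K')) ≠ 0 :=
      Finset.card_ne_zero.mpr ⟨1, Finset.mem_univ _⟩
    refine pow_lt_one₀ zero_le ?_ hcard
    rw [← exp_zero, exp_lt_exp]
    norm_num
  have h3 := (h 1 (Algebra.norm K z))
  rw [Valuation.comap_apply, Valuation.comap_apply, Valuation.comap_apply, Valuation.comap_apply,
    map_one, map_one, map_one, h1] at h3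
  exact absurd (h3.mp le_rfl) (not_le.mpr h2)

end Groth.Agent.Lib.Helper24.FFExt
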