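import Groth.Agent.Lib.Helper24.FFExt.Over
import Groth.Agent.Lib.Helper24.FFExt.Galois
import Groth.Agent.Lib.Helper18.FF.Residue
import Mathlib.FieldTheory.Galois.Basic

/-! # Ramification in quadratic extensions of function fields (helper24) -/

set_option autoImplicit false

namespace Groth.Agent.Lib.Helper24.FFExt

open FunFld WithZero IntermediateField Groth.Agent.Lib.Helper18.FF

variable {k K K' : Type*} [Field k] [Field K] [Field K'] [Algebra k K] [Algebra K K'] [Algebra k K']
  [IsScalarTower k K K']

/-- If `deg Q = deg P`, every integral element at `Q` is congruent to an element of `K`. -/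
theorem exists_sub_lt_one_of_deg_eq [FiniteDimensional K K'] (hK : IsFunctionField k K)
    {Q : Place k K'} {P : Place k K} (h : IsOver Q P) (hdeg : Q.deg = P.deg) (w : K')
    (hw : Q.1 w ≤ 1) : ∃ c : K, P.1 c ≤ 1 ∧ Q.1 (w - algebraMap K K' c) < 1 := by
  letI : Algebra (IsLocalRing.ResidueField P.O) (IsLocalRing.ResidueField Q.O) :=
    (IsLocalRing.ResidueField.map (overRingHom h)).toAlgebra
  have h1 : IsScalarTower k (IsLocalRing.ResidueField P.O) (IsLocalRing.ResidueField Q.O) := by
    refine IsScalarTower.of_algebraMap_eq fun c => ?_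
    show IsLocalRing.residue _ (algebraMap k Q.O c) =
      IsLocalRing.ResidueField.map (overRingHom h) (IsLocalRing.residue _ (algebraMap k P.O c))
    rw [IsLocalRing.ResidueField.map_residue]
    congr 1
    apply Subtype.ext
    show algebraMap k K' c = algebraMap K K' (algebraMap k K c)
    rw [← IsScalarTower.algebraMap_apply]
  have hmul : P.deg * Module.finrank (IsLocalRing.ResidueField P.O) (IsLocalRing.ResidueField Q.O) =
      Q.deg :=
    @Module.finrank_mul_finrank k (IsLocalRing.ResidueField P.O)
      (IsLocalRing.ResidueField Q.O) _ _ _ _ _ _ h1 _ _ _ _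
  have hpos := deg_pos hK P
  have hone : Module.finrank (IsLocalRing.ResidueField P.O) (IsLocalRing.ResidueField Q.O) = 1 := by
    rw [hdeg] at hmul
    exact Nat.eq_of_mul_eq_mul_left hpos (by rw [hmul, mul_one])
  have htop := Subalgebra.bot_eq_top_of_finrank_eq_one hone
  have hmem : res Q w hw ∈ (⊥ : Subalgebra (IsLocalRing.ResidueField P.O)
      (IsLocalRing.ResidueField Q.O)) := by rw [htop]; trivial
  obtain ⟨a, ha⟩ := Algebra.mem_bot.mp hmem
  obtain ⟨c, hc, rfl⟩ := res_surjective P a
  refine ⟨c, hc, ?_⟩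
  have hc' : Q.1 (algebraMap K K' c) ≤ 1 := (isOver_le_one_iff h c).mpr hc
  have hsub : Q.1 (w - algebraMap K K' c) ≤ 1 :=
    (Valuation.map_sub _ _ _).trans (max_le hw hc')
  rw [← res_eq_zero_iff Q _ hsub]
  have h2 : res Q (w - algebraMap K K' c) hsub = res Q w hw - res Q (algebraMap K K' c) hc' := by
    unfold res
    rw [← map_sub]
    rfl
  rw [h2, sub_eq_zero, ← ha]
  rfl

/-- If `deg Q = deg P` and `σ` fixes `Q`, then `σ` acts trivially on the residue field of `Q`. -/
theorem val_sub_lt_one_of_deg_eq [FiniteDimensional K K'] (hK : IsFunctionField k K)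
    {Q : Place k K'} {P : Place k K} (h : IsOver Q P) (hdeg : Q.deg = P.deg)
    (σ : K' ≃ₐ[K] K') (hσ : placeComap σ Q = Q) (w : K') (hw : Q.1 w ≤ 1) :
    Q.1 (σ w - w) < 1 := by
  obtain ⟨c, -, hc⟩ := exists_sub_lt_one_of_deg_eq hK h hdeg w hw
  have h1 : σ w - w = σ (w - algebraMap K K' c) - (w - algebraMap K K' c) := by
    rw [map_sub, σ.commutes]; ring
  rw [h1]
  refine lt_of_le_of_lt (Valuation.map_sub _ _ _) (max_lt ?_ hc)
  have : Q.1 (σ (w - algebraMap K K' c)) = (placeComap σ Q).1 (w - algebraMap K K' c) := rfl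
  rw [this, hσ]
  exact hc

/-- Unramified criterion in degree two: an integral element moved by a unit. -/
theorem isOverWith_one_of_quadratic [FiniteDimensional K K'] (hK : IsFunctionField k K)
    (hdeg2 : Module.finrank K K' = 2) {Q : Place k K'} {P : Place k K} (h : IsOver Q P)
    (σ : K' ≃ₐ[K] K') (w : K') (hw : Q.1 w ≤ 1) (hu : Q.1 (σ w - w) = 1) : IsOverWith Q P 1 := by
  classical
  have hfin := finite_isOver (K' := K') hK P
  have hsum := sum_ramIdx_mul_deg (K' := K') hK P hfin.toFinset
    (fun Q => Set.Finite.mem_toFinset hfin)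
  rw [hdeg2] at hsum
  have hmem : Q ∈ hfin.toFinset := (Set.Finite.mem_toFinset hfin).mpr h
  have h1 : ramIdx Q P * Q.deg ≤ 2 * P.deg := by
    rw [← hsum]
    exact Finset.single_le_sum (f := fun Q => ramIdx Q P * Q.deg) (fun _ _ => Nat.zero_le _) hmem
  have hle := deg_le_deg hK h
  have hpos := isOver_ramIdx_pos h
  have hPpos := deg_pos hK P
  have he := isOver_isOverWith_ramIdx h
  by_cases h2 : ramIdx Q P = 1
  · rwa [h2] at he
  · exfalso
    have h3 : 2 ≤ ramIdx Q P := by omega
    have h4 : 2 * Q.deg ≤ ramIdx Q P * Q.deg := Nat.mul_le_mul_right _ h3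
    have hdeg : Q.deg = P.deg := by omega
    have hfull : ramIdx Q P * Q.deg = 2 * P.deg := by omega
    -- `Q` is the only place above `P`
    have hσ : placeComap σ Q = Q := by
      by_contra hne
      have hσP : IsOver (placeComap σ Q) P := isOver_placeComap h σ
      have hsub : ({Q, placeComap σ Q} : Finset (Place k K')) ⊆ hfin.toFinset := by
        intro R hR
        rw [Finset.mem_insert, Finset.mem_singleton] at hR
        rcases hR with rfl | rfl
        · exact hmem
        · exact (Set.Finite.mem_toFinset hfin).mpr hσP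
      have h5 := Finset.sum_le_sum_of_subset (f := fun Q => ramIdx Q P * Q.deg) hsub
      rw [Finset.sum_pair (Ne.symm hne), hsum] at h5
      have h6 : 0 < ramIdx (placeComap σ Q) P * (placeComap σ Q).deg :=
        Nat.mul_pos (isOver_ramIdx_pos hσP) (deg_pos_weak hK _)
      omega
    have := val_sub_lt_one_of_deg_eq hK h hdeg σ hσ w hw
    rw [hu] at this
    exact lt_irrefl _ this

/-- In a separable quadratic extension an element outside the base field is moved by some
automorphism. -/
theorem exists_algEquiv_ne {F E : Type*} [Field F] [Field E] [Algebra F E]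
    (hdeg2 : Module.finrank F E = 2) [Algebra.IsSeparable F E] {y : E}
    (hy : y ∉ Set.range (algebraMap F E)) : ∃ σ : E ≃ₐ[F] E, σ y ≠ y := by
  haveI : FiniteDimensional F E := Module.finite_of_finrank_pos (by rw [hdeg2]; norm_num)
  haveI : Algebra.IsQuadraticExtension F E := ⟨hdeg2⟩
  by_contra hcon
  push Not at hcon
  exact hy ((IsGalois.mem_range_algebraMap_iff_fixed y).mpr hcon)

/-- In a quadratic extension, if every place above `P` has ramification index at least two, then there
is exactly one, it has index two and the same degree. -/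
theorem unique_of_forall_two_le [FiniteDimensional K K'] (hK : IsFunctionField k K)
    (hdeg2 : Module.finrank K K' = 2) (P : Place k K)
    (heven : ∀ Q : Place k K', IsOver Q P → 2 ≤ ramIdx Q P) :
    (∃! Q : Place k K', IsOver Q P) ∧
      ∀ Q : Place k K', IsOver Q P → IsOverWith Q P 2 ∧ Q.deg = P.deg := by
  classical
  have hfin := finite_isOver (K' := K') hK P
  have hsum := sum_ramIdx_mul_deg (K' := K') hK P hfin.toFinset
    (fun Q => Set.Finite.mem_toFinset hfin)
  rw [hdeg2] at hsum
  have hdeg0 := deg_pos hK P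
  have hterm : ∀ Q : Place k K', IsOver Q P → 2 * P.deg ≤ ramIdx Q P * Q.deg := by
    intro Q hQ
    exact Nat.mul_le_mul (heven Q hQ) (deg_le_deg hK hQ)
  have hmain : ∀ Q : Place k K', IsOver Q P → IsOverWith Q P 2 ∧ Q.deg = P.deg := by
    intro Q hQ
    have hmem : Q ∈ hfin.toFinset := (Set.Finite.mem_toFinset hfin).mpr hQ
    have h1 : ramIdx Q P * Q.deg ≤ 2 * P.deg := by
      rw [← hsum]
      exact Finset.single_le_sum (f := fun Q => ramIdx Q P * Q.deg)
        (fun _ _ => Nat.zero_le _) hmem
    have h2 := heven Q hQ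
    have h3 := deg_le_deg hK hQ
    have h4 : 2 * Q.deg ≤ ramIdx Q P * Q.deg := Nat.mul_le_mul_right _ h2
    have h5 : Q.deg = P.deg := by omega
    have h6 : ramIdx Q P = 2 := by
      have h7 : ramIdx Q P * Q.deg = 2 * Q.deg := by omega
      exact Nat.eq_of_mul_eq_mul_right (by omega) h7
    refine ⟨?_, h5⟩
    rw [← h6]
    exact isOver_isOverWith_ramIdx hQ
  refine ⟨?_, hmain⟩
  obtain ⟨Q, hQ⟩ := exists_place_over (K' := K') hK P
  refine ⟨Q, hQ, fun Q' hQ' => ?_⟩
  by_contra hne
  have hsub : ({Q, Q'} : Finset (Place k K')) ⊆ hfin.toFinset := by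
    intro R hR
    rw [Finset.mem_insert, Finset.mem_singleton] at hR
    rcases hR with rfl | rfl
    · exact (Set.Finite.mem_toFinset hfin).mpr hQ
    · exact (Set.Finite.mem_toFinset hfin).mpr hQ'
  have h1 := Finset.sum_le_sum_of_subset (f := fun Q => ramIdx Q P * Q.deg) hsub
  rw [Finset.sum_pair (Ne.symm hne), hsum] at h1
  have h2 := hterm Q hQ
  have h3 := hterm Q' hQ'
  omega

end Groth.Agent.Lib.Helper24.FFExt
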