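import Groth.Agent.Lib.Helper24.FFExt.HyperDiff
import Groth.Agent.S12519

/-! # The genus of an Artin–Schreier double cover of the line in characteristic two -/

set_option autoImplicit false
set_option linter.style.haveILetI false

namespace Groth.Agent.Lib.Helper24.FFExt

open FunFld WithZero IntermediateField Polynomial Groth.Agent.Lib.Helper18.FF

section quadratic

variable {F₀ K : Type*} [Field F₀] [Field K] [Algebra F₀ K]

theorem exists_repr_of_finrank_two (hdeg : Module.finrank F₀ K = 2) {y : K}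
    (hy : y ∉ Set.range (algebraMap F₀ K)) (z : K) :
    ∃ a b : F₀, z = algebraMap F₀ K a + algebraMap F₀ K b * y := by
  classical
  haveI : FiniteDimensional F₀ K := Module.finite_of_finrank_pos (by rw [hdeg]; norm_num)
  have hli : LinearIndependent F₀ ![(1 : K), y] := by
    rw [LinearIndependent.pair_iff]
    intro a b hab
    by_cases hb : b = 0
    · subst hb
      rw [zero_smul, add_zero, Algebra.smul_def, mul_one] at hab
      exact ⟨(map_eq_zero _).mp hab, rfl⟩
    · exfalso
      apply hy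
      refine ⟨-(a / b), ?_⟩
      have hb' : algebraMap F₀ K b ≠ 0 := (_root_.map_ne_zero _).mpr hb
      rw [Algebra.smul_def, Algebra.smul_def, mul_one] at hab
      rw [map_neg, map_div₀]
      field_simp
      linear_combination -hab
  let b : Module.Basis (Fin 2) F₀ K :=
    basisOfLinearIndependentOfCardEqFinrank hli (by rw [hdeg, Fintype.card_fin])
  have hb : ∀ j, b j = ![(1 : K), y] j := fun j => by
    simp only [b, coe_basisOfLinearIndependentOfCardEqFinrank]
  refine ⟨b.repr z 0, b.repr z 1, ?_⟩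
  conv_lhs => rw [← b.sum_repr z]
  rw [Fin.sum_univ_two, hb 0, hb 1, Algebra.smul_def, Algebra.smul_def]
  simp

end quadratic

section as

variable {k K : Type*} [Field k] [Field K] [Algebra k K] [Algebra (RatFunc k) K]
  [IsScalarTower k (RatFunc k) K]

theorem as_isSeparable [CharP k 2] (hdeg : Module.finrank (RatFunc k) K = 2) {y : K}
    (hy : y ∉ Set.range (algebraMap (RatFunc k) K)) {f : RatFunc k}
    (heq : y ^ 2 + y = algebraMap (RatFunc k) K f) : Algebra.IsSeparable (RatFunc k) K := by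
  haveI : CharP (RatFunc k) 2 :=
    charP_of_injective_algebraMap (algebraMap k (RatFunc k)).injective 2
  have htop := hyper_adjoin_eq_top hdeg hy
  have hsep : (X ^ 2 + X - C f : (RatFunc k)[X]).Separable := by
    rw [separable_def]
    have hder : derivative (X ^ 2 + X - C f : (RatFunc k)[X]) = 1 := by
      simp only [derivative_sub, derivative_add, derivative_X_pow, derivative_X, derivative_C,
        sub_zero]
      have h20 : (2 : RatFunc k) = 0 := CharTwo.two_eq_zero
      simp [h20]
    rw [hder]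
    exact isCoprime_one_right
  have hroot : aeval y (X ^ 2 + X - C f : (RatFunc k)[X]) = 0 := by
    rw [map_sub, map_add, map_pow, aeval_X, aeval_C, heq, sub_self]
  have hysep : IsSeparable (RatFunc k) y := hsep.of_dvd (minpoly.dvd _ _ hroot)
  haveI : Algebra.IsSeparable (RatFunc k) (IntermediateField.adjoin (RatFunc k) ({y} : Set K)) :=
    (IntermediateField.isSeparable_adjoin_simple_iff_isSeparable _ _).mpr hysep
  have e : (IntermediateField.adjoin (RatFunc k) ({y} : Set K)) ≃ₐ[RatFunc k] K := by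
    rw [htop]
    exact IntermediateField.topEquiv
  exact AlgEquiv.Algebra.isSeparable e

theorem as_exists_involution [CharP k 2] (hdeg : Module.finrank (RatFunc k) K = 2) {y : K}
    (hy : y ∉ Set.range (algebraMap (RatFunc k) K)) {f : RatFunc k}
    (heq : y ^ 2 + y = algebraMap (RatFunc k) K f) :
    ∃ σ : K ≃ₐ[RatFunc k] K, σ y = y + 1 := by
  haveI := as_isSeparable hdeg hy heq
  obtain ⟨σ, hσ⟩ := exists_algEquiv_ne hdeg hy
  refine ⟨σ, ?_⟩
  haveI : CharP K 2 := charP_of_injective_algebraMap (algebraMap k K).injective 2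
  have h2K : (2 : K) = 0 := CharTwo.two_eq_zero
  have h1 : (σ y) ^ 2 + σ y = y ^ 2 + y := by
    rw [← map_pow, ← map_add, heq, σ.commutes]
  have h3 : (σ y - y) * (σ y + y + 1) = 0 := by linear_combination h1
  rcases mul_eq_zero.mp h3 with h | h
  · exact absurd (sub_eq_zero.mp h) hσ
  · linear_combination h - (y + 1) * h2K

section local_data

variable [PerfectField k]

theorem as_pole_data (h2 : ringChar k = 2) (hdeg : Module.finrank (RatFunc k) K = 2) {y : K}
    (hy : y ∉ Set.range (algebraMap (RatFunc k) K)) {f : RatFunc k}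
    (heq : y ^ 2 + y = algebraMap (RatFunc k) K f) {p : Place k (RatFunc k)}
    (hneg : p.ord f < 0) (hodd : Odd (p.ord f)) {P : Place k K} (hP : IsOver P p) :
    IsOverWith P p 2 ∧ P.1 y = p.1 f := by
  haveI : CharP k 2 := ringChar.of_eq h2
  haveI := as_isSeparable hdeg hy heq
  have he2 := (((Groth.Agent.S12519.result k K h2 hdeg y hy f heq p).1 ⟨hneg, hodd⟩).2 P hP).1
  refine ⟨he2, ?_⟩
  have hf0 : f ≠ 0 := by
    rintro rfl
    rw [ord_zero] at hneg
    exact lt_irrefl _ hneg
  have hpf : 1 < p.1 f := (one_lt_val_iff_ord_neg p hf0).mpr hneg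
  have hPf : P.1 (algebraMap (RatFunc k) K f) = p.1 f ^ 2 := he2 f
  have hPf1 : 1 < P.1 (algebraMap (RatFunc k) K f) := by
    rw [hPf]
    exact one_lt_pow₀ hpf two_ne_zero
  have hPy1 : 1 < P.1 y := by
    by_contra hle
    push Not at hle
    have h1 : P.1 (y ^ 2 + y) ≤ 1 := by
      refine (P.1.map_add _ _).trans (max_le ?_ hle)
      rw [map_pow]
      exact pow_le_one₀ zero_le hle
    rw [heq] at h1
    exact absurd hPf1 (not_lt.mpr h1)
  have hlt : P.1 y < P.1 (y ^ 2) := by
    rw [map_pow, pow_two]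
    have h0 : 0 < P.1 y := zero_lt_one.trans hPy1
    calc P.1 y = P.1 y * 1 := (mul_one _).symm
      _ < P.1 y * P.1 y := mul_lt_mul_of_pos_left hPy1 h0
  have hval : P.1 (y ^ 2 + y) = P.1 (y ^ 2) := Valuation.map_add_eq_of_lt_left _ hlt
  rw [heq, hPf, map_pow] at hval
  exact (zm0_eq_of_pow_eq two_ne_zero hval).symm

theorem as_val_y_le_one {y : K} {f : RatFunc k}
    (heq : y ^ 2 + y = algebraMap (RatFunc k) K f) {p : Place k (RatFunc k)}
    (hnn : 0 ≤ p.ord f) {P : Place k K} (hP : IsOver P p) : P.1 y ≤ 1 := by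
  have hP0f : p.1 f ≤ 1 := by
    rcases eq_or_ne f 0 with rfl | hf0
    · simp
    · exact (val_le_one_iff_ord_nonneg p hf0).mpr hnn
  have hPf : P.1 (algebraMap (RatFunc k) K f) ≤ 1 := (isOver_le_one_iff hP f).mpr hP0f
  by_contra hlt
  push Not at hlt
  have hlt' : P.1 y < P.1 (y ^ 2) := by
    rw [map_pow, pow_two]
    have h0 : 0 < P.1 y := zero_lt_one.trans hlt
    calc P.1 y = P.1 y * 1 := (mul_one _).symm
      _ < P.1 y * P.1 y := mul_lt_mul_of_pos_left hlt h0
  have hval : P.1 (y ^ 2 + y) = P.1 (y ^ 2) := Valuation.map_add_eq_of_lt_left _ hlt'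
  rw [heq, map_pow] at hval
  have : 1 < P.1 y ^ 2 := one_lt_pow₀ hlt two_ne_zero
  rw [← hval] at this
  exact absurd hPf (not_le.mpr this)

end local_data

/-- The divisor `∑ d_p p` over the poles of `f`, where the pole order at `p` is `2 d_p - 1`. -/
noncomputable def asE (f : RatFunc k) : Divisor k (RatFunc k) :=
  Finsupp.onFinset (FunFld.div k f).support
    (fun p => if FunFld.div k f p < 0 then (1 - FunFld.div k f p) / 2 else 0)
    (by
      intro p hp
      rw [Finsupp.mem_support_iff]
      intro h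
      apply hp
      rw [h]
      simp)

theorem asE_apply (f : RatFunc k) (p : Place k (RatFunc k)) :
    asE f p = if p.ord f < 0 then (1 - p.ord f) / 2 else 0 := by
  have hK₀ : IsFunctionField k (RatFunc k) := isFunctionField_ratFunc
  rw [asE, Finsupp.onFinset_apply, div_apply hK₀]

theorem deg_asE (f : RatFunc k) :
    (asE f).deg = ∑ P ∈ (FunFld.div k f).support with FunFld.div k f P < 0,
      (1 - FunFld.div k f P) / 2 * (P.deg : ℤ) := by
  have hsub : (asE f).support ⊆ (FunFld.div k f).support := Finsupp.support_onFinset_subset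
  rw [deg_eq_sum_of_support_subset (asE f) _ hsub, Finset.sum_filter]
  refine Finset.sum_congr rfl fun p _ => ?_
  rw [asE, Finsupp.onFinset_apply]
  split_ifs <;> simp

theorem mem_L_sub_asE_iff (f β : RatFunc k) (n : ℕ) :
    β ∈ L (n • poleDiv (k := k) (RatFunc.X : RatFunc k) - asE f) ↔
      ∀ p : Place k (RatFunc k), p.1 β * exp (asE f p) ≤ (max 1 (p.1 RatFunc.X)) ^ n := by
  have hK₀ : IsFunctionField k (RatFunc k) := isFunctionField_ratFunc
  refine forall_congr' fun p => ?_
  rw [Finsupp.sub_apply, Finsupp.smul_apply, exp_sub, exp_nsmul, exp_poleDiv hK₀,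
    le_div_iff₀ (exp_pos)]

theorem zm0_le_of_sq_mul_exp_neg_one_le {c M : ℤᵐ⁰} (h : c ^ 2 * exp (-1 : ℤ) ≤ M ^ 2) :
    c ≤ M := by
  induction c using WithZero.expRecOn with
  | zero => exact zero_le
  | exp i =>
    induction M using WithZero.expRecOn with
    | zero =>
      exfalso
      rw [zero_pow two_ne_zero, ← exp_nsmul, ← exp_add] at h
      exact exp_ne_zero (le_antisymm h zero_le)
    | exp j =>
      rw [← exp_nsmul, ← exp_nsmul, ← exp_add, exp_le_exp] at h
      rw [exp_le_exp]
      simp only [nsmul_eq_mul, Nat.cast_ofNat] at h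
      omega

theorem zm0_sq_eq_sq_mul_exp_neg_one {a c : ℤᵐ⁰} (h : a ^ 2 = c ^ 2 * exp (-1 : ℤ)) :
    a = 0 ∧ c = 0 := by
  induction c using WithZero.expRecOn with
  | zero =>
    rw [zero_pow two_ne_zero, zero_mul] at h
    exact ⟨pow_eq_zero_iff two_ne_zero |>.mp h, rfl⟩
  | exp i =>
    induction a using WithZero.expRecOn with
    | zero =>
      exfalso
      rw [zero_pow two_ne_zero, ← exp_nsmul, ← exp_add] at h
      exact exp_ne_zero h.symm
    | exp j =>
      exfalso
      rw [← exp_nsmul, ← exp_nsmul, ← exp_add, exp_inj] at h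
      simp only [nsmul_eq_mul, Nat.cast_ofNat] at h
      omega

section main

variable [PerfectField k]

theorem as_mem_L (hK : IsFunctionField k K) (h2 : ringChar k = 2)
    (hdeg : Module.finrank (RatFunc k) K = 2) {y : K}
    (hy : y ∉ Set.range (algebraMap (RatFunc k) K)) {f : RatFunc k}
    (heq : y ^ 2 + y = algebraMap (RatFunc k) K f)
    (hodd : ∀ p : Place k (RatFunc k), p.ord f < 0 → Odd (p.ord f)) {n : ℕ} {α β : RatFunc k}
    (hα : α ∈ L (n • poleDiv (k := k) (RatFunc.X : RatFunc k)))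
    (hβ : β ∈ L (n • poleDiv (k := k) (RatFunc.X : RatFunc k) - asE f)) :
    algebraMap (RatFunc k) K α + algebraMap (RatFunc k) K β * y ∈
      L (n • poleDiv (k := k) (algebraMap (RatFunc k) K RatFunc.X)) := by
  have hK₀ : IsFunctionField k (RatFunc k) := isFunctionField_ratFunc
  haveI : FiniteDimensional (RatFunc k) K := Module.finite_of_finrank_pos (by rw [hdeg]; norm_num)
  rw [mem_L_nsmul_poleDiv_iff hK₀] at hα
  rw [mem_L_sub_asE_iff] at hβ
  rw [mem_L_nsmul_poleDiv_iff hK]
  intro P
  obtain ⟨p, hp⟩ := exists_isOver (K := RatFunc k) (K' := K) hK₀ P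
  have he := isOver_isOverWith_ramIdx hp
  set e := ramIdx P p with he_def
  have hM : max 1 (P.1 (algebraMap (RatFunc k) K RatFunc.X)) = (max 1 (p.1 RatFunc.X)) ^ e := by
    rw [he RatFunc.X, max_one_pow]
  rw [hM]
  set M := max 1 (p.1 RatFunc.X) with hMdef
  refine (P.1.map_add _ _).trans (max_le ?_ ?_)
  · rw [he α, pow_right_comm]
    exact pow_le_pow_left' (hα p) e
  · rw [map_mul, he β]
    by_cases hneg : p.ord f < 0
    · obtain ⟨he2, hPy⟩ := as_pole_data h2 hdeg hy heq hneg (hodd p hneg) hp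
      have hee : e = 2 := isOverWith_eq he he2
      obtain ⟨m, hm⟩ := hodd p hneg
      have hf0 : f ≠ 0 := by
        rintro rfl
        rw [ord_zero] at hneg
        exact lt_irrefl _ hneg
      have hE : asE f p = -m := by
        rw [asE_apply, if_pos hneg, hm]
        omega
      have h1 := hβ p
      rw [hE] at h1
      rw [hPy, val_eq_exp_neg_ord p hf0, hm, hee, pow_right_comm M 2 n]
      calc p.1 β ^ 2 * exp (-(2 * m + 1))
          = (p.1 β * exp (-m)) ^ 2 * exp (-1 : ℤ) := by
            rw [mul_pow, ← exp_nsmul, mul_assoc, ← exp_add]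
            congr 2
            simp only [nsmul_eq_mul, Nat.cast_ofNat]
            ring
        _ ≤ (M ^ n) ^ 2 * 1 := by
            refine mul_le_mul' (pow_le_pow_left' h1 2) ?_
            rw [← exp_zero, exp_le_exp]
            norm_num
        _ = (M ^ n) ^ 2 := mul_one _
    · have hE : asE f p = 0 := by rw [asE_apply, if_neg hneg]
      have h1 := hβ p
      rw [hE, exp_zero, mul_one] at h1
      have hPy := as_val_y_le_one heq (not_lt.mp hneg) hp
      rw [pow_right_comm M e n]
      calc p.1 β ^ e * P.1 y ≤ (M ^ n) ^ e * 1 := mul_le_mul' (pow_le_pow_left' h1 e) hPy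
        _ = (M ^ n) ^ e := mul_one _

theorem as_repr_mem_L (hK : IsFunctionField k K) (h2 : ringChar k = 2)
    (hdeg : Module.finrank (RatFunc k) K = 2) {y : K}
    (hy : y ∉ Set.range (algebraMap (RatFunc k) K)) {f : RatFunc k}
    (heq : y ^ 2 + y = algebraMap (RatFunc k) K f)
    (hodd : ∀ p : Place k (RatFunc k), p.ord f < 0 → Odd (p.ord f)) {n : ℕ} {α β : RatFunc k}
    (hz : algebraMap (RatFunc k) K α + algebraMap (RatFunc k) K β * y ∈
      L (n • poleDiv (k := k) (algebraMap (RatFunc k) K RatFunc.X))) :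
    α ∈ L (n • poleDiv (k := k) (RatFunc.X : RatFunc k)) ∧
      β ∈ L (n • poleDiv (k := k) (RatFunc.X : RatFunc k) - asE f) := by
  have hK₀ : IsFunctionField k (RatFunc k) := isFunctionField_ratFunc
  haveI : FiniteDimensional (RatFunc k) K := Module.finite_of_finrank_pos (by rw [hdeg]; norm_num)
  haveI : CharP k 2 := ringChar.of_eq h2
  obtain ⟨σ, hσ⟩ := as_exists_involution hdeg hy heq
  have hσz : σ (algebraMap (RatFunc k) K α + algebraMap (RatFunc k) K β * y) -
      (algebraMap (RatFunc k) K α + algebraMap (RatFunc k) K β * y) =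
      algebraMap (RatFunc k) K β := by
    rw [map_add, map_mul, σ.commutes, σ.commutes, hσ]
    ring
  have hβL : algebraMap (RatFunc k) K β ∈
      L (n • poleDiv (k := k) (algebraMap (RatFunc k) K RatFunc.X)) := by
    rw [← hσz]
    exact Submodule.sub_mem _ (algEquiv_mem_L hK σ hz) hz
  have hβ0 := (mem_L_nsmul_poleDiv_iff hK₀ _ _ _).mp (mem_L_ratFunc_of_mem_L hK hβL)
  rw [mem_L_nsmul_poleDiv_iff hK₀, mem_L_sub_asE_iff, ← forall_and]
  rw [mem_L_nsmul_poleDiv_iff hK] at hz
  intro p
  obtain ⟨P, hP⟩ := exists_place_over (K' := K) hK₀ p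
  have he := isOver_isOverWith_ramIdx hP
  have hepos := isOver_ramIdx_pos hP
  set e := ramIdx P p with he_def
  have hM : max 1 (P.1 (algebraMap (RatFunc k) K RatFunc.X)) = (max 1 (p.1 RatFunc.X)) ^ e := by
    rw [he RatFunc.X, max_one_pow]
  have hzP := hz P
  rw [hM] at hzP
  set M := max 1 (p.1 RatFunc.X) with hMdef
  have hzP' : P.1 (algebraMap (RatFunc k) K α + algebraMap (RatFunc k) K β * y) ≤ (M ^ n) ^ e := by
    rw [pow_right_comm]
    exact hzP
  by_cases hneg : p.ord f < 0
  · obtain ⟨he2, hPy⟩ := as_pole_data h2 hdeg hy heq hneg (hodd p hneg) hP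
    have hee : e = 2 := isOverWith_eq he he2
    obtain ⟨m, hm⟩ := hodd p hneg
    have hf0 : f ≠ 0 := by
      rintro rfl
      rw [ord_zero] at hneg
      exact lt_irrefl _ hneg
    have hE : asE f p = -m := by
      rw [asE_apply, if_pos hneg, hm]
      omega
    rw [hE]
    have hA : P.1 (algebraMap (RatFunc k) K α) = p.1 α ^ 2 := by rw [he α, hee]
    have hB : P.1 (algebraMap (RatFunc k) K β * y) = (p.1 β * exp (-m)) ^ 2 * exp (-1 : ℤ) := by
      rw [map_mul, he β, hee, hPy, val_eq_exp_neg_ord p hf0, hm, mul_pow, ← exp_nsmul, mul_assoc,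
        ← exp_add]
      congr 2
      simp only [nsmul_eq_mul, Nat.cast_ofNat]
      ring
    rw [hee] at hzP'
    by_cases hAB : P.1 (algebraMap (RatFunc k) K α) = P.1 (algebraMap (RatFunc k) K β * y)
    · rw [hA, hB] at hAB
      obtain ⟨h1, h3⟩ := zm0_sq_eq_sq_mul_exp_neg_one hAB
      rw [h1, h3]
      exact ⟨zero_le, zero_le⟩
    · have hmax := Valuation.map_add_of_distinct_val P.1 hAB
      rw [hmax] at hzP'
      have h1 := (le_max_left _ _).trans hzP'
      have h3 := (le_max_right _ _).trans hzP'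
      rw [hA] at h1
      rw [hB] at h3
      exact ⟨(pow_le_pow_iff_left₀ zero_le zero_le two_ne_zero).mp h1,
        zm0_le_of_sq_mul_exp_neg_one_le h3⟩
  · have hE : asE f p = 0 := by rw [asE_apply, if_neg hneg]
    rw [hE, exp_zero, mul_one]
    refine ⟨?_, hβ0 p⟩
    have hPy := as_val_y_le_one heq (not_lt.mp hneg) hP
    have hB : P.1 (algebraMap (RatFunc k) K β * y) ≤ (M ^ n) ^ e := by
      rw [map_mul, he β]
      calc p.1 β ^ e * P.1 y ≤ (M ^ n) ^ e * 1 := mul_le_mul' (pow_le_pow_left' (hβ0 p) e) hPy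
        _ = (M ^ n) ^ e := mul_one _
    have hA : P.1 (algebraMap (RatFunc k) K α) ≤ (M ^ n) ^ e := by
      have h1 : algebraMap (RatFunc k) K α =
          (algebraMap (RatFunc k) K α + algebraMap (RatFunc k) K β * y) -
            algebraMap (RatFunc k) K β * y := by ring
      rw [h1]
      exact (Valuation.map_sub _ _ _).trans (max_le hzP' hB)
    rw [he α] at hA
    exact (pow_le_pow_iff_left₀ zero_le zero_le hepos.ne').mp hA

/-- The genus of an Artin–Schreier double cover with odd pole orders. -/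
theorem as_genus (hK : IsFunctionField k K) (h2 : ringChar k = 2)
    (hdeg : Module.finrank (RatFunc k) K = 2) {y : K}
    (hy : y ∉ Set.range (algebraMap (RatFunc k) K)) {f : RatFunc k}
    (heq : y ^ 2 + y = algebraMap (RatFunc k) K f)
    (hodd : ∀ p : Place k (RatFunc k), p.ord f < 0 → Odd (p.ord f)) :
    (genus k K : ℤ) = -1 + (asE f).deg := by
  classical
  have hK₀ : IsFunctionField k (RatFunc k) := isFunctionField_ratFunc
  have hg₀ : genus k (RatFunc k) = 0 :=
    genus_eq_zero_of_deg_poleDiv_eq_one hK₀ RatFunc.transcendental_X deg_poleDiv_X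
  set x : K := algebraMap (RatFunc k) K RatFunc.X with hx
  set g := genus k K with hg
  set s := (asE f).deg with hs
  set n : ℕ := g + s.toNat with hn
  have hsn : s ≤ n := by
    have := Int.self_le_toNat s
    rw [hn]
    push_cast
    omega
  set D₀ : Divisor k (RatFunc k) := n • poleDiv (k := k) (RatFunc.X : RatFunc k) with hD₀
  set D₁ : Divisor k (RatFunc k) := D₀ - asE f with hD₁
  set D : Divisor k K := n • poleDiv (k := k) x with hD
  let alg : RatFunc k →ₗ[k] K := (IsScalarTower.toAlgHom k (RatFunc k) K).toLinearMap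
  let Φ₁ : L D₀ →ₗ[k] K := alg.comp (Submodule.subtype _)
  let Φ₂ : L D₁ →ₗ[k] K := ((LinearMap.mulRight k y).comp alg).comp (Submodule.subtype _)
  let Φ₀ : (L D₀ × L D₁) →ₗ[k] K := Φ₁.coprod Φ₂
  have hΦ₀ : ∀ ab, Φ₀ ab = algebraMap (RatFunc k) K (ab.1 : RatFunc k) +
      algebraMap (RatFunc k) K (ab.2 : RatFunc k) * y := fun ab => rfl
  have hmemL : ∀ ab, Φ₀ ab ∈ L D := by
    intro ab
    rw [hΦ₀]
    exact as_mem_L hK h2 hdeg hy heq hodd ab.1.2 ab.2.2
  let Φ : (L D₀ × L D₁) →ₗ[k] L D := Φ₀.codRestrict (L D) hmemL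
  have hinj : Function.Injective Φ := by
    rw [← LinearMap.ker_eq_bot, LinearMap.ker_eq_bot']
    intro ab hab
    have h0 : algebraMap (RatFunc k) K (ab.1 : RatFunc k) +
        algebraMap (RatFunc k) K (ab.2 : RatFunc k) * y = 0 := by
      have := congrArg (fun w : L D => (w : K)) hab
      exact this
    have hb : (ab.2 : RatFunc k) = 0 := by
      by_contra hb0
      have hb1 : algebraMap (RatFunc k) K (ab.2 : RatFunc k) ≠ 0 :=
        (_root_.map_ne_zero _).mpr hb0
      apply hy
      refine ⟨-(ab.1 : RatFunc k) / (ab.2 : RatFunc k), ?_⟩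
      rw [map_div₀, map_neg, div_eq_iff hb1]
      linear_combination -h0
    rw [hb, map_zero, zero_mul, add_zero] at h0
    have ha : (ab.1 : RatFunc k) = 0 := (map_eq_zero _).mp h0
    exact Prod.ext (Subtype.ext ha) (Subtype.ext hb)
  have hsurj : Function.Surjective Φ := by
    rintro ⟨z, hz⟩
    obtain ⟨α, β, rfl⟩ := exists_repr_of_finrank_two hdeg hy z
    obtain ⟨hα, hβ⟩ := as_repr_mem_L hK h2 hdeg hy heq hodd hz
    exact ⟨(⟨α, hα⟩, ⟨β, hβ⟩), Subtype.ext rfl⟩
  have e := LinearEquiv.ofBijective Φ ⟨hinj, hsurj⟩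
  haveI := finiteDimensional_L hK₀ D₀
  haveI := finiteDimensional_L hK₀ D₁
  have hell : ell D = ell D₀ + ell D₁ := by
    unfold ell
    rw [← e.finrank_eq, Module.finrank_prod]
  have hdeg₀ : D₀.deg = n := by
    rw [hD₀, deg_nsmul, deg_poleDiv_X, mul_one]
  have hdeg₁ : D₁.deg = n - s := by
    rw [hD₁, deg_sub, hdeg₀]
  have htr : Transcendental k x :=
    (transcendental_algebraMap_iff (algebraMap (RatFunc k) K).injective).mpr
      RatFunc.transcendental_X
  have hdegD : D.deg = 2 * (n : ℤ) := by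
    rw [hD, deg_nsmul, deg_poleDiv_eq hK htr, finrank_adjoin_algebraMap_X, hdeg]
    push_cast
    ring
  have h₀ := ell_eq_of_deg_ge hK₀ D₀ (by rw [hg₀, hdeg₀]; push_cast; omega)
  have h₁ := ell_eq_of_deg_ge hK₀ D₁ (by rw [hg₀, hdeg₁]; push_cast; omega)
  have h₃ := ell_eq_of_deg_ge hK D (by rw [hdegD, hn]; push_cast; omega)
  rw [hdeg₀, hg₀] at h₀
  rw [hdeg₁, hg₀] at h₁
  rw [hdegD, hell] at h₃
  push_cast at h₀ h₁ h₃
  omega

end main

end as

end Groth.Agent.Lib.Helper24.FFExt
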