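import Groth.Agent.Lib.Helper24.FFExt.ASBasis
import Groth.Agent.Lib.Helper24.FFExt.ASAdele
import Groth.Agent.Lib.Helper18.FF.Adele3

/-! # A basis of `H¹(X, O)` for an Artin–Schreier double cover, in terms of repartitions -/

set_option autoImplicit false
set_option linter.style.haveILetI false

namespace Groth.Agent.Lib.Helper24.FFExt

open FunFld WithZero IntermediateField Polynomial Groth.Agent.Lib.Helper18.FF
  Groth.Agent.Lib.Helper18.LinAlg

universe u v

section general

variable {k : Type u} {K : Type v} [Field k] [Field K] [Algebra k K]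

/-- If `∑ cᵢ zᵢ` has valuation `≤ θ`, the `zᵢ` (`i ∈ S`) have pairwise distinct valuations `> θ`
and all other terms have valuation `≤ θ`, then `cᵢ = 0` for `i ∈ S`. -/
theorem coeff_eq_zero_of_val_gt' {ι : Type*} [Fintype ι] (P : Place k K) (z : ι → K) (c : ι → k)
    (θ : ℤᵐ⁰) (S : Set ι) (hS : ∀ i ∈ S, θ < P.1 (z i))
    (hinj : ∀ i ∈ S, ∀ j ∈ S, P.1 (z i) = P.1 (z j) → i = j)
    (hrest : ∀ i, i ∉ S → P.1 (c i • z i) ≤ θ)
    (h : P.1 (∑ i, c i • z i) ≤ θ) : ∀ i ∈ S, c i = 0 := by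
  classical
  by_contra hcon
  push Not at hcon
  have hne : (Finset.univ.filter (fun i => i ∈ S ∧ c i ≠ 0)).Nonempty := by
    obtain ⟨i, hiS, hi⟩ := hcon
    exact ⟨i, by simp [hi, hiS]⟩
  obtain ⟨i₀, hi₀, hmax⟩ := Finset.exists_max_image _ (fun i => P.1 (z i)) hne
  have hi₀S : i₀ ∈ S := (Finset.mem_filter.mp hi₀).2.1
  have hc₀ : c i₀ ≠ 0 := (Finset.mem_filter.mp hi₀).2.2
  have hv₁ : θ < P.1 (z i₀) := hS i₀ hi₀S
  have hv₀ : P.1 (z i₀) ≠ 0 := (zero_le'.trans_lt hv₁).ne'
  have hsplit : ∑ i, c i • z i = c i₀ • z i₀ + ∑ i ∈ Finset.univ.erase i₀, c i • z i := by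
    exact (Finset.add_sum_erase Finset.univ (fun i => c i • z i) (Finset.mem_univ i₀)).symm
  have hrest' : P.1 (∑ i ∈ Finset.univ.erase i₀, c i • z i) < P.1 (z i₀) := by
    apply Valuation.map_sum_lt _ hv₀
    intro i hi
    have hii₀ : i ≠ i₀ := (Finset.mem_erase.mp hi).1
    by_cases hiS : i ∈ S
    · by_cases hci : c i = 0
      · rw [hci, zero_smul, map_zero]; exact zero_lt_iff.mpr hv₀
      · rw [val_smul P hci]
        have hle := hmax i (Finset.mem_filter.mpr ⟨Finset.mem_univ i, hiS, hci⟩)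
        exact lt_of_le_of_ne hle (fun heq => hii₀ (hinj i hiS i₀ hi₀S heq))
    · exact lt_of_le_of_lt (hrest i hiS) hv₁
  have hval : P.1 (∑ i, c i • z i) = P.1 (z i₀) := by
    rw [hsplit, Valuation.map_add_eq_of_lt_left _ (by rw [val_smul P hc₀]; exact hrest'),
      val_smul P hc₀]
  rw [hval] at h
  exact absurd hv₁ (not_lt.mpr h)

/-- The place of `k(x)` at `x = α` is unique. -/
theorem rat_place_unique {p p' : Place k (RatFunc k)} {α : k}
    (h : p.1 ((RatFunc.X : RatFunc k) - RatFunc.C α) < 1)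
    (h' : p'.1 ((RatFunc.X : RatFunc k) - RatFunc.C α) < 1) : p = p' := by
  have hirr : Irreducible (X - C α : k[X]) := irreducible_X_sub_C α
  rw [← algebraMap_X_sub_C] at h h'
  have hX := val_X_le_one_of_val_poly_lt_one p hirr.ne_zero h
  have hX' := val_X_le_one_of_val_poly_lt_one p' hirr.ne_zero h'
  apply place_eq_of_le
  intro x hx
  have hd0 : algebraMap k[X] (RatFunc k) x.denom ≠ 0 := RatFunc.algebraMap_ne_zero x.denom_ne_zero
  have hxe : x = algebraMap k[X] (RatFunc k) x.num / algebraMap k[X] (RatFunc k) x.denom :=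
    (RatFunc.num_div_denom x).symm
  have hnd : ¬ (X - C α) ∣ x.denom := by
    intro hdvd
    have hnum : ¬ (X - C α) ∣ x.num := by
      intro hdvd'
      have hcop : IsCoprime x.num x.denom := RatFunc.isCoprime_num_denom x
      exact hirr.not_isUnit (hcop.isUnit_of_dvd' hdvd' hdvd)
    have h1 := val_eq_one_of_not_dvd p hirr h hnum
    obtain ⟨c, hc⟩ := hdvd
    have h2 : p.1 (algebraMap k[X] (RatFunc k) x.denom) < 1 := by
      rw [hc, map_mul, map_mul]
      exact lt_of_le_of_lt (mul_le_mul' le_rfl (val_poly_le_one p hX c)) (by rwa [mul_one])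
    rw [hxe, map_div₀, h1] at hx
    have h3 : p.1 (algebraMap k[X] (RatFunc k) x.denom) ≠ 0 := (Valuation.ne_zero_iff _).mpr hd0
    rw [div_le_iff₀ (zero_lt_iff.mpr h3), one_mul] at hx
    exact absurd h2 (not_lt.mpr hx)
  rw [hxe, map_div₀, val_eq_one_of_not_dvd p' hirr h' hnd, _root_.div_one]
  exact val_poly_le_one p' hX' _

theorem zm0_sq_mul_exp_odd {a c : ℤᵐ⁰} {d : ℕ} (hd : Odd d)
    (h : a ^ 2 = c ^ 2 * exp (d : ℤ)) : a = 0 ∧ c = 0 := by
  induction c using WithZero.expRecOn with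
  | zero =>
    rw [zero_pow two_ne_zero, zero_mul] at h
    exact ⟨pow_eq_zero_iff two_ne_zero |>.mp h, rfl⟩
  | exp i =>
    induction a using WithZero.expRecOn with
    | zero =>
      exfalso
      rw [zero_pow two_ne_zero, ← exp_nsmul, ← exp_add] at h
      exact exp_ne_zero h.symm
    | exp j =>
      exfalso
      rw [← exp_nsmul, ← exp_nsmul, ← exp_add, exp_inj] at h
      simp only [nsmul_eq_mul, Nat.cast_ofNat] at h
      obtain ⟨m, rfl⟩ := hd
      push_cast at h
      omega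

theorem zm0_le_of_sq_mul_exp_odd_le {c : ℤᵐ⁰} {d : ℕ} (hd : Odd d)
    (h : c ^ 2 * exp (d : ℤ) ≤ 1) : c ≤ exp (-(((d + 1) / 2 : ℕ) : ℤ)) := by
  induction c using WithZero.expRecOn with
  | zero => exact zero_le'
  | exp i =>
    rw [← exp_nsmul, ← exp_add, ← exp_zero, exp_le_exp] at h
    rw [exp_le_exp]
    simp only [nsmul_eq_mul, Nat.cast_ofNat] at h
    obtain ⟨m, rfl⟩ := hd
    push_cast at h ⊢
    omega

end general

section index

variable {k : Type u} [Field k] {B : Finset k} {d : k → ℕ}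

/-- The index type of the basis. -/
abbrev H1Idx (B : Finset k) (d : k → ℕ) : Type u :=
  {a : ↥B × ℕ // 1 ≤ a.2 ∧ 2 * a.2 + 1 ≤ d (a.1 : k)} ⊕ {b : ↥B // (b : k) ≠ 0}

/-- The point of `B` attached to an index. -/
def h1pt : ({a : ↥B × ℕ // 1 ≤ a.2 ∧ 2 * a.2 + 1 ≤ d (a.1 : k)} ⊕ {b : ↥B // (b : k) ≠ 0}) → ↥B :=
  Sum.elim (fun a => a.1.1) (fun b => b.1)

/-- The exponent attached to an index. -/
def h1ex : ({a : ↥B × ℕ // 1 ≤ a.2 ∧ 2 * a.2 + 1 ≤ d (a.1 : k)} ⊕ {b : ↥B // (b : k) ≠ 0}) → ℕ :=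
  Sum.elim (fun a => a.1.2) (fun _ => 0)

theorem h1ex_lt (hd : ∀ β ∈ B, Odd (d β))
    (i : {a : ↥B × ℕ // 1 ≤ a.2 ∧ 2 * a.2 + 1 ≤ d (a.1 : k)} ⊕ {b : ↥B // (b : k) ≠ 0}) :
    h1ex i < (d (h1pt i : k) + 1) / 2 := by
  rcases i with a | b
  · have := a.2.2
    show a.1.2 < (d (a.1.1 : k) + 1) / 2
    omega
  · show 0 < (d (b.1 : k) + 1) / 2
    have := (hd b.1 b.1.2).pos
    omega

theorem h1_index_ext
    {i j : {a : ↥B × ℕ // 1 ≤ a.2 ∧ 2 * a.2 + 1 ≤ d (a.1 : k)} ⊕ {b : ↥B // (b : k) ≠ 0}}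
    (hpt : h1pt i = h1pt j) (hex : h1ex i = h1ex j) : i = j := by
  rcases i with a | b <;> rcases j with a' | b'
  · congr 1
    exact Subtype.ext (Prod.ext hpt hex)
  · exfalso
    have := a.2.1
    have h1 : a.1.2 = 0 := hex
    omega
  · exfalso
    have := a'.2.1
    have h1 : 0 = a'.1.2 := hex
    omega
  · congr 1
    exact Subtype.ext hpt

theorem h1ex_ne_zero_of_pt_zero
    (i : {a : ↥B × ℕ // 1 ≤ a.2 ∧ 2 * a.2 + 1 ≤ d (a.1 : k)} ⊕ {b : ↥B // (b : k) ≠ 0})
    (h : (h1pt i : k) = 0) : h1ex i ≠ 0 := by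
  rcases i with a | b
  · have := a.2.1
    show a.1.2 ≠ 0
    omega
  · exact absurd h b.2

theorem h1_coeff_aux [DecidableEq k] (hd : ∀ β ∈ B, Odd (d β))
    [Fintype ({a : ↥B × ℕ // 1 ≤ a.2 ∧ 2 * a.2 + 1 ≤ d (a.1 : k)} ⊕ {b : ↥B // (b : k) ≠ 0})]
    (p : Place k (RatFunc k)) (α : ↥B)
    (hp : p.1 ((RatFunc.X : RatFunc k) - RatFunc.C (α : k)) < 1)
    (c : ({a : ↥B × ℕ // 1 ≤ a.2 ∧ 2 * a.2 + 1 ≤ d (a.1 : k)} ⊕ {b : ↥B // (b : k) ≠ 0}) → k)
    (c₀ : k) (hnone : c₀ = 0 ∨ (α : k) = 0)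
    (hval : p.1 ((∑ i, c i • (if h1pt i = α then
        ((RatFunc.X : RatFunc k) - RatFunc.C (α : k)) ^ (h1ex i) else 0)) -
        algebraMap k (RatFunc k) c₀) ≤ exp (-(((d (α : k) + 1) / 2 : ℕ) : ℤ))) :
    ((α : k) = 0 → c₀ = 0) ∧ ∀ i, h1pt i = α → c i = 0 := by
  classical
  set T : RatFunc k := (RatFunc.X : RatFunc k) - RatFunc.C (α : k) with hT
  have hpT : ∀ e : ℕ, p.1 (T ^ e) = exp (-(e : ℤ)) := by
    intro e
    rw [map_pow, rat_val_sub_eq p hp, ← exp_nsmul]
    congr 1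
    simp
  set z' : Option (H1Idx B d) → RatFunc k := fun o => Option.elim o 1
    (fun i => if h1pt i = α then T ^ (h1ex i) else 0) with hz'
  set c' : Option (H1Idx B d) → k := fun o => Option.elim o (-c₀) c with hc'
  have hsum : (∑ i, c i • (if h1pt i = α then T ^ (h1ex i) else 0)) -
      algebraMap k (RatFunc k) c₀ = ∑ o, c' o • z' o := by
    rw [Fintype.sum_option]
    simp only [hz', hc', Option.elim_none, Option.elim_some]
    rw [neg_smul, Algebra.smul_def, mul_one]
    ring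
  rw [hsum] at hval
  set S : Set (Option (H1Idx B d)) := {o | Option.elim o ((α : k) = 0) (fun i => h1pt i = α)} with hS
  have key := coeff_eq_zero_of_val_gt' p z' c' _ S ?_ ?_ ?_ hval
  · refine ⟨fun hα => ?_, fun i hi => key (some i) hi⟩
    have := key none hα
    exact neg_eq_zero.mp this
  · rintro (_ | i) ho
    · show exp (-(((d (α : k) + 1) / 2 : ℕ) : ℤ)) < p.1 (1 : RatFunc k)
      rw [map_one, ← exp_zero, exp_lt_exp]
      have := (hd α α.2).pos
      have hd1 : 0 < (d (α : k) + 1) / 2 := by omega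
      omega
    · have hi : h1pt i = α := ho
      show exp (-(((d (α : k) + 1) / 2 : ℕ) : ℤ)) < p.1 (if h1pt i = α then T ^ (h1ex i) else 0)
      rw [if_pos hi, hpT, exp_lt_exp]
      have := h1ex_lt hd i
      rw [hi] at this
      omega
  · rintro (_ | i) ho (_ | j) ho' hv
    · rfl
    · exfalso
      have hα0 : (α : k) = 0 := ho
      have hj : h1pt j = α := ho'
      have h1 : p.1 (1 : RatFunc k) = p.1 (if h1pt j = α then T ^ (h1ex j) else 0) := hv
      rw [if_pos hj, hpT, map_one, ← exp_zero, exp_inj] at h1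
      have := h1ex_ne_zero_of_pt_zero j (by rw [hj]; exact hα0)
      omega
    · exfalso
      have hα0 : (α : k) = 0 := ho'
      have hi : h1pt i = α := ho
      have h1 : p.1 (if h1pt i = α then T ^ (h1ex i) else 0) = p.1 (1 : RatFunc k) := hv
      rw [if_pos hi, hpT, map_one, ← exp_zero, exp_inj] at h1
      have := h1ex_ne_zero_of_pt_zero i (by rw [hi]; exact hα0)
      omega
    · have hi : h1pt i = α := ho
      have hj : h1pt j = α := ho'
      have h1 : p.1 (if h1pt i = α then T ^ (h1ex i) else 0) =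
          p.1 (if h1pt j = α then T ^ (h1ex j) else 0) := hv
      rw [if_pos hi, if_pos hj, hpT, hpT, exp_inj] at h1
      congr 1
      exact h1_index_ext (hi.trans hj.symm) (by omega)
  · rintro (_ | i) ho
    · have hα0 : ¬ (α : k) = 0 := ho
      have hc0 : c₀ = 0 := hnone.resolve_right hα0
      show p.1 ((-c₀) • (1 : RatFunc k)) ≤ _
      rw [hc0, neg_zero, zero_smul, map_zero]
      exact zero_le'
    · have hi : ¬ h1pt i = α := ho
      show p.1 (c i • (if h1pt i = α then T ^ (h1ex i) else 0)) ≤ _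
      rw [if_neg hi, smul_zero, map_zero]
      exact zero_le'

end index

section as

variable {k : Type u} {K : Type v} [Field k] [IsAlgClosed k] [CharP k 2] [Field K] [Algebra k K]
  [Algebra (RatFunc k) K] [IsScalarTower k (RatFunc k) K]

variable (hK : IsFunctionField k K) (hdeg : Module.finrank (RatFunc k) K = 2)
  {y : K} (hy : y ∉ Set.range (algebraMap (RatFunc k) K)) {f : RatFunc k}
  (heq : y ^ 2 + y = algebraMap (RatFunc k) K f)
  {B : Finset k} {d : k → ℕ} (hd : ∀ β ∈ B, Odd (d β))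
  (hpole : ∀ (p : Place k (RatFunc k)) (β : k), β ∈ B →
    p.1 ((RatFunc.X : RatFunc k) - RatFunc.C β) < 1 → p.ord f = -(d β : ℤ))
  (hint : ∀ p : Place k (RatFunc k),
    (∀ β ∈ B, 1 ≤ p.1 ((RatFunc.X : RatFunc k) - RatFunc.C β)) → p.1 f ≤ 1)

include hdeg hy heq hd hpole in
theorem as_local_parity {β : k} (hβ : β ∈ B) {P : Place k K} {p : Place k (RatFunc k)}
    (hPp : IsOver P p) (hp : p.1 ((RatFunc.X : RatFunc k) - RatFunc.C β) < 1) {a b : RatFunc k}
    (h : P.1 (algebraMap (RatFunc k) K a + algebraMap (RatFunc k) K b * y) ≤ 1) :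
    p.1 a ≤ 1 ∧ p.1 b ≤ exp (-(((d β + 1) / 2 : ℕ) : ℤ)) := by
  have h2 : ringChar k = 2 := ringChar.eq k 2
  have hord := hpole p β hβ hp
  have hdpos : 0 < d β := (hd β hβ).pos
  have hneg : p.ord f < 0 := by rw [hord]; exact_mod_cast (by omega : -(d β : ℤ) < 0)
  have hodd : Odd (p.ord f) := by
    rw [hord]
    exact (by exact_mod_cast hd β hβ : Odd (d β : ℤ)).neg
  obtain ⟨he2, hPy⟩ := as_pole_data h2 hdeg hy heq hneg hodd hPp
  have hf0 : f ≠ 0 := by
    rintro rfl
    rw [ord_zero] at hneg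
    exact lt_irrefl _ hneg
  have hPy' : P.1 y = exp (d β : ℤ) := by rw [hPy, val_eq_exp_neg_ord p hf0, hord, neg_neg]
  have hA : P.1 (algebraMap (RatFunc k) K a) = p.1 a ^ 2 := he2 a
  have hB : P.1 (algebraMap (RatFunc k) K b * y) = p.1 b ^ 2 * exp (d β : ℤ) := by
    rw [map_mul, he2 b, hPy']
  by_cases hAB : P.1 (algebraMap (RatFunc k) K a) = P.1 (algebraMap (RatFunc k) K b * y)
  · rw [hA, hB] at hAB
    obtain ⟨h1, h3⟩ := zm0_sq_mul_exp_odd (hd β hβ) hAB
    rw [h1, h3]
    exact ⟨zero_le', zero_le'⟩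
  · have hmax := Valuation.map_add_of_distinct_val P.1 hAB
    rw [hmax] at h
    have h1 := (le_max_left _ _).trans h
    have h3 := (le_max_right _ _).trans h
    rw [hA] at h1
    rw [hB] at h3
    have h1' : p.1 a ^ 2 ≤ 1 ^ 2 := by rw [one_pow]; exact h1
    exact ⟨(pow_le_pow_iff_left₀ zero_le zero_le two_ne_zero).mp h1',
      zm0_le_of_sq_mul_exp_odd_le (hd β hβ) h3⟩

include hdeg hy heq hd hpole in
theorem as_place_unique {β : k} (hβ : β ∈ B) {P Q : Place k K}
    (hP : P.1 (algebraMap (RatFunc k) K RatFunc.X - algebraMap k K β) < 1)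
    (hQ : Q.1 (algebraMap (RatFunc k) K RatFunc.X - algebraMap k K β) < 1) : P = Q := by
  have hK₀ : IsFunctionField k (RatFunc k) := isFunctionField_ratFunc
  haveI : FiniteDimensional (RatFunc k) K := Module.finite_of_finrank_pos (by rw [hdeg]; norm_num)
  haveI := as_isSeparable hdeg hy heq
  have h2 : ringChar k = 2 := ringChar.eq k 2
  obtain ⟨p, hp⟩ := exists_isOver (K := RatFunc k) (K' := K) hK₀ P
  obtain ⟨q, hq⟩ := exists_isOver (K := RatFunc k) (K' := K) hK₀ Q
  rw [sub_const_eq] at hP hQ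
  have hpβ := (isOver_lt_one_iff hp _).mp hP
  have hqβ := (isOver_lt_one_iff hq _).mp hQ
  have hpq : p = q := rat_place_unique hpβ hqβ
  subst hpq
  have hord := hpole p β hβ hpβ
  have hdpos : 0 < d β := (hd β hβ).pos
  have hneg : p.ord f < 0 := by rw [hord]; exact_mod_cast (by omega : -(d β : ℤ) < 0)
  have hodd : Odd (p.ord f) := by
    rw [hord]
    exact (by exact_mod_cast hd β hβ : Odd (d β : ℤ)).neg
  obtain ⟨⟨Q', hQ', huniq⟩, -⟩ :=
    (Groth.Agent.S12519.result k K h2 hdeg y hy f heq p).1 ⟨hneg, hodd⟩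
  rw [huniq P hp, huniq Q hq]

/-- The family of repartitions giving a basis of `H¹`. -/
noncomputable def h1Fam [DecidableEq (Place k K)] (Pl : k → Place k K) (y : K) (B : Finset k)
    (d : k → ℕ) : H1Idx B d → (Place k K → K) :=
  Sum.elim
    (fun a => Pi.single (Pl (a.1.1 : k))
      (y * (algebraMap (RatFunc k) K RatFunc.X - algebraMap k K (a.1.1 : k)) ^ a.1.2))
    (fun b => Pi.single (Pl (b.1 : k)) y)

omit [IsAlgClosed k] [CharP k 2] in
theorem h1Fam_eq [DecidableEq (Place k K)] (Pl : k → Place k K) (y : K) (i : H1Idx B d) :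
    h1Fam Pl y B d i = Pi.single (Pl (h1pt i : k))
      (y * (algebraMap (RatFunc k) K RatFunc.X - algebraMap k K (h1pt i : k)) ^ (h1ex i)) := by
  rcases i with a | b
  · rfl
  · show (Pi.single (Pl (b.1 : k)) y : Place k K → K) = Pi.single (Pl (b.1 : k))
      (y * (algebraMap (RatFunc k) K RatFunc.X - algebraMap k K (b.1 : k)) ^ 0)
    rw [pow_zero, mul_one]

include hK hdeg hy heq hd hpole hint in
theorem h1Fam_coeff_zero [DecidableEq (Place k K)] [Fintype (H1Idx B d)] (h0 : (0 : k) ∈ B)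
    {Pl : k → Place k K}
    (hPl : ∀ β ∈ B, (Pl β).1 (algebraMap (RatFunc k) K RatFunc.X - algebraMap k K β) < 1)
    (c : H1Idx B d → k)
    (hc : ∑ i, c i • h1Fam Pl y B d i ∈ AD (0 : Divisor k K) ⊔ LinearMap.range (diag k K)) :
    ∀ i, c i = 0 := by
  classical
  have hK₀ : IsFunctionField k (RatFunc k) := isFunctionField_ratFunc
  haveI : FiniteDimensional (RatFunc k) K := Module.finite_of_finrank_pos (by rw [hdeg]; norm_num)
  haveI := as_isSeparable hdeg hy heq
  have h2 : ringChar k = 2 := ringChar.eq k 2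
  set x : K := algebraMap (RatFunc k) K RatFunc.X with hx
  obtain ⟨b, hb, _, ⟨z, rfl⟩, hsum⟩ := Submodule.mem_sup.mp hc
  have hpt : ∀ P : Place k K, P.1 ((∑ i, c i • h1Fam Pl y B d i) P - z) ≤ 1 := by
    intro P
    have h1 : (∑ i, c i • h1Fam Pl y B d i) P - z = b P := by
      rw [← hsum, Pi.add_apply, diag_apply]; ring
    rw [h1]
    have := hb P
    rwa [Finsupp.zero_apply, exp_zero] at this
  have hPlinj : ∀ α β : ↥B, Pl α = Pl β → α = β := by
    intro α β hαβ
    by_contra hne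
    have h1 := hPl α α.2
    have h2' := val_sub_const_eq_one (Pl β) (b := (β : k)) (a := (α : k))
      (fun h => hne (Subtype.ext h.symm)) (hPl β β.2)
    rw [hαβ, h2'] at h1
    exact lt_irrefl _ h1
  obtain ⟨a₀, b₀, hz⟩ := exists_repr_of_finrank_two hdeg hy z
  set U : ↥B → RatFunc k := fun α => ∑ i, c i •
    (if h1pt i = α then ((RatFunc.X : RatFunc k) - RatFunc.C (α : k)) ^ (h1ex i) else 0) with hU
  have hUval : ∀ α : ↥B, (∑ i, c i • h1Fam Pl y B d i) (Pl α) =
      algebraMap (RatFunc k) K (U α) * y := by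
    intro α
    rw [Finset.sum_apply]
    simp only [hU]
    rw [map_sum, Finset.sum_mul]
    refine Finset.sum_congr rfl fun i _ => ?_
    rw [Pi.smul_apply, h1Fam_eq]
    by_cases hi : h1pt i = α
    · rw [if_pos hi, hi, Pi.single_eq_same, Algebra.smul_def, Algebra.smul_def, map_mul, map_pow,
        ← sub_const_eq, ← IsScalarTower.algebraMap_apply]
      ring
    · rw [if_neg hi, smul_zero, map_zero, zero_mul,
        Pi.single_eq_of_ne (fun h => hi (hPlinj α (h1pt i) h).symm), smul_zero]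
  have hbelow : ∀ α : ↥B, ∃ p : Place k (RatFunc k), IsOver (Pl α) p ∧
      p.1 ((RatFunc.X : RatFunc k) - RatFunc.C (α : k)) < 1 := by
    intro α
    obtain ⟨p, hp⟩ := exists_isOver (K := RatFunc k) (K' := K) hK₀ (Pl α)
    refine ⟨p, hp, ?_⟩
    have := hPl α α.2
    rw [sub_const_eq] at this
    exact (isOver_lt_one_iff hp _).mp this
  choose pα hpα_over hpα_lt using hbelow
  have hkey : ∀ α : ↥B, (pα α).1 (U α - b₀) ≤ exp (-(((d (α : k) + 1) / 2 : ℕ) : ℤ)) := by
    intro α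
    have h1 := hpt (Pl α)
    rw [hUval α, hz] at h1
    have h3 : algebraMap (RatFunc k) K (U α) * y -
        (algebraMap (RatFunc k) K a₀ + algebraMap (RatFunc k) K b₀ * y) =
        algebraMap (RatFunc k) K (-a₀) + algebraMap (RatFunc k) K (U α - b₀) * y := by
      rw [map_neg, map_sub]; ring
    rw [h3] at h1
    exact (as_local_parity hdeg hy heq hd hpole α.2 (hpα_over α) (hpα_lt α) h1).2
  have hUint : ∀ α : ↥B, (pα α).1 (U α) ≤ 1 := by
    intro α
    refine Valuation.map_sum_le _ fun i _ => ?_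
    refine (val_smul_le _ _ _).trans ?_
    split_ifs
    · rw [map_pow]
      exact pow_le_one' (hpα_lt α).le _
    · rw [map_zero]
      exact zero_le'
  obtain ⟨σ, hσ⟩ := as_exists_involution hdeg hy heq
  have hσz : σ z - z = algebraMap (RatFunc k) K b₀ := by
    rw [hz, map_add, map_mul, σ.commutes, σ.commutes, hσ]; ring
  have hb₀int : ∀ p : Place k (RatFunc k), p.1 b₀ ≤ 1 := by
    intro p
    by_cases hex : ∃ α : ↥B, p.1 ((RatFunc.X : RatFunc k) - RatFunc.C (α : k)) < 1
    · obtain ⟨α, hα⟩ := hex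
      have hpp : p = pα α := rat_place_unique hα (hpα_lt α)
      rw [hpp]
      have : b₀ = U α - (U α - b₀) := by ring
      rw [this]
      refine (Valuation.map_sub _ _ _).trans (max_le (hUint α) ((hkey α).trans ?_))
      rw [← exp_zero, exp_le_exp]
      omega
    · push Not at hex
      obtain ⟨P, hP⟩ := exists_place_over (K' := K) hK₀ p
      have hzero : ∀ Q : Place k K, (∀ α : ↥B, 1 ≤ Q.1 (x - algebraMap k K (α : k))) →
          Q.1 z ≤ 1 := by
        intro Q hQ
        have h1 := hpt Q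
        have h3 : (∑ i, c i • h1Fam Pl y B d i) Q = 0 := by
          rw [Finset.sum_apply]
          refine Finset.sum_eq_zero fun i _ => ?_
          rw [Pi.smul_apply, h1Fam_eq, Pi.single_eq_of_ne, smul_zero]
          intro hQi
          have := hPl (h1pt i) (h1pt i).2
          rw [← hQi] at this
          exact absurd this (not_lt.mpr (hQ (h1pt i)))
        rwa [h3, zero_sub, Valuation.map_neg] at h1
      have hPB : ∀ α : ↥B, 1 ≤ P.1 (x - algebraMap k K (α : k)) := by
        intro α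
        rw [hx, sub_const_eq]
        by_contra hlt
        push Not at hlt
        exact absurd ((isOver_lt_one_iff hP _).mp hlt) (not_lt.mpr (hex α))
      have h1 := hzero P hPB
      have h3 := hzero (placeComap σ P) (fun α => by
        rw [placeComap_val, hx, sub_const_eq, σ.commutes, ← sub_const_eq]
        exact hPB α)
      rw [placeComap_val] at h3
      have h4 : P.1 (algebraMap (RatFunc k) K b₀) ≤ 1 := by
        rw [← hσz]
        exact (Valuation.map_sub _ _ _).trans (max_le h3 h1)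
      exact (isOver_le_one_iff hP _).mp h4
  have hb₀c : b₀ ∈ Set.range (algebraMap k (RatFunc k)) := by
    by_contra hnc
    obtain ⟨p, hp⟩ := exists_pole hK₀ hnc
    exact absurd hp (not_lt.mpr (hb₀int p))
  obtain ⟨c₀, rfl⟩ := hb₀c
  have h0' := (h1_coeff_aux hd (pα ⟨0, h0⟩) ⟨0, h0⟩ (hpα_lt _) c c₀ (Or.inr rfl) (hkey _)).1 rfl
  intro i
  exact (h1_coeff_aux hd (pα (h1pt i)) (h1pt i) (hpα_lt _) c c₀ (Or.inl h0') (hkey _)).2 i rfl

include hK hdeg hy heq hd hpole hint in
theorem as_h1_basis [DecidableEq (Place k K)] (h0 : (0 : k) ∈ B) {Pl : k → Place k K}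
    (hPl : ∀ β ∈ B, (Pl β).1 (algebraMap (RatFunc k) K RatFunc.X - algebraMap k K β) < 1) :
    (∀ i, h1Fam Pl y B d i ∈ adele k K) ∧
    LinearIndependent k (fun i => Submodule.mkQ
      (AD (0 : Divisor k K) ⊔ LinearMap.range (diag k K)) (h1Fam Pl y B d i)) ∧
    ∀ a : Place k K → K, a ∈ adele k K →
      a ∈ (AD (0 : Divisor k K) ⊔ LinearMap.range (diag k K)) ⊔
        Submodule.span k (Set.range (h1Fam Pl y B d)) := by
  haveI := Fintype.ofFinite (H1Idx B d)
  set W := AD (0 : Divisor k K) ⊔ LinearMap.range (diag k K) with hW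
  have hmem : ∀ i, h1Fam Pl y B d i ∈ adele k K := fun i => by
    rw [h1Fam_eq]
    exact single_mem_adele _ _
  have hli : LinearIndependent k (fun i => Submodule.mkQ W (h1Fam Pl y B d i)) := by
    rw [Fintype.linearIndependent_iff]
    intro c hc
    refine h1Fam_coeff_zero hK hdeg hy heq hd hpole hint h0 hPl c ?_
    have : Submodule.mkQ W (∑ i, c i • h1Fam Pl y B d i) = 0 := by
      rw [map_sum]
      simp only [map_smul]
      exact hc
    rwa [Submodule.mkQ_apply, Submodule.Quotient.mk_eq_zero] at this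
  refine ⟨hmem, hli, ?_⟩
  obtain ⟨hfin, hrk⟩ := relQ_adele hK (0 : Divisor k K)
  rw [delta_zero hK, sub_zero, ← hW] at hrk
  rw [← hW] at hfin
  haveI := hfin
  set v : H1Idx B d → relQ W (adele k K) :=
    fun i => Submodule.Quotient.mk ⟨h1Fam Pl y B d i, hmem i⟩ with hv
  let φ : relQ W (adele k K) →ₗ[k] (Place k K → K) ⧸ W :=
    Submodule.mapQ _ W (adele k K).subtype le_rfl
  have hliv : LinearIndependent k v := by
    apply LinearIndependent.of_comp φ
    exact hli
  have hcard : Fintype.card (H1Idx B d) = Module.finrank k (relQ W (adele k K)) := by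
    have h1 : Nat.card (H1Idx B d) + 1 = ∑ α ∈ B, (d α + 1) / 2 := card_pfIdx B d h0 hd
    have h2 := as_genus_add_one hK hdeg hy heq hd hpole hint
    have h3 : Module.finrank k (relQ W (adele k K)) = genus k K := by exact_mod_cast hrk
    rw [h3, ← Nat.card_eq_fintype_card]
    omega
  have hspan := hliv.span_eq_top_of_card_eq_finrank' hcard
  intro a ha
  have hmemtop : (Submodule.Quotient.mk ⟨a, ha⟩ : relQ W (adele k K)) ∈
      Submodule.span k (Set.range v) := by rw [hspan]; trivial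
  obtain ⟨c, hc⟩ := (Submodule.mem_span_range_iff_exists_fun k).mp hmemtop
  have h1 : (∑ i, c i • v i) =
      Submodule.mkQ (Submodule.comap (adele k K).subtype W)
        (∑ i, c i • (⟨h1Fam Pl y B d i, hmem i⟩ : adele k K)) := by
    rw [map_sum]
    simp only [map_smul]
    rfl
  rw [h1, Submodule.mkQ_apply, Submodule.Quotient.eq, Submodule.mem_comap] at hc
  have h3 : (adele k K).subtype
      (∑ i, c i • (⟨h1Fam Pl y B d i, hmem i⟩ : adele k K) - ⟨a, ha⟩) =
      ∑ i, c i • h1Fam Pl y B d i - a := by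
    rw [map_sub, map_sum]
    rfl
  rw [h3] at hc
  have h4 : a = -(∑ i, c i • h1Fam Pl y B d i - a) + ∑ i, c i • h1Fam Pl y B d i := by ring
  rw [h4]
  refine Submodule.add_mem_sup (Submodule.neg_mem _ hc) ?_
  exact Submodule.sum_mem _ fun i _ =>
    Submodule.smul_mem _ _ (Submodule.subset_span ⟨i, rfl⟩)

end as

end Groth.Agent.Lib.Helper24.FFExt
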