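import Mathlib.FieldTheory.IntermediateField.Adjoin.Basic
import Mathlib.FieldTheory.Separable
import Mathlib.FieldTheory.RatFunc.AsPolynomial
import Mathlib.Algebra.CharP.Two
import Mathlib.Algebra.Squarefree.Basic

/-! # Normal forms of quadratic extensions (helper24) -/

set_option autoImplicit false

namespace Groth.Agent.Lib.Helper24.FFExt

open Polynomial IntermediateField

section General

variable {F K : Type*} [Field F] [Field K] [Algebra F K]

theorem adjoin_eq_top_of_not_mem_range (hdeg : Module.finrank F K = 2) {y : K}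
    (hy : y ∉ Set.range (algebraMap F K)) : IntermediateField.adjoin F ({y} : Set K) = ⊤ := by
  haveI := IntermediateField.isSimpleOrder_of_finrank_prime F K (hdeg ▸ Nat.prime_two)
  rcases eq_bot_or_eq_top (IntermediateField.adjoin F ({y} : Set K)) with h | h
  · exfalso
    rw [IntermediateField.adjoin_simple_eq_bot_iff, IntermediateField.mem_bot] at h
    exact hy h
  · exact h

theorem exists_quadratic (hdeg : Module.finrank F K = 2) :
    ∃ z : K, z ∉ Set.range (algebraMap F K) ∧ (minpoly F z).natDegree = 2 ∧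
      z ^ 2 + algebraMap F K ((minpoly F z).coeff 1) * z +
        algebraMap F K ((minpoly F z).coeff 0) = 0 := by
  haveI : FiniteDimensional F K := Module.finite_of_finrank_pos (by rw [hdeg]; norm_num)
  have hex : ∃ z : K, z ∉ Set.range (algebraMap F K) := by
    by_contra hcon
    push Not at hcon
    have h1 : (⊥ : IntermediateField F K) = ⊤ := by
      rw [eq_top_iff]
      intro z _
      exact IntermediateField.mem_bot.mpr (hcon z)
    rw [IntermediateField.bot_eq_top_iff_finrank_eq_one] at h1
    omega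
  obtain ⟨z, hz⟩ := hex
  have hint : IsIntegral F z := Algebra.IsIntegral.isIntegral z
  have htop := adjoin_eq_top_of_not_mem_range hdeg hz
  have hnat : (minpoly F z).natDegree = 2 := by
    rw [← IntermediateField.adjoin.finrank hint, htop, IntermediateField.finrank_top', hdeg]
  refine ⟨z, hz, hnat, ?_⟩
  have h0 : aeval z (minpoly F z) = 0 := minpoly.aeval F z
  rw [aeval_eq_sum_range' (show (minpoly F z).natDegree < 3 by omega), Finset.sum_range_succ,
    Finset.sum_range_succ, Finset.sum_range_one] at h0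
  have hlead : (minpoly F z).coeff 2 = 1 := by
    have := (minpoly.monic hint).coeff_natDegree
    rwa [hnat] at this
  rw [hlead, one_smul, pow_zero, pow_one, Algebra.smul_def, Algebra.smul_def, mul_one] at h0
  rw [← h0]; ring

/-- Artin–Schreier normal form of a separable quadratic extension in characteristic two. -/
theorem exists_artin_schreier [CharP F 2] (hdeg : Module.finrank F K = 2)
    [Algebra.IsSeparable F K] :
    ∃ (y : K) (f : F), y ^ 2 + y = algebraMap F K f ∧
      IntermediateField.adjoin F ({y} : Set K) = ⊤ := by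
  haveI : FiniteDimensional F K := Module.finite_of_finrank_pos (by rw [hdeg]; norm_num)
  obtain ⟨z, hz, hnat, hrel⟩ := exists_quadratic hdeg
  have hint : IsIntegral F z := Algebra.IsIntegral.isIntegral z
  set p := minpoly F z with hp
  set b := p.coeff 1 with hb
  set c := p.coeff 0 with hc
  have hsep : p.Separable := Algebra.IsSeparable.isSeparable F z
  have hirr : Irreducible p := minpoly.irreducible hint
  have hder : derivative p ≠ 0 := (separable_iff_derivative_ne_zero hirr).mp hsep
  have hb0 : b ≠ 0 := by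
    intro h0
    apply hder
    ext i
    rw [coeff_derivative, coeff_zero]
    rcases i with _ | _ | i
    · simp only [zero_add]
      rw [← hb, h0, zero_mul]
    · have h2 : ((1 : ℕ) : F) + 1 = 0 := by
        rw [Nat.cast_one]; exact CharTwo.add_self_eq_zero (1 : F)
      rw [h2, mul_zero]
    · rw [coeff_eq_zero_of_natDegree_lt (by rw [hnat]; omega), zero_mul]
  have hbK : algebraMap F K b ≠ 0 := (_root_.map_ne_zero _).mpr hb0
  refine ⟨z / algebraMap F K b, -c / b ^ 2, ?_, ?_⟩
  · have h1 : z ^ 2 + algebraMap F K b * z = -algebraMap F K c := by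
      rw [eq_neg_iff_add_eq_zero]; exact hrel
    rw [map_div₀, map_neg, map_pow, ← h1]
    field_simp
  · apply adjoin_eq_top_of_not_mem_range hdeg
    rintro ⟨d, hd⟩
    apply hz
    refine ⟨d * b, ?_⟩
    rw [map_mul, hd, div_mul_cancel₀ _ hbK]

end General

section Squarefree

variable {k : Type*} [Field k]

theorem exists_sq_mul_squarefree :
    ∀ (n : ℕ) (h : k[X]), h.natDegree = n → h ≠ 0 →
      ∃ s f : k[X], s ≠ 0 ∧ Squarefree f ∧ h = s ^ 2 * f := by
  intro n
  induction n using Nat.strong_induction_on with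
  | _ n ih =>
    intro h hn h0
    by_cases hsq : Squarefree h
    · exact ⟨1, h, one_ne_zero, hsq, by ring⟩
    · rw [Squarefree] at hsq
      push Not at hsq
      obtain ⟨d, ⟨h', hh'⟩, hdu⟩ := hsq
      have hd0 : d ≠ 0 := by
        rintro rfl; rw [zero_mul, zero_mul] at hh'; exact h0 hh'
      have hh'0 : h' ≠ 0 := by
        rintro rfl; rw [mul_zero] at hh'; exact h0 hh'
      have hdpos : 0 < d.natDegree := by
        rw [Nat.pos_iff_ne_zero]
        intro hd
        apply hdu
        rw [Polynomial.isUnit_iff]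
        refine ⟨d.coeff 0, ?_, (eq_C_of_natDegree_eq_zero hd).symm⟩
        rw [isUnit_iff_ne_zero]
        intro hc
        apply hd0
        rw [eq_C_of_natDegree_eq_zero hd, hc, C_0]
      have hdeg : h'.natDegree < n := by
        rw [← hn, hh', natDegree_mul (mul_ne_zero hd0 hd0) hh'0, natDegree_mul hd0 hd0]
        omega
      obtain ⟨s, f, hs0, hf, hsf⟩ := ih _ hdeg h' rfl hh'0
      exact ⟨d * s, f, mul_ne_zero hd0 hs0, hf, by rw [hh', hsf]; ring⟩

/-- A quadratic extension of `k(x)` in characteristic `≠ 2` is generated by a square root of a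
squarefree polynomial. -/
theorem exists_sq_eq_squarefree {K : Type*} [Field K] (h2 : ringChar k ≠ 2)
    [Algebra (RatFunc k) K] (hdeg : Module.finrank (RatFunc k) K = 2) :
    ∃ (y : K) (f : k[X]), Squarefree f ∧
      y ^ 2 = algebraMap (RatFunc k) K (algebraMap k[X] (RatFunc k) f) ∧
      IntermediateField.adjoin (RatFunc k) ({y} : Set K) = ⊤ := by
  have h2k : (2 : k) ≠ 0 := Ring.two_ne_zero h2
  have h2F : (2 : RatFunc k) ≠ 0 := by
    have : (2 : RatFunc k) = algebraMap k (RatFunc k) 2 := (map_ofNat _ 2).symm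
    rw [this]; exact (_root_.map_ne_zero _).mpr h2k
  have h2K : (2 : K) ≠ 0 := by
    have : (2 : K) = algebraMap (RatFunc k) K 2 := (map_ofNat _ 2).symm
    rw [this]; exact (_root_.map_ne_zero _).mpr h2F
  obtain ⟨z, hz, hnat, hrel⟩ := exists_quadratic hdeg
  set b := (minpoly (RatFunc k) z).coeff 1 with hb
  set c := (minpoly (RatFunc k) z).coeff 0 with hc
  set g : RatFunc k := b ^ 2 / 4 - c with hg
  set y₀ : K := z + algebraMap (RatFunc k) K (b / 2) with hy₀
  have hy₀sq : y₀ ^ 2 = algebraMap (RatFunc k) K g := by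
    have h1 : z ^ 2 = -(algebraMap (RatFunc k) K b * z) - algebraMap (RatFunc k) K c := by
      linear_combination hrel
    rw [hy₀, hg, map_sub, map_div₀, map_div₀, map_pow, add_sq, h1]
    have h4 : algebraMap (RatFunc k) K 4 = 4 := map_ofNat _ 4
    have h2' : algebraMap (RatFunc k) K 2 = 2 := map_ofNat _ 2
    rw [h4, h2']
    have h4K : (4 : K) ≠ 0 := by
      have : (4 : K) = 2 * 2 := by norm_num
      rw [this]; exact mul_ne_zero h2K h2K
    field_simp
    ring
  have hy₀mem : y₀ ∉ Set.range (algebraMap (RatFunc k) K) := by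
    rintro ⟨d, hd⟩
    apply hz
    refine ⟨d - b / 2, ?_⟩
    rw [map_sub, hd, hy₀]; ring
  have hg0 : g ≠ 0 := by
    intro h0
    rw [h0, map_zero] at hy₀sq
    apply hy₀mem
    exact ⟨0, by rw [map_zero]; exact (pow_eq_zero_iff two_ne_zero).mp hy₀sq |>.symm⟩
  have hnd := RatFunc.num_div_denom g
  have hden0 : g.denom ≠ 0 := RatFunc.denom_ne_zero g
  have hnum0 : g.num ≠ 0 := RatFunc.num_ne_zero hg0
  obtain ⟨s, f, hs0, hf, hsf⟩ := exists_sq_mul_squarefree _ (g.num * g.denom) rfl
    (mul_ne_zero hnum0 hden0)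
  have hD0 : algebraMap k[X] (RatFunc k) g.denom ≠ 0 := RatFunc.algebraMap_ne_zero hden0
  have hS0 : algebraMap k[X] (RatFunc k) s ≠ 0 := RatFunc.algebraMap_ne_zero hs0
  set r : RatFunc k := algebraMap k[X] (RatFunc k) g.denom / algebraMap k[X] (RatFunc k) s with hr
  have hr0 : r ≠ 0 := div_ne_zero hD0 hS0
  have hgr : g * r ^ 2 = algebraMap k[X] (RatFunc k) f := by
    have h1 : algebraMap k[X] (RatFunc k) g.num * algebraMap k[X] (RatFunc k) g.denom =
        algebraMap k[X] (RatFunc k) s ^ 2 * algebraMap k[X] (RatFunc k) f := by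
      rw [← map_mul, hsf, map_mul, map_pow]
    have hgD : algebraMap k[X] (RatFunc k) g.num = g * algebraMap k[X] (RatFunc k) g.denom :=
      (div_eq_iff hD0).mp hnd
    rw [hr, div_pow, ← mul_div_assoc, div_eq_iff (pow_ne_zero 2 hS0)]
    linear_combination (-(algebraMap k[X] (RatFunc k) g.denom)) * hgD + h1
  refine ⟨y₀ * algebraMap (RatFunc k) K r, f, hf, ?_, ?_⟩
  · rw [mul_pow, hy₀sq, ← map_pow, ← map_mul, hgr]
  · apply adjoin_eq_top_of_not_mem_range hdeg
    rintro ⟨d, hd⟩
    apply hy₀mem
    refine ⟨d / r, ?_⟩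
    rw [map_div₀, hd, mul_div_assoc, div_self ((_root_.map_ne_zero _).mpr hr0), mul_one]

end Squarefree

end Groth.Agent.Lib.Helper24.FFExt
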