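import Groth.Agent.Lib.Helper24.FFExt.ASAdele
import Groth.Agent.Lib.Helper24.FFExt.Quad2
import Groth.Agent.Lib.Helper18.FF.Residue
import Groth.Agent.Lib.Helper18.FF.Degree3

/-! # Artin–Schreier normal form with odd pole orders -/

set_option autoImplicit false
set_option linter.style.haveILetI false

namespace Groth.Agent.Lib.Helper24.FFExt

open FunFld WithZero IntermediateField Polynomial Groth.Agent.Lib.Helper18.FF

universe u v

section general

variable {k : Type u} {K : Type v} [Field k] [Field K] [Algebra k K]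

theorem exists_sq_approx [PerfectField k] [CharP k 2] (hK : IsFunctionField k K) (P : Place k K)
    {w : K} (hw : P.1 w ≤ 1) : ∃ u : K, P.1 u ≤ 1 ∧ P.1 (u ^ 2 + w) < 1 := by
  letI : Algebra k (IsLocalRing.ResidueField P.O) := IsLocalRing.ResidueField.algebra P.O
  haveI : FiniteDimensional k (IsLocalRing.ResidueField P.O) := finiteDimensional_residueField hK P
  haveI : Algebra.IsAlgebraic k (IsLocalRing.ResidueField P.O) := Algebra.IsAlgebraic.of_finite k _
  haveI : PerfectField (IsLocalRing.ResidueField P.O) := Algebra.IsAlgebraic.perfectField (K := k)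
  haveI : CharP (IsLocalRing.ResidueField P.O) 2 :=
    charP_of_injective_algebraMap (algebraMap k (IsLocalRing.ResidueField P.O)).injective 2
  haveI : ExpChar (IsLocalRing.ResidueField P.O) 2 := ExpChar.prime Nat.prime_two
  haveI : PerfectRing (IsLocalRing.ResidueField P.O) 2 := PerfectField.toPerfectRing 2
  obtain ⟨b, hb⟩ := surjective_frobenius (IsLocalRing.ResidueField P.O) 2 (res P w hw)
  rw [frobenius_def] at hb
  obtain ⟨u, hu, rfl⟩ := res_surjective P b
  refine ⟨u, hu, ?_⟩
  have hu2 : P.1 (u * u) ≤ 1 := by rw [map_mul]; exact mul_le_one' hu hu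
  have h1 : P.1 (u * u + w) ≤ 1 := (P.1.map_add _ _).trans (max_le hu2 hw)
  rw [pow_two, ← res_eq_zero_iff P (u * u + w) h1, res_add P _ _ hu2 hw, res_mul P u u hu hu,
    ← pow_two, hb]
  exact CharTwo.add_self_eq_zero _

theorem zm0_toNat_log_le {A C : ℤᵐ⁰} (h : A ≤ max 1 C) : (log A).toNat ≤ (log C).toNat := by
  induction A using WithZero.expRecOn with
  | zero => rw [log_zero]; exact Nat.zero_le _
  | exp i =>
    rw [log_exp]
    induction C using WithZero.expRecOn with
    | zero =>
      rw [max_eq_left zero_le', ← exp_zero, exp_le_exp] at h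
      rw [log_zero]
      omega
    | exp j =>
      rw [log_exp]
      rcases le_total (exp j) 1 with hj | hj
      · rw [max_eq_left hj, ← exp_zero, exp_le_exp] at h
        omega
      · rw [max_eq_right hj, exp_le_exp] at h
        omega

theorem toNat_neg_ord_le (P : Place k K) {a b : K} (h : P.1 a ≤ max 1 (P.1 b)) :
    (-P.ord a).toNat ≤ (-P.ord b).toNat := by
  rw [Place.ord, Place.ord, neg_neg, neg_neg]
  exact zm0_toNat_log_le h

theorem toNat_neg_ord_le_of_le_exp (P : Place k K) {a : K} {n : ℕ} (h : P.1 a ≤ exp (n : ℤ)) :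
    (-P.ord a).toNat ≤ n := by
  rw [Place.ord, neg_neg]
  generalize P.1 a = A at h
  induction A using WithZero.expRecOn with
  | zero => rw [log_zero]; exact Nat.zero_le _
  | exp i =>
    rw [log_exp]
    rw [exp_le_exp] at h
    omega

end general

section rat

variable {k : Type u} [Field k] [PerfectField k] [CharP k 2]

/-- One reduction step: an even pole order can be lowered. -/
theorem as_reduce_step (f : RatFunc k) (p : Place k (RatFunc k)) (hneg : p.ord f < 0)
    (heven : Even (p.ord f)) :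
    ∃ g : RatFunc k, (poleDiv (k := k) (f + g ^ 2 + g)).deg < (poleDiv (k := k) f).deg := by
  classical
  have hK₀ : IsFunctionField k (RatFunc k) := isFunctionField_ratFunc
  have h2R : (2 : RatFunc k) = 0 := by
    haveI : CharP (RatFunc k) 2 := charP_of_injective_algebraMap
      (algebraMap k (RatFunc k)).injective 2
    exact CharTwo.two_eq_zero
  have hf0 : f ≠ 0 := by
    rintro rfl
    rw [ord_zero] at hneg
    exact lt_irrefl _ hneg
  obtain ⟨m', hm'⟩ := heven
  have hmpos : m' < 0 := by omega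
  obtain ⟨m, rfl⟩ : ∃ m : ℕ, m' = -(m : ℤ) := ⟨(-m').toNat, by omega⟩
  have hm1 : 1 ≤ m := by omega
  have hpf : p.1 f = exp ((2 * m : ℕ) : ℤ) := by
    rw [val_eq_exp_neg_ord p hf0, hm']
    congr 1
    push_cast
    ring
  obtain ⟨t, ht⟩ := exists_uniformizer p
  have ht0 : t ≠ 0 := by
    rintro rfl
    rw [map_zero] at ht
    exact exp_ne_zero ht.symm
  have hw : p.1 (f * t ^ (2 * m)) ≤ 1 := by
    rw [map_mul, map_pow, hpf, ht, ← exp_nsmul, ← exp_add, ← exp_zero, exp_le_exp]
    simp only [nsmul_eq_mul]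
    push_cast
    omega
  obtain ⟨u, hu, huw⟩ := exists_sq_approx hK₀ p hw
  -- local solution
  set gp : RatFunc k := u / t ^ m with hgp
  have htm0 : t ^ m ≠ 0 := pow_ne_zero _ ht0
  have hgpv : p.1 gp ≤ exp ((m : ℕ) : ℤ) := by
    rw [hgp, map_div₀, map_pow, ht, ← exp_nsmul, div_eq_mul_inv, ← exp_neg]
    calc p.1 u * exp (-(m • (-1 : ℤ))) ≤ 1 * exp (-(m • (-1 : ℤ))) := mul_le_mul' hu le_rfl
      _ = exp ((m : ℕ) : ℤ) := by rw [one_mul]; congr 1; simp
  have hloc : p.1 (f + gp ^ 2) ≤ exp ((2 * m - 1 : ℕ) : ℤ) := by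
    have h1 : f + gp ^ 2 = (u ^ 2 + f * t ^ (2 * m)) / t ^ (2 * m) := by
      rw [hgp, div_pow, ← pow_mul, mul_comm m 2]
      field_simp
      ring
    rw [h1, map_div₀, map_pow, ht, ← exp_nsmul, div_eq_mul_inv, ← exp_neg]
    have h3 : p.1 (u ^ 2 + f * t ^ (2 * m)) ≤ exp (-1 : ℤ) := (zm0_lt_one_iff _).mp huw
    calc p.1 (u ^ 2 + f * t ^ (2 * m)) * exp (-((2 * m) • (-1 : ℤ)))
        ≤ exp (-1 : ℤ) * exp (-((2 * m) • (-1 : ℤ))) := mul_le_mul' h3 le_rfl
      _ = exp ((2 * m - 1 : ℕ) : ℤ) := by
          rw [← exp_add]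
          congr 1
          simp only [nsmul_eq_mul]
          push_cast [Nat.cast_sub (by omega : 1 ≤ 2 * m)]
          ring
  -- global approximation
  have hg₀ : genus k (RatFunc k) = 0 :=
    genus_eq_zero_of_deg_poleDiv_eq_one hK₀ RatFunc.transcendental_X deg_poleDiv_X
  have hδ : delta (0 : Divisor k (RatFunc k)) = genus k (RatFunc k) := by
    rw [delta_zero hK₀, hg₀]; rfl
  obtain ⟨g, hg⟩ := exists_sub_mem_AD hK₀ hδ (single_mem_adele p gp)
  have hgp' : p.1 (g - gp) ≤ 1 := by
    have := hg p
    rwa [Pi.single_eq_same, Finsupp.zero_apply, exp_zero] at this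
  have hgq : ∀ q : Place k (RatFunc k), q ≠ p → q.1 g ≤ 1 := by
    intro q hq
    have := hg q
    rwa [Pi.single_eq_of_ne hq, sub_zero, Finsupp.zero_apply, exp_zero] at this
  refine ⟨g, ?_⟩
  set f' := f + g ^ 2 + g with hf'
  -- at `p`
  have hp' : p.1 f' ≤ exp ((2 * m - 1 : ℕ) : ℤ) := by
    set e := g - gp with he
    have h1 : f' = (f + gp ^ 2) + e ^ 2 + gp + e := by
      rw [hf', he]
      have : (g - gp) ^ 2 = g ^ 2 + gp ^ 2 - 2 * (g * gp) := by ring
      rw [this, h2R]
      have h4 : gp ^ 2 + gp ^ 2 = 0 := by rw [← two_mul, h2R, zero_mul]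
      linear_combination -h4
    have hone : (1 : ℤᵐ⁰) ≤ exp ((2 * m - 1 : ℕ) : ℤ) := by
      rw [← exp_zero, exp_le_exp]
      exact Int.natCast_nonneg _
    have hmle : exp ((m : ℕ) : ℤ) ≤ exp ((2 * m - 1 : ℕ) : ℤ) := by
      rw [exp_le_exp]
      exact_mod_cast (by omega : m ≤ 2 * m - 1)
    rw [h1]
    refine (p.1.map_add _ _).trans (max_le ((p.1.map_add _ _).trans (max_le
      ((p.1.map_add _ _).trans (max_le hloc ?_)) (hgpv.trans hmle))) (hgp'.trans hone))
    rw [map_pow]
    exact (pow_le_one' hgp' 2).trans hone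
  have hPp : poleDiv (k := k) f' p + 1 ≤ poleDiv (k := k) f p := by
    rw [poleDiv_apply hK₀, poleDiv_apply hK₀, hm']
    have h1 := toNat_neg_ord_le_of_le_exp p hp'
    have h3 : (-(-(m : ℤ) + -(m : ℤ))).toNat = 2 * m := by omega
    rw [h3]
    have : ((-p.ord f').toNat : ℤ) ≤ ((2 * m - 1 : ℕ) : ℤ) := by exact_mod_cast h1
    push_cast [Nat.cast_sub (by omega : 1 ≤ 2 * m)] at this ⊢
    omega
  have hPq : ∀ q : Place k (RatFunc k), q ≠ p → poleDiv (k := k) f' q ≤ poleDiv (k := k) f q := by
    intro q hq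
    rw [poleDiv_apply hK₀, poleDiv_apply hK₀]
    have h1 : q.1 f' ≤ max 1 (q.1 f) := by
      have hgq' := hgq q hq
      rw [hf', add_assoc]
      refine (q.1.map_add _ _).trans (max_le (le_max_right _ _) ((q.1.map_add _ _).trans
        (max_le ?_ ?_)))
      · rw [map_pow]
        exact (pow_le_one' hgq' 2).trans (le_max_left _ _)
      · exact hgq'.trans (le_max_left _ _)
    exact_mod_cast toNat_neg_ord_le q h1
  -- degree comparison
  set E := poleDiv (k := k) f - poleDiv (k := k) f' - Finsupp.single p 1 with hE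
  have hE0 : 0 ≤ E := by
    intro q
    rw [hE, Finsupp.sub_apply, Finsupp.sub_apply, Finsupp.zero_apply]
    by_cases hq : q = p
    · subst hq
      rw [Finsupp.single_eq_same]
      omega
    · rw [Finsupp.single_eq_of_ne hq]
      have := hPq q hq
      omega
  have hdeg : (poleDiv (k := k) f).deg = (poleDiv (k := k) f').deg + E.deg + (p.deg : ℤ) := by
    have : poleDiv (k := k) f = poleDiv (k := k) f' + E + Finsupp.single p 1 := by
      rw [hE]; abel
    rw [this, deg_add, deg_add, deg_single, one_mul]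
  have h1 := deg_nonneg_of_nonneg hE0
  have h3 := deg_pos hK₀ p
  rw [hdeg]
  have : (0 : ℤ) < (p.deg : ℤ) := by exact_mod_cast h3
  omega

end rat

section main

variable {k : Type u} {K : Type v} [Field k] [Field K] [PerfectField k]
  [Algebra k K] [Algebra (RatFunc k) K] [IsScalarTower k (RatFunc k) K]

theorem exists_as_odd_poles (h2 : ringChar k = 2)
    (hdeg : Module.finrank (RatFunc k) K = 2) [Algebra.IsSeparable (RatFunc k) K] :
    ∃ (y : K) (f : RatFunc k), y ^ 2 + y = algebraMap (RatFunc k) K f ∧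
      IntermediateField.adjoin (RatFunc k) ({y} : Set K) = ⊤ ∧
      ∀ P : Place k (RatFunc k), P.ord f < 0 → Odd (P.ord f) := by
  haveI : CharP k 2 := ringChar.of_eq h2
  haveI : CharP (RatFunc k) 2 :=
    charP_of_injective_algebraMap (algebraMap k (RatFunc k)).injective 2
  haveI : CharP K 2 := charP_of_injective_algebraMap (algebraMap (RatFunc k) K).injective 2
  have h2K : (2 : K) = 0 := CharTwo.two_eq_zero
  have key : ∀ n : ℕ, ∀ (y : K) (f : RatFunc k), y ^ 2 + y = algebraMap (RatFunc k) K f →
      IntermediateField.adjoin (RatFunc k) ({y} : Set K) = ⊤ →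
      (poleDiv (k := k) f).deg.toNat = n →
      ∃ (y : K) (f : RatFunc k), y ^ 2 + y = algebraMap (RatFunc k) K f ∧
        IntermediateField.adjoin (RatFunc k) ({y} : Set K) = ⊤ ∧
        ∀ P : Place k (RatFunc k), P.ord f < 0 → Odd (P.ord f) := by
    intro n
    induction n using Nat.strong_induction_on with
    | _ n ih =>
      intro y f heq hadj hn
      by_cases hall : ∀ P : Place k (RatFunc k), P.ord f < 0 → Odd (P.ord f)
      · exact ⟨y, f, heq, hadj, hall⟩
      · push Not at hall
        obtain ⟨p, hneg, hnodd⟩ := hall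
        have heven : Even (p.ord f) := Int.not_odd_iff_even.mp hnodd
        obtain ⟨g, hg⟩ := as_reduce_step f p hneg heven
        have hnn : 0 ≤ (poleDiv (k := k) (f + g ^ 2 + g)).deg :=
          deg_nonneg_of_nonneg (poleDiv_nonneg _)
        refine ih (poleDiv (k := k) (f + g ^ 2 + g)).deg.toNat (by omega)
          (y + algebraMap (RatFunc k) K g) (f + g ^ 2 + g) ?_ ?_ rfl
        · rw [map_add, map_add, map_pow, ← heq]
          have : (y + algebraMap (RatFunc k) K g) ^ 2 =
              y ^ 2 + algebraMap (RatFunc k) K g ^ 2 + 2 * (y * algebraMap (RatFunc k) K g) := by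
            ring
          rw [this, h2K]
          ring
        · rw [eq_top_iff, ← hadj, IntermediateField.adjoin_simple_le_iff]
          have h1 : y = (y + algebraMap (RatFunc k) K g) - algebraMap (RatFunc k) K g := by ring
          have h3 : (y + algebraMap (RatFunc k) K g) - algebraMap (RatFunc k) K g ∈
              IntermediateField.adjoin (RatFunc k) ({y + algebraMap (RatFunc k) K g} : Set K) :=
            sub_mem (IntermediateField.mem_adjoin_simple_self _ _)
              (IntermediateField.algebraMap_mem _ _)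
          rwa [← h1] at h3
  obtain ⟨y, f, heq, hadj⟩ := exists_artin_schreier (F := RatFunc k) (K := K) hdeg
  exact key _ y f heq hadj rfl

end main

end Groth.Agent.Lib.Helper24.FFExt
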