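import Groth.Agent.Lib.Helper24.FFExt.ASGenus

/-! # Regular differentials of an Artin–Schreier double cover in characteristic two -/

set_option autoImplicit false
set_option linter.style.haveILetI false

namespace Groth.Agent.Lib.Helper24.FFExt

open FunFld LocRes LaurentSeries WithZero IntermediateField Polynomial
  Groth.Agent.Lib.Helper18.FF

universe u v w

section wronskian

variable {k : Type*} [Field k]

/-- The Wronskian `A'B - AB'`. -/
noncomputable def wr (A B : k[X]) : k[X] := derivative A * B - A * derivative B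

theorem natCast_odd_poly [CharP k 2] {m : ℕ} (hm : Odd m) : ((m : ℕ) : k[X]) = 1 := by
  obtain ⟨j, rfl⟩ := hm
  have h2 : (2 : k[X]) = 0 := by
    rw [← C_ofNat, CharTwo.two_eq_zero, C_0]
  push_cast
  rw [h2, zero_mul, zero_add]

theorem wr_pow_mul [CharP k 2] {π A B₁ : k[X]} {m : ℕ} (hm : Odd m) :
    wr A (π ^ m * B₁) = π ^ (m - 1) *
      (π * (derivative A * B₁ - A * derivative B₁) - A * derivative π * B₁) := by
  have hm1 : m = (m - 1) + 1 := by
    obtain ⟨j, rfl⟩ := hm
    omega
  have hC : (C ((m : ℕ) : k) : k[X]) = 1 := by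
    rw [← natCast_odd_poly (k := k) hm, map_natCast]
  rw [wr, Polynomial.derivative_mul, derivative_pow, hC, one_mul]
  conv_lhs => rw [hm1, pow_succ]
  simp only [Nat.add_sub_cancel]
  ring

theorem not_dvd_wr_factor {π A B₁ : k[X]} (hπ : Irreducible π) (hsep : π.Separable)
    (hA : ¬ π ∣ A) (hB₁ : ¬ π ∣ B₁) :
    ¬ π ∣ (π * (derivative A * B₁ - A * derivative B₁) - A * derivative π * B₁) := by
  intro h
  have h1 : π ∣ A * derivative π * B₁ := by
    have h2 : π ∣ π * (derivative A * B₁ - A * derivative B₁) := dvd_mul_right _ _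
    have := dvd_sub h2 h
    rwa [sub_sub_cancel] at this
  have hp : Prime π := hπ.prime
  rcases hp.dvd_mul.mp h1 with h3 | h3
  · rcases hp.dvd_mul.mp h3 with h4 | h4
    · exact hA h4
    · have hcop : IsCoprime π (derivative π) := hsep
      have : π ∣ 1 := by
        obtain ⟨a, b, hab⟩ := hcop
        rw [← hab]
        exact dvd_add (dvd_mul_left _ _) (dvd_mul_of_dvd_right h4 _)
      exact hπ.not_isUnit (isUnit_of_dvd_one this)
  · exact hB₁ h3

theorem natDegree_wr {A B : k[X]} (hB : B ≠ 0) (ha : 1 ≤ A.natDegree)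
    (h : ((A.natDegree : k) - (B.natDegree : k)) ≠ 0) :
    wr A B ≠ 0 ∧ (wr A B).natDegree + 1 = A.natDegree + B.natDegree := by
  have hA0 : A ≠ 0 := by
    rintro rfl
    simp at ha
  set a := A.natDegree with hadef
  set b := B.natDegree with hbdef
  have hle1 : (derivative A * B).natDegree ≤ (a - 1) + b :=
    natDegree_mul_le.trans (add_le_add (natDegree_derivative_le A) le_rfl)
  have hle2 : (A * derivative B).natDegree ≤ (a - 1) + b := by
    rcases Nat.eq_zero_or_pos b with hb0 | hbpos
    · have hB' : derivative B = 0 := derivative_of_natDegree_zero hb0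
      rw [hB', mul_zero, natDegree_zero]
      exact Nat.zero_le _
    · refine natDegree_mul_le.trans ?_
      have := natDegree_derivative_le B
      omega
  have hle : (wr A B).natDegree ≤ (a - 1) + b := (natDegree_sub_le _ _).trans (max_le hle1 hle2)
  have hcoeff : (wr A B).coeff ((a - 1) + b) =
      ((a : k) - (b : k)) * (A.leadingCoeff * B.leadingCoeff) := by
    rw [wr, coeff_sub, coeff_mul_add_eq_of_natDegree_le (natDegree_derivative_le A) le_rfl,
      coeff_derivative]
    have h1 : a - 1 + 1 = a := Nat.sub_add_cancel ha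
    rw [h1]
    rcases Nat.eq_zero_or_pos b with hb0 | hbpos
    · have hB' : derivative B = 0 := derivative_of_natDegree_zero hb0
      rw [hB', mul_zero, coeff_zero, sub_zero, hb0]
      simp only [leadingCoeff, ← hadef, ← hbdef, hb0]
      have : ((a - 1 : ℕ) : k) + 1 = (a : k) := by
        rw [← h1]
        push_cast
        simp
      rw [this]
      push_cast
      ring
    · have h2 : a - 1 + b = a + (b - 1) := by omega
      rw [h2, coeff_mul_add_eq_of_natDegree_le le_rfl (natDegree_derivative_le B),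
        coeff_derivative]
      have h3 : b - 1 + 1 = b := Nat.sub_add_cancel hbpos
      rw [h3]
      simp only [leadingCoeff, ← hadef, ← hbdef]
      have h4 : ((a - 1 : ℕ) : k) + 1 = (a : k) := by
        rw [← h1]
        push_cast
        simp
      have h5 : ((b - 1 : ℕ) : k) + 1 = (b : k) := by
        rw [← h3]
        push_cast
        simp
      rw [h4, h5]
      ring
  have hne : (wr A B).coeff ((a - 1) + b) ≠ 0 := by
    rw [hcoeff]
    exact mul_ne_zero h (mul_ne_zero (leadingCoeff_ne_zero.mpr hA0) (leadingCoeff_ne_zero.mpr hB))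
  have hW0 : wr A B ≠ 0 := by
    intro h0
    rw [h0, coeff_zero] at hne
    exact hne rfl
  refine ⟨hW0, ?_⟩
  have hge : (a - 1) + b ≤ (wr A B).natDegree := le_natDegree_of_ne_zero hne
  omega

end wronskian

section as

variable {k : Type u} {K : Type v} [Field k] [Field K] [Algebra k K] [Algebra (RatFunc k) K]
  [IsScalarTower k (RatFunc k) K] {F : Type w} [Field F] [Algebra k F]

theorem as_D_y [CharP k 2] {y : K} {f : RatFunc k}
    (heq : y ^ 2 + y = algebraMap (RatFunc k) K f) :
    KaehlerDifferential.D k K y =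
      (aeval (algebraMap (RatFunc k) K RatFunc.X) (wr f.num f.denom) /
        (aeval (algebraMap (RatFunc k) K RatFunc.X) f.denom) ^ 2) •
        KaehlerDifferential.D k K (algebraMap (RatFunc k) K RatFunc.X) := by
  set x : K := algebraMap (RatFunc k) K RatFunc.X with hx
  haveI : CharP K 2 := charP_of_injective_algebraMap (algebraMap k K).injective 2
  have h2K : (2 : K) = 0 := CharTwo.two_eq_zero
  set a := aeval x f.num with ha
  set b := aeval x f.denom with hb
  have hb0 : b ≠ 0 := by
    intro h0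
    exact f.denom_ne_zero (aeval_algebraMap_X_injective (by rw [← hb, h0, map_zero]))
  have hrel : b * (y ^ 2 + y) = a := by
    rw [heq, ha, hb, ← algebraMap_poly, ← algebraMap_poly, ← map_mul]
    congr 1
    have hd0 : algebraMap k[X] (RatFunc k) f.denom ≠ 0 :=
      RatFunc.algebraMap_ne_zero f.denom_ne_zero
    conv_lhs => rw [mul_comm]
    rw [eq_comm, ← div_eq_iff hd0]
    exact RatFunc.num_div_denom f
  have h1 := congrArg (KaehlerDifferential.D k K) hrel
  rw [Derivation.leibniz, map_add, Derivation.leibniz_pow, ha, hb, Derivation.map_aeval,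
    Derivation.map_aeval, ← hb] at h1
  have h3 : (2 : ℕ) • y ^ (2 - 1) • KaehlerDifferential.D k K y = 0 := by
    rw [← Nat.cast_smul_eq_nsmul K, Nat.cast_ofNat, h2K, zero_smul]
  rw [h3, zero_add] at h1
  have key : b • KaehlerDifferential.D k K y =
      (aeval x (derivative f.num) - (y ^ 2 + y) * aeval x (derivative f.denom)) •
        KaehlerDifferential.D k K x := by
    rw [sub_smul, ← h1, mul_smul]
    abel
  have h4 : KaehlerDifferential.D k K y = b⁻¹ • (b • KaehlerDifferential.D k K y) :=
    (inv_smul_smul₀ hb0 _).symm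
  rw [h4, key, smul_smul]
  congr 1
  have hy2 : y ^ 2 + y = a / b := by rw [eq_div_iff hb0, mul_comm]; exact hrel
  rw [hy2, wr, map_sub, map_mul, map_mul, ← ha, ← hb]
  field_simp

theorem intCast_odd_ne_zero {F : Type*} [Field F] [CharP F 2] {n : ℤ} (hn : Odd n) :
    ((n : ℤ) : F) ≠ 0 := by
  obtain ⟨j, rfl⟩ := hn
  have h2 : (2 : F) = 0 := CharTwo.two_eq_zero
  push_cast
  rw [h2, zero_mul, zero_add]
  exact one_ne_zero

theorem deg_asE_eq (f : RatFunc k) {q : k[X]} (hq0 : q ≠ 0)
    (hq : ∀ p : Place k (RatFunc k), p.1 RatFunc.X ≤ 1 →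
      p.ord (algebraMap k[X] (RatFunc k) q) = asE f p)
    {p : Place k (RatFunc k)} (hinf : 1 < p.1 RatFunc.X) :
    (asE f).deg = q.natDegree + asE f p := by
  classical
  have hK₀ : IsFunctionField k (RatFunc k) := isFunctionField_ratFunc
  have hE : asE f - FunFld.div k (algebraMap k[X] (RatFunc k) q) =
      Finsupp.single p ((q.natDegree : ℤ) + asE f p) := by
    ext p'
    rw [Finsupp.sub_apply, div_apply hK₀]
    by_cases hpp : p' = p
    · subst hpp
      rw [Finsupp.single_eq_same, ord_poly_inf p' hinf hq0]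
      ring
    · rw [Finsupp.single_eq_of_ne hpp]
      have hfin : p'.1 RatFunc.X ≤ 1 := by
        by_contra hlt
        push Not at hlt
        exact hpp (inf_unique p hinf p' hlt)
      rw [hq p' hfin, sub_self]
  have h1 := congrArg Divisor.deg hE
  rw [deg_sub, deg_div_eq_zero hK₀, sub_zero, deg_single, deg_inf p hinf] at h1
  rw [h1]
  push_cast
  ring

theorem exists_irreducible_uniformizer {p : Place k (RatFunc k)} (hfin : p.1 RatFunc.X ≤ 1) :
    ∃ π : k[X], Irreducible π ∧ p.1 (algebraMap k[X] (RatFunc k) π) < 1 := by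
  obtain ⟨t, ht⟩ := exists_uniformizer p
  have ht0 : t ≠ 0 := by
    rintro rfl
    rw [map_zero] at ht
    exact exp_ne_zero ht.symm
  have hnum : p.1 (algebraMap k[X] (RatFunc k) t.num) < 1 := by
    have hden : p.1 (algebraMap k[X] (RatFunc k) t.denom) ≤ 1 := val_poly_le_one p hfin _
    have hd0 : algebraMap k[X] (RatFunc k) t.denom ≠ 0 :=
      RatFunc.algebraMap_ne_zero t.denom_ne_zero
    have h0 : t * algebraMap k[X] (RatFunc k) t.denom = algebraMap k[X] (RatFunc k) t.num := by
      rw [eq_comm, ← div_eq_iff hd0]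
      exact RatFunc.num_div_denom t
    have h1 : p.1 (algebraMap k[X] (RatFunc k) t.num) =
        p.1 t * p.1 (algebraMap k[X] (RatFunc k) t.denom) := by
      rw [← h0, map_mul]
    rw [h1, ht]
    calc exp (-1 : ℤ) * p.1 (algebraMap k[X] (RatFunc k) t.denom)
        ≤ exp (-1 : ℤ) * 1 := mul_le_mul' le_rfl hden
      _ < 1 := by rw [mul_one, ← exp_zero, exp_lt_exp]; norm_num
  obtain ⟨π, hπ, -, hπl⟩ := Groth.Agent.S12535.exists_irreducible_dvd_val_lt_one p t.num
    (RatFunc.num_ne_zero ht0) hnum
  exact ⟨π, hπ, hπl⟩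

/-- The order of `dx` at a place of an Artin–Schreier double cover, read through an expansion. -/
theorem as_val_D_x [PerfectField k] (hK : IsFunctionField k K) (h2 : ringChar k = 2)
    (hdeg : Module.finrank (RatFunc k) K = 2) {y : K}
    (hy : y ∉ Set.range (algebraMap (RatFunc k) K)) {f : RatFunc k}
    (heq : y ^ 2 + y = algebraMap (RatFunc k) K f)
    (hodd : ∀ p : Place k (RatFunc k), p.ord f < 0 → Odd (p.ord f))
    {q : k[X]} (hq0 : q ≠ 0)
    (hq : ∀ p : Place k (RatFunc k), p.1 RatFunc.X ≤ 1 →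
      p.ord (algebraMap k[X] (RatFunc k) q) = asE f p)
    (P : Place k K) (ψ : K →ₐ[k] F⸨X⸩) (hψ : IsExpansionAt P.1 ψ) :
    Valued.v (LocRes.D F (ψ (algebraMap (RatFunc k) K RatFunc.X))) *
        (max 1 (P.1 (algebraMap (RatFunc k) K RatFunc.X))) ^ (genus k K) =
      P.1 (aeval (algebraMap (RatFunc k) K RatFunc.X) q) *
        max 1 (P.1 (algebraMap (RatFunc k) K RatFunc.X)) := by
  classical
  set x : K := algebraMap (RatFunc k) K RatFunc.X with hx
  have hK₀ : IsFunctionField k (RatFunc k) := isFunctionField_ratFunc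
  haveI : FiniteDimensional (RatFunc k) K := Module.finite_of_finrank_pos (by rw [hdeg]; norm_num)
  haveI : CharP k 2 := ringChar.of_eq h2
  haveI : CharP F 2 := charP_of_injective_algebraMap (algebraMap k F).injective 2
  haveI := as_isSeparable hdeg hy heq
  have hgenus := as_genus hK h2 hdeg hy heq hodd
  set g := genus k K with hg
  have hf_of_neg : ∀ p : Place k (RatFunc k), p.ord f < 0 → f ≠ 0 := by
    rintro p hneg rfl
    rw [ord_zero] at hneg
    exact lt_irrefl _ hneg
  set A := f.num with hA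
  set B := f.denom with hB
  have hB0 : B ≠ 0 := f.denom_ne_zero
  have hBx0 : aeval x B ≠ 0 := fun h0 =>
    hB0 (aeval_algebraMap_X_injective (by rw [h0, map_zero]))
  have hDy : LocRes.D F (ψ y) = ψ (aeval x (wr A B) / (aeval x B) ^ 2) * LocRes.D F (ψ x) :=
    D_exp_eq_of_D_eq_smul ψ (as_D_y heq)
  have hfAB : ∀ p : Place k (RatFunc k),
      p.1 f * p.1 (algebraMap k[X] (RatFunc k) B) = p.1 (algebraMap k[X] (RatFunc k) A) := by
    intro p
    have hd0 : algebraMap k[X] (RatFunc k) B ≠ 0 := RatFunc.algebraMap_ne_zero hB0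
    have h0 : f * algebraMap k[X] (RatFunc k) B = algebraMap k[X] (RatFunc k) A := by
      rw [eq_comm, ← div_eq_iff hd0]
      exact RatFunc.num_div_denom f
    rw [← h0, map_mul]
  obtain ⟨p, hp⟩ := exists_isOver (K := RatFunc k) (K' := K) hK₀ P
  have he := isOver_isOverWith_ramIdx hp
  set e := ramIdx P p with he_def
  have hPx : P.1 x = p.1 RatFunc.X ^ e := he RatFunc.X
  have hPpoly : ∀ c : k[X], P.1 (aeval x c) = p.1 (algebraMap k[X] (RatFunc k) c) ^ e := by
    intro c
    rw [← algebraMap_poly]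
    exact he _
  rcases le_or_gt (p.1 RatFunc.X) 1 with hfin | hinf
  · -- finite places
    have hPx1 : P.1 x ≤ 1 := by rw [hPx]; exact pow_le_one' hfin e
    rw [max_eq_left hPx1, one_pow, mul_one, mul_one]
    obtain ⟨π, hπ, hπl⟩ := exists_irreducible_uniformizer hfin
    have hπv := val_irreducible_eq p hπ hπl
    have hpq : p.1 (algebraMap k[X] (RatFunc k) q) = exp (-(asE f p)) := by
      rw [val_eq_exp_neg_ord p (RatFunc.algebraMap_ne_zero hq0), hq p hfin]
    by_cases hneg : p.ord f < 0
    · -- a finite pole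
      obtain ⟨he2, hPy⟩ := as_pole_data h2 hdeg hy heq hneg (hodd p hneg) hp
      have hee : e = 2 := isOverWith_eq he he2
      obtain ⟨j, hj⟩ := hodd p hneg
      have hf0 := hf_of_neg p hneg
      have hE : asE f p = -j := by
        rw [asE_apply, if_pos hneg, hj]
        omega
      obtain ⟨m, hm⟩ : ∃ m : ℕ, (m : ℤ) = -p.ord f := ⟨(-p.ord f).toNat, Int.toNat_of_nonneg (by omega)⟩
      have hmodd : Odd m := by
        have : Odd (m : ℤ) := by rw [hm, hj]; exact ⟨-j - 1, by ring⟩
        exact_mod_cast this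
      have hpf : p.1 f = exp (m : ℤ) := by rw [val_eq_exp_neg_ord p hf0, hm]
      have hpA1 : p.1 (algebraMap k[X] (RatFunc k) A) ≤ 1 := val_poly_le_one p hfin A
      have hpB1 : p.1 (algebraMap k[X] (RatFunc k) B) ≤ 1 := val_poly_le_one p hfin B
      have hm1 : 1 ≤ m := by
        obtain ⟨c, rfl⟩ := hmodd
        omega
      have hπB : π ∣ B := by
        by_contra hnd
        have h1 := val_eq_one_of_not_dvd p hπ hπl hnd
        have h3 := hfAB p
        rw [h1, mul_one, hpf] at h3
        rw [← h3, ← exp_zero, exp_le_exp] at hpA1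
        omega
      have hπA : ¬ π ∣ A := by
        intro hdvd
        have hcop : IsCoprime A B := RatFunc.isCoprime_num_denom f
        exact hπ.not_isUnit (hcop.isUnit_of_dvd' hdvd hπB)
      have hpA : p.1 (algebraMap k[X] (RatFunc k) A) = 1 := val_eq_one_of_not_dvd p hπ hπl hπA
      have hpB : p.1 (algebraMap k[X] (RatFunc k) B) = exp (-(m : ℤ)) := by
        have h3 := hfAB p
        rw [hpA, hpf] at h3
        have : p.1 (algebraMap k[X] (RatFunc k) B) =
            exp (-(m : ℤ)) * (exp (m : ℤ) * p.1 (algebraMap k[X] (RatFunc k) B)) := by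
          rw [← mul_assoc, ← exp_add]
          simp
        rw [this, h3, mul_one]
      obtain ⟨B₁, hBB₁, hπB₁⟩ :=
        (FiniteMultiplicity.of_not_isUnit hπ.not_isUnit hB0).exists_eq_pow_mul_and_not_dvd
      have hmult : multiplicity π B = m := by
        have h3 := val_pow_mul_of_not_dvd p hπ hπl hπB₁ (multiplicity π B)
        rw [← hBB₁, hpB, hπv, ← exp_nsmul, exp_inj, nsmul_eq_mul] at h3
        have h5 : (m : ℤ) = (multiplicity π B : ℤ) := by linarith
        exact_mod_cast h5.symm
      rw [hmult] at hBB₁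
      have hsep : π.Separable := PerfectField.separable_of_irreducible hπ
      have hW : wr A B = π ^ (m - 1) *
          (π * (derivative A * B₁ - A * derivative B₁) - A * derivative π * B₁) := by
        rw [hBB₁]
        exact wr_pow_mul hmodd
      have hpW : p.1 (algebraMap k[X] (RatFunc k) (wr A B)) = exp (-((m : ℤ) - 1)) := by
        rw [hW, val_pow_mul_of_not_dvd p hπ hπl (not_dvd_wr_factor hπ hsep hπA hπB₁), hπv,
          ← exp_nsmul]
        congr 1
        simp only [nsmul_eq_mul, mul_neg, mul_one, neg_inj]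
        push_cast [hm1]
        ring
      have hvy : Valued.v (LocRes.D F (ψ y)) = exp (-(-(m : ℤ) - 1)) := by
        refine val_D_eq_of_cast_ne_zero (by rw [hψ.1, hPy, hpf, neg_neg]) ?_
        exact intCast_odd_ne_zero (by exact_mod_cast hmodd : Odd (m : ℤ)).neg
      rw [hDy, map_mul, hψ.1, map_div₀, map_pow, hPpoly, hPpoly, hpW, hpB, hee] at hvy
      have hvx : Valued.v (LocRes.D F (ψ x)) = exp (-(m : ℤ) - 1) := by
        have h3 : Valued.v (LocRes.D F (ψ x)) =
            exp (-2 * (m : ℤ) - 2) * (exp (-((m : ℤ) - 1)) ^ 2 / (exp (-(m : ℤ)) ^ 2) ^ 2 *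
              Valued.v (LocRes.D F (ψ x))) := by
          rw [← mul_assoc, ← exp_nsmul, ← exp_nsmul, ← exp_nsmul, ← exp_sub, ← exp_add]
          have : -2 * (m : ℤ) - 2 + (2 • -((m : ℤ) - 1) - 2 • 2 • -(m : ℤ)) = 0 := by
            simp only [nsmul_eq_mul, Nat.cast_ofNat]
            ring
          rw [this, exp_zero, one_mul]
        rw [h3, hvy, ← exp_add]
        congr 1
        ring
      rw [hvx, hPpoly, hpq, hE, hee, ← exp_nsmul]
      congr 1
      simp only [nsmul_eq_mul, Nat.cast_ofNat]
      omega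
    · -- finite, no pole: unramified
      have he1 : IsOverWith P p 1 :=
        (Groth.Agent.S12519.result k K h2 hdeg y hy f heq p).2 (not_lt.mp hneg) P hp
      have hee : e = 1 := isOverWith_eq he he1
      have hE : asE f p = 0 := by rw [asE_apply, if_neg hneg]
      have hPπ : P.1 (aeval x π) = exp (-(1 : ℤ)) := by
        rw [hPpoly, hπv, hee, pow_one]
      have hchain : LocRes.D F (ψ (aeval x π)) =
          ψ (aeval x (derivative π)) * LocRes.D F (ψ x) :=
        D_exp_eq_of_D_eq_smul ψ ((KaehlerDifferential.D k K).map_aeval π x)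
      have hq1 : P.1 (aeval x (derivative π)) ≤ 1 := by
        rw [hPpoly]
        exact pow_le_one' (val_poly_le_one p hfin _) e
      have hDx1 : Valued.v (LocRes.D F (ψ x)) ≤ 1 := val_D_le_one_of_le_one ψ hψ hPx1
      have h1F : ((1 : ℤ) : F) ≠ 0 := by simp
      have hv : Valued.v (LocRes.D F (ψ (aeval x π))) = exp (-((1 : ℤ) - 1)) :=
        val_D_eq_of_cast_ne_zero (by rw [hψ.1, hPπ]) h1F
      rw [hchain, map_mul, hψ.1, sub_self, neg_zero, exp_zero] at hv
      rw [hPpoly, hpq, hE, neg_zero, exp_zero, one_pow]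
      refine le_antisymm hDx1 (not_lt.mp fun hlt => ?_)
      have h4 : P.1 (aeval x (derivative π)) * Valued.v (LocRes.D F (ψ x)) < 1 := by
        calc _ ≤ 1 * Valued.v (LocRes.D F (ψ x)) := mul_le_mul' hq1 le_rfl
          _ = Valued.v (LocRes.D F (ψ x)) := one_mul _
          _ < 1 := hlt
      rw [hv] at h4
      exact lt_irrefl _ h4
  · -- infinite places
    have hpX : p.1 RatFunc.X = exp (1 : ℤ) := val_X_inf p hinf
    have hPxe : P.1 x = exp (e : ℤ) := by
      rw [hPx, hpX, ← exp_nsmul]
      simp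
    have hepos : 0 < e := isOver_ramIdx_pos hp
    have hPx1 : 1 < P.1 x := by
      rw [hPxe, ← exp_zero, exp_lt_exp]
      exact_mod_cast hepos
    rw [max_eq_right hPx1.le]
    have hdegE := deg_asE_eq f hq0 hq hinf
    rw [hdegE] at hgenus
    have hpq : p.1 (algebraMap k[X] (RatFunc k) q) = exp (q.natDegree : ℤ) := by
      rw [val_poly_inf p hinf hq0, hpX, ← exp_nsmul]
      simp
    by_cases hneg : p.ord f < 0
    · obtain ⟨he2, hPy⟩ := as_pole_data h2 hdeg hy heq hneg (hodd p hneg) hp
      have hee : e = 2 := isOverWith_eq he he2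
      obtain ⟨j, hj⟩ := hodd p hneg
      have hf0 := hf_of_neg p hneg
      have hE : asE f p = -j := by
        rw [asE_apply, if_pos hneg, hj]
        omega
      obtain ⟨m, hm⟩ : ∃ m : ℕ, (m : ℤ) = -p.ord f := ⟨(-p.ord f).toNat, Int.toNat_of_nonneg (by omega)⟩
      have hmodd : Odd m := by
        have : Odd (m : ℤ) := by rw [hm, hj]; exact ⟨-j - 1, by ring⟩
        exact_mod_cast this
      have hpf : p.1 f = exp (m : ℤ) := by rw [val_eq_exp_neg_ord p hf0, hm]
      have hpfinf := val_inf p hinf hf0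
      rw [hpf, hpX, ← exp_zsmul, exp_inj] at hpfinf
      simp only [smul_eq_mul, mul_one] at hpfinf
      rw [← hA, ← hB] at hpfinf
      have hA0 : A ≠ 0 := RatFunc.num_ne_zero hf0
      have ha1 : 1 ≤ A.natDegree := by
        obtain ⟨c, hc⟩ := hmodd
        omega
      have hcast : ((A.natDegree : k) - (B.natDegree : k)) ≠ 0 := by
        have h3 : ((A.natDegree : k) - (B.natDegree : k)) = (((m : ℤ) : ℤ) : k) := by
          rw [hpfinf]
          push_cast
          ring
        rw [h3]
        exact intCast_odd_ne_zero (by exact_mod_cast hmodd)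
      obtain ⟨hW0, hWdeg⟩ := natDegree_wr hB0 ha1 hcast
      have hpW : p.1 (algebraMap k[X] (RatFunc k) (wr A B)) = exp ((wr A B).natDegree : ℤ) := by
        rw [val_poly_inf p hinf hW0, hpX, ← exp_nsmul]
        simp
      have hpB : p.1 (algebraMap k[X] (RatFunc k) B) = exp (B.natDegree : ℤ) := by
        rw [val_poly_inf p hinf hB0, hpX, ← exp_nsmul]
        simp
      have hvy : Valued.v (LocRes.D F (ψ y)) = exp (-(-(m : ℤ) - 1)) := by
        refine val_D_eq_of_cast_ne_zero (by rw [hψ.1, hPy, hpf, neg_neg]) ?_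
        exact intCast_odd_ne_zero (by exact_mod_cast hmodd : Odd (m : ℤ)).neg
      rw [hDy, map_mul, hψ.1, map_div₀, map_pow, hPpoly, hPpoly, hpW, hpB, hee] at hvy
      have hvx : Valued.v (LocRes.D F (ψ x)) = exp (3 - (m : ℤ)) := by
        have h3 : Valued.v (LocRes.D F (ψ x)) =
            exp (4 * (B.natDegree : ℤ) - 2 * ((wr A B).natDegree : ℤ)) *
              (exp ((wr A B).natDegree : ℤ) ^ 2 / (exp (B.natDegree : ℤ) ^ 2) ^ 2 *
              Valued.v (LocRes.D F (ψ x))) := by
          rw [← mul_assoc, ← exp_nsmul, ← exp_nsmul, ← exp_nsmul, ← exp_sub, ← exp_add]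
          have : 4 * (B.natDegree : ℤ) - 2 * ((wr A B).natDegree : ℤ) +
              (2 • ((wr A B).natDegree : ℤ) - 2 • 2 • (B.natDegree : ℤ)) = 0 := by
            simp only [nsmul_eq_mul, Nat.cast_ofNat]
            ring
          rw [this, exp_zero, one_mul]
        rw [h3, hvy, ← exp_add]
        congr 1
        have : ((wr A B).natDegree : ℤ) + 1 = A.natDegree + B.natDegree := by exact_mod_cast hWdeg
        omega
      rw [hvx, hPpoly, hpq, hPxe, hee, ← exp_nsmul, ← exp_nsmul, ← exp_add, ← exp_add]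
      congr 1
      rw [hE] at hgenus
      simp only [nsmul_eq_mul, Nat.cast_ofNat]
      push_cast
      omega
    · have he1 : IsOverWith P p 1 :=
        (Groth.Agent.S12519.result k K h2 hdeg y hy f heq p).2 (not_lt.mp hneg) P hp
      have hee : e = 1 := isOverWith_eq he he1
      have hE : asE f p = 0 := by rw [asE_apply, if_neg hneg]
      have hvx : Valued.v (LocRes.D F (ψ x)) = exp (-(-(1 : ℤ) - 1)) := by
        refine val_D_eq_of_cast_ne_zero (by rw [hψ.1, hPxe, hee]; simp) ?_
        exact intCast_odd_ne_zero ⟨-1, by ring⟩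
      rw [hvx, hPpoly, hpq, hPxe, hee, ← exp_nsmul, ← exp_nsmul, ← exp_add, ← exp_add]
      congr 1
      rw [hE] at hgenus
      simp only [nsmul_eq_mul]
      push_cast
      omega

/-- The regular differentials of an Artin–Schreier double cover: the basis `x^i dx / q(x)`. -/
theorem as_regularDifferentials [PerfectField k] (hK : IsFunctionField k K) (h2 : ringChar k = 2)
    (hdeg : Module.finrank (RatFunc k) K = 2) {y : K}
    (hy : y ∉ Set.range (algebraMap (RatFunc k) K)) {f : RatFunc k}
    (heq : y ^ 2 + y = algebraMap (RatFunc k) K f)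
    (hodd : ∀ p : Place k (RatFunc k), p.ord f < 0 → Odd (p.ord f))
    {q : k[X]} (hq0 : q ≠ 0)
    (hq : ∀ p : Place k (RatFunc k), p.1 RatFunc.X ≤ 1 →
      p.ord (algebraMap k[X] (RatFunc k) q) = asE f p)
    (F : Place k K → Type w) [∀ P, Field (F P)] [∀ P, Algebra k (F P)]
    (φ : ∀ P, K →ₐ[k] (F P)⸨X⸩) (hφ : ∀ P, IsExpansionAt P.1 (φ P)) :
    (∀ i : ℕ, i < genus k K → ∀ P,
      vDiff (φ P) (algebraMap (RatFunc k) K (RatFunc.X ^ i / algebraMap k[X] (RatFunc k) q))
        (algebraMap (RatFunc k) K RatFunc.X) ≤ 1) ∧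
    ∀ z : K, (∀ P, vDiff (φ P) z (algebraMap (RatFunc k) K RatFunc.X) ≤ 1) →
      ∃ a : k[X], a.degree < (genus k K : WithBot ℕ) ∧
        z = algebraMap (RatFunc k) K
          (algebraMap k[X] (RatFunc k) a / algebraMap k[X] (RatFunc k) q) := by
  classical
  set x : K := algebraMap (RatFunc k) K RatFunc.X with hx
  have hK₀ : IsFunctionField k (RatFunc k) := isFunctionField_ratFunc
  haveI : FiniteDimensional (RatFunc k) K := Module.finite_of_finrank_pos (by rw [hdeg]; norm_num)
  have hgenus := as_genus hK h2 hdeg hy heq hodd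
  set g := genus k K with hgdef
  set qx : K := aeval x q with hqx
  have hqx0 : qx ≠ 0 := fun h0 =>
    hq0 (aeval_algebraMap_X_injective (by rw [← hqx, h0, map_zero]))
  have hM1 : ∀ P : Place k K, (1 : ℤᵐ⁰) ≤ max 1 (P.1 x) := fun P => le_max_left _ _
  have hM0 : ∀ P : Place k K, max 1 (P.1 x) ≠ 0 := fun P =>
    (zero_lt_one.trans_le (hM1 P)).ne'
  have hkey : ∀ P : Place k K, Valued.v (LocRes.D (F P) (φ P x)) * (max 1 (P.1 x)) ^ g =
      P.1 qx * max 1 (P.1 x) := fun P =>
    as_val_D_x hK h2 hdeg hy heq hodd hq0 hq P (φ P) (hφ P)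
  have hPq0 : ∀ P : Place k K, P.1 qx ≠ 0 := fun P => (Valuation.ne_zero_iff _).mpr hqx0
  constructor
  · intro i hi P
    set M := max 1 (P.1 x) with hM
    have hMg0 : M ^ g ≠ 0 := pow_ne_zero _ (hM0 P)
    refine le_of_mul_le_mul_right ?_ (zero_lt_iff.mpr hMg0)
    have harg : algebraMap (RatFunc k) K (RatFunc.X ^ i / algebraMap k[X] (RatFunc k) q) =
        x ^ i / qx := by
      rw [map_div₀, map_pow, algebraMap_poly]
    rw [one_mul, vDiff, map_mul, (hφ P).1, harg, map_div₀, map_pow, mul_assoc, hkey P,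
      div_mul_eq_mul_div, mul_div_assoc, mul_comm (P.1 qx), mul_div_assoc, div_self (hPq0 P),
      mul_one]
    calc P.1 x ^ i * M ≤ M ^ i * M := mul_le_mul' (pow_le_pow_left' (le_max_right _ _) i) le_rfl
      _ = M ^ (i + 1) := (pow_succ M i).symm
      _ ≤ M ^ g := pow_le_pow_right' (hM1 P) hi
  · intro z hz
    have hbound : ∀ P : Place k K, P.1 (z * qx) * max 1 (P.1 x) ≤ (max 1 (P.1 x)) ^ g := by
      intro P
      have h1 := hz P
      rw [vDiff, map_mul, (hφ P).1] at h1
      calc P.1 (z * qx) * max 1 (P.1 x) = P.1 z * (P.1 qx * max 1 (P.1 x)) := by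
            rw [map_mul, mul_assoc]
        _ = P.1 z * Valued.v (LocRes.D (F P) (φ P x)) * (max 1 (P.1 x)) ^ g := by
            rw [← hkey P, mul_assoc]
        _ ≤ 1 * (max 1 (P.1 x)) ^ g := mul_le_mul' h1 le_rfl
        _ = _ := one_mul _
    -- membership of `z q(x)` in `L((g-1)(x)_∞)` (or `L(0)` in genus zero)
    have hL : z * qx ∈ L ((g - 1) • poleDiv (k := k) x) := by
      rw [mem_L_nsmul_poleDiv_iff hK]
      intro P
      have h1 := hbound P
      rcases Nat.eq_zero_or_pos g with hg0 | hgpos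
      · rw [hg0, pow_zero] at h1
        rw [hg0, Nat.zero_sub, pow_zero]
        calc P.1 (z * qx) = P.1 (z * qx) * 1 := (mul_one _).symm
          _ ≤ P.1 (z * qx) * max 1 (P.1 x) := mul_le_mul' le_rfl (hM1 P)
          _ ≤ 1 := h1
      · refine le_of_mul_le_mul_right ?_ (zero_lt_iff.mpr (hM0 P))
        rw [← pow_succ, Nat.sub_add_cancel hgpos]
        exact h1
    obtain ⟨α, β, hαβ⟩ := exists_repr_of_finrank_two hdeg hy (z * qx)
    rw [hαβ] at hL
    obtain ⟨hα, hβ⟩ := as_repr_mem_L hK h2 hdeg hy heq hodd hL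
    have hβ0 : β = 0 := by
      have hbot := L_eq_bot_of_deg_neg hK₀
        ((g - 1) • poleDiv (k := k) (RatFunc.X : RatFunc k) - asE f) (by
          rw [deg_sub, deg_nsmul, deg_poleDiv_X]
          push_cast
          omega)
      rw [hbot] at hβ
      exact (Submodule.mem_bot k).mp hβ
    rw [hβ0, map_zero, zero_mul, add_zero] at hαβ
    obtain ⟨a, ha, haα⟩ := exists_poly_of_mem_L_nsmul_poleDiv hK₀ RatFunc.transcendental_X
      deg_poleDiv_X (g - 1) hα
    rw [RatFunc.aeval_X_left_eq_algebraMap] at haα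
    rcases Nat.eq_zero_or_pos g with hg0 | hgpos
    · have hac : a = C (a.coeff 0) := eq_C_of_natDegree_le_zero (by omega)
      have hxk : x ∉ Set.range (algebraMap k K) := by
        rintro ⟨c, hc⟩
        have htr : Transcendental k x :=
          (transcendental_algebraMap_iff (algebraMap (RatFunc k) K).injective).mpr
            RatFunc.transcendental_X
        exact htr (hc ▸ isAlgebraic_algebraMap c)
      obtain ⟨P, hP⟩ := exists_pole hK hxk
      have h1 := hbound P
      have hzc : z * qx = algebraMap k K (a.coeff 0) := by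
        rw [hαβ, ← haα, hac, algebraMap_poly, aeval_C, coeff_C_zero]
      rw [hg0, pow_zero, max_eq_right hP.le, hzc] at h1
      have hc0 : a.coeff 0 = 0 := by
        by_contra hne
        rw [val_algebraMap P hne, one_mul] at h1
        exact absurd hP (not_lt.mpr h1)
      have hzq : z * qx = 0 := by rw [hzc, hc0, map_zero]
      have hz0 : z = 0 := (mul_eq_zero.mp hzq).resolve_right hqx0
      refine ⟨0, ?_, by rw [hz0, map_zero, zero_div, map_zero]⟩
      rw [degree_zero]
      exact WithBot.bot_lt_coe _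
    · refine ⟨a, ?_, ?_⟩
      · refine lt_of_le_of_lt degree_le_natDegree ?_
        exact_mod_cast (by omega : a.natDegree < g)
      · rw [map_div₀, algebraMap_poly q, ← hqx, haα, ← hαβ, mul_div_assoc, div_self hqx0, mul_one]

end as

end Groth.Agent.Lib.Helper24.FFExt
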