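import Groth.Agent.Lib.Helper24.FFExt.ConstExt
import Mathlib.LinearAlgebra.TensorProduct.RightExactness
import Mathlib.RingTheory.Polynomial.ScaleRoots
import Mathlib.RingTheory.Unramified.Field

/-! # Nonsingular places: the integral closure of `O_P` in `k' ⊗ K` (helper24) -/

set_option autoImplicit false

namespace Groth.Agent.Lib.Helper24.FFExt

open FunFld WithZero IntermediateField Polynomial Groth.Agent.Lib.Helper18.FF

open scoped TensorProduct

universe u v

variable {k k' : Type u} {K K' : Type v} [Field k] [Field k'] [Field K] [Field K']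
  [Algebra k k'] [Algebra k K] [Algebra K K'] [Algebra k' K'] [Algebra k K']
  [IsScalarTower k k' K'] [IsScalarTower k K K']

/-- The natural map `k' ⊗[k] O_P → K'`. -/
noncomputable def tensorO (P : Place k K) : k' ⊗[k] P.O →ₐ[k'] K' :=
  Algebra.TensorProduct.productLeftAlgHom (Algebra.ofId k' K')
    ((IsScalarTower.toAlgHom k K K').comp (valAlgHom P))

theorem tensorO_tmul (P : Place k K) (a : k') (c : P.O) :
    tensorO (K' := K') P (a ⊗ₜ c) = algebraMap k' K' a * algebraMap K K' c.1 := by
  simp [tensorO, valAlgHom]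

theorem tensorO_injective
    (h : Function.Bijective (Algebra.TensorProduct.productMap
      (IsScalarTower.toAlgHom k k' K') (IsScalarTower.toAlgHom k K K'))) (P : Place k K) :
    Function.Injective (tensorO (k' := k') (K' := K') P) := by
  have h1 : Function.Injective (Algebra.TensorProduct.map (AlgHom.id k k') (valAlgHom P)) :=
    Module.Flat.lTensor_preserves_injective_linearMap (M := k') (valAlgHom P).toLinearMap
      Subtype.val_injective
  have h2 : ∀ x, tensorO P x =
      tensorEquiv h (Algebra.TensorProduct.map (AlgHom.id k k') (valAlgHom P) x) := by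
    intro x
    induction x using TensorProduct.induction_on with
    | zero => simp
    | tmul a c =>
      rw [tensorO_tmul, Algebra.TensorProduct.map_tmul, tensorEquiv_tmul]
      rfl
    | add x y hx hy => rw [map_add, map_add, map_add, hx, hy]
  intro x y hxy
  rw [h2, h2] at hxy
  exact h1 ((tensorEquiv h).injective hxy)

theorem uniformizer_le_one {P : Place k K} {t : K} (ht : P.1 t = exp (-1 : ℤ)) : P.1 t ≤ 1 := by
  rw [ht, ← exp_zero, exp_le_exp]; norm_num

theorem uniformizer_ne_zero' {P : Place k K} {t : K} (ht : P.1 t = exp (-1 : ℤ)) : t ≠ 0 := by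
  rintro rfl
  rw [map_zero] at ht
  exact WithZero.exp_ne_zero ht.symm

theorem tensorO_one_tmul_pow (P : Place k K) {t : K} (ht : P.1 t ≤ 1) (j : ℕ) :
    tensorO (k' := k') (K' := K') P ((1 : k') ⊗ₜ (⟨t, ht⟩ : P.O) ^ j) =
      algebraMap K K' (t ^ j) := by
  rw [map_pow, tensorO_tmul, map_one, one_mul, map_pow]

/-- Every element of `K'` becomes an element of `k' ⊗ O_P` after multiplication by a power of a
uniformizer. -/
theorem exists_pow_mul_eq_tensorO
    (h : Function.Bijective (Algebra.TensorProduct.productMap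
      (IsScalarTower.toAlgHom k k' K') (IsScalarTower.toAlgHom k K K')))
    {P : Place k K} {t : K} (ht : P.1 t = exp (-1 : ℤ)) (z : K') :
    ∃ (m : ℕ) (x : k' ⊗[k] P.O), algebraMap K K' (t ^ m) * z = tensorO P x := by
  have htle := uniformizer_le_one ht
  obtain ⟨w, rfl⟩ := h.2 z
  induction w using TensorProduct.induction_on with
  | zero => exact ⟨0, 0, by simp⟩
  | tmul a c =>
    obtain ⟨m, hm⟩ := zm0_exists_nat_lt_exp (P.1 c)
    have hc : P.1 (t ^ m * c) ≤ 1 := by
      rw [map_mul, map_pow, ht, ← exp_nsmul]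
      calc exp (m • (-1 : ℤ)) * P.1 c ≤ exp (m • (-1 : ℤ)) * exp (m : ℤ) :=
            mul_le_mul_right hm.le _
        _ = 1 := by rw [← exp_add, ← exp_zero]; congr 1; simp
    refine ⟨m, a ⊗ₜ ⟨t ^ m * c, hc⟩, ?_⟩
    rw [tensorO_tmul, Algebra.TensorProduct.productMap_apply_tmul]
    simp only [IsScalarTower.coe_toAlgHom', map_mul]
    ring
  | add w₁ w₂ h₁ h₂ =>
    obtain ⟨m₁, x₁, hx₁⟩ := h₁
    obtain ⟨m₂, x₂, hx₂⟩ := h₂
    refine ⟨m₁ + m₂, ((1 : k') ⊗ₜ (⟨t, htle⟩ : P.O) ^ m₂) * x₁ +
      ((1 : k') ⊗ₜ (⟨t, htle⟩ : P.O) ^ m₁) * x₂, ?_⟩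
    rw [map_add, map_add, map_mul, map_mul, tensorO_one_tmul_pow, tensorO_one_tmul_pow,
      ← hx₁, ← hx₂, pow_add, map_mul]
    ring

theorem maximalIdeal_eq_span {P : Place k K} {t : K} (ht : P.1 t = exp (-1 : ℤ)) :
    IsLocalRing.maximalIdeal P.O = Ideal.span {(⟨t, uniformizer_le_one ht⟩ : P.O)} := by
  have ht0 := uniformizer_ne_zero' ht
  ext c
  rw [Ideal.mem_span_singleton']
  constructor
  · intro hc
    have hlt : P.1 c.1 < 1 := (Valuation.mem_maximalIdeal_iff (v := P.1)).mp hc
    have hle : P.1 c.1 ≤ exp (-1 : ℤ) := (zm0_lt_one_iff _).mp hlt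
    have hdiv : P.1 (c.1 / t) ≤ 1 := by
      rw [map_div₀, ht]
      exact div_le_one_of_le₀ hle zero_le'
    refine ⟨⟨c.1 / t, hdiv⟩, Subtype.ext ?_⟩
    show c.1 / t * t = c.1
    field_simp
  · rintro ⟨a, rfl⟩
    refine (Valuation.mem_maximalIdeal_iff (v := P.1)).mpr ?_
    show P.1 (a.1 * t) < 1
    rw [map_mul, ht]
    calc P.1 a.1 * exp (-1 : ℤ) ≤ 1 * exp (-1 : ℤ) := mul_le_mul_left a.2 _
      _ < 1 := by rw [one_mul]; exact exp_neg_one_lt_one

/-- Reducedness of `k' ⊗ F_P`: an element of `k' ⊗ O_P` with a power divisible by the uniformizer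
is divisible by the uniformizer. -/
theorem eq_mul_of_pow_eq_mul {P : Place k K}
    [IsReduced (k' ⊗[k] (P.O ⧸ IsLocalRing.maximalIdeal P.O))] {t : K} (ht : P.1 t = exp (-1 : ℤ))
    {x y : k' ⊗[k] P.O} {d : ℕ}
    (hd : x ^ d = ((1 : k') ⊗ₜ (⟨t, uniformizer_le_one ht⟩ : P.O)) * y) :
    ∃ x' : k' ⊗[k] P.O, x = ((1 : k') ⊗ₜ (⟨t, uniformizer_le_one ht⟩ : P.O)) * x' := by
  set g : P.O →ₐ[k] (P.O ⧸ IsLocalRing.maximalIdeal P.O) :=
    Ideal.Quotient.mkₐ k (IsLocalRing.maximalIdeal P.O) with hg
  set π := Algebra.TensorProduct.map (AlgHom.id k k') g with hπ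
  have hsurj : Function.Surjective g := Ideal.Quotient.mkₐ_surjective k _
  have hker := Algebra.TensorProduct.lTensor_ker (A := k') g hsurj
  have hkerg : RingHom.ker g = Ideal.span {(⟨t, uniformizer_le_one ht⟩ : P.O)} := by
    rw [hg, ← maximalIdeal_eq_span ht]
    ext c
    rw [RingHom.mem_ker]
    exact Ideal.Quotient.eq_zero_iff_mem
  have hπt : π ((1 : k') ⊗ₜ (⟨t, uniformizer_le_one ht⟩ : P.O)) = 0 := by
    rw [hπ, Algebra.TensorProduct.map_tmul]
    have : g (⟨t, uniformizer_le_one ht⟩ : P.O) = 0 := by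
      have hmem : (⟨t, uniformizer_le_one ht⟩ : P.O) ∈ RingHom.ker g := by
        rw [hkerg]; exact Ideal.subset_span rfl
      exact hmem
    rw [this, TensorProduct.tmul_zero]
  have hnil : IsNilpotent (π x) := ⟨d, by rw [← map_pow, hd, map_mul, hπt, zero_mul]⟩
  have hzero : π x = 0 := hnil.eq_zero
  have hmem : x ∈ RingHom.ker π := hzero
  rw [hπ, hker, hkerg, Ideal.map_span, Set.image_singleton,
    Ideal.mem_span_singleton'] at hmem
  obtain ⟨a, ha⟩ := hmem
  exact ⟨a, by rw [← ha, mul_comm]; rfl⟩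

theorem algebraMap_O_eq (P : Place k K) [Algebra P.O K'] [IsScalarTower P.O K K'] (c : P.O) :
    algebraMap P.O K' c = tensorO (k' := k') P ((1 : k') ⊗ₜ c) := by
  rw [tensorO_tmul, map_one, one_mul, IsScalarTower.algebraMap_apply P.O K K']
  rfl

theorem exists_pow_eq_mul_of_root {P : Place k K} [Algebra P.O K'] [IsScalarTower P.O K K']
    (h : Function.Bijective (Algebra.TensorProduct.productMap
      (IsScalarTower.toAlgHom k k' K') (IsScalarTower.toAlgHom k K K')))
    (t₀ : P.O) {q : P.O[X]} (hq : q.Monic) (hdiv : ∀ i < q.natDegree, t₀ ∣ q.coeff i)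
    {x : k' ⊗[k] P.O} (hroot : aeval (tensorO (K' := K') P x) q = 0) :
    ∃ y : k' ⊗[k] P.O, x ^ q.natDegree = ((1 : k') ⊗ₜ t₀) * y := by
  classical
  choose! b hb using hdiv
  refine ⟨-∑ i ∈ Finset.range q.natDegree, ((1 : k') ⊗ₜ b i) * x ^ i, ?_⟩
  apply tensorO_injective h P
  rw [aeval_eq_sum_range, Finset.sum_range_succ, hq.coeff_natDegree, one_smul] at hroot
  have h1 : (tensorO (K' := K') P x) ^ q.natDegree =
      -∑ i ∈ Finset.range q.natDegree, q.coeff i • (tensorO (K' := K') P x) ^ i :=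
    eq_neg_of_add_eq_zero_right hroot
  rw [map_pow, h1, map_mul, map_neg, map_sum, mul_neg, Finset.mul_sum]
  congr 1
  refine Finset.sum_congr rfl fun i hi => ?_
  rw [map_mul, map_pow, Algebra.smul_def, algebraMap_O_eq (k' := k'),
    hb i (Finset.mem_range.mp hi), ← mul_assoc, ← map_mul]
  congr 2
  rw [Algebra.TensorProduct.tmul_mul_tmul, one_mul]

/-- **If `k' ⊗ F_P` is reduced, every element of `K'` integral over `O_P` lies in `k' ⊗ O_P`.** -/
theorem exists_tensorO_eq_of_isIntegral {P : Place k K}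
    [IsReduced (k' ⊗[k] (P.O ⧸ IsLocalRing.maximalIdeal P.O))]
    [Algebra P.O K'] [IsScalarTower P.O K K']
    (h : Function.Bijective (Algebra.TensorProduct.productMap
      (IsScalarTower.toAlgHom k k' K') (IsScalarTower.toAlgHom k K K')))
    {z : K'} (hz : IsIntegral P.O z) : ∃ x : k' ⊗[k] P.O, tensorO P x = z := by
  obtain ⟨t, ht⟩ := exists_uniformizer P
  have ht0 := uniformizer_ne_zero' ht
  obtain ⟨m, x, hx⟩ := exists_pow_mul_eq_tensorO h ht z
  induction m generalizing x with
  | zero => exact ⟨x, by rw [← hx, pow_zero, map_one, one_mul]⟩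
  | succ m ih =>
    obtain ⟨p, hp, hpz⟩ := hz
    set t₀ : P.O := ⟨t, uniformizer_le_one ht⟩ with ht₀
    set s : P.O := t₀ ^ (m + 1) with hs
    have hq : (scaleRoots p s).Monic := (monic_scaleRoots_iff s).mpr hp
    have hroot : aeval (algebraMap P.O K' s * z) (scaleRoots p s) = 0 :=
      scaleRoots_aeval_eq_zero hpz
    have hsz : algebraMap P.O K' s * z = tensorO P x := by
      rw [← hx, algebraMap_O_eq (k' := k'), hs, tensorO_tmul, map_one, one_mul]
      rfl
    rw [hsz] at hroot
    have hdiv : ∀ i < (scaleRoots p s).natDegree, t₀ ∣ (scaleRoots p s).coeff i := by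
      intro i hi
      rw [natDegree_scaleRoots] at hi
      rw [coeff_scaleRoots]
      refine Dvd.dvd.mul_left ?_ _
      have h1 : t₀ ∣ s := dvd_pow_self t₀ (Nat.succ_ne_zero m)
      exact h1.trans (dvd_pow_self s (by omega))
    obtain ⟨y, hy⟩ := exists_pow_eq_mul_of_root h t₀ hq hdiv hroot
    obtain ⟨x', hx'⟩ := eq_mul_of_pow_eq_mul ht hy
    apply ih x'
    have h2 : algebraMap K K' t * (algebraMap K K' (t ^ m) * z) =
        algebraMap K K' t * tensorO P x' := by
      rw [← mul_assoc, ← map_mul, ← pow_succ', hx, hx', map_mul, tensorO_tmul, map_one, one_mul]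
    exact mul_left_cancel₀ ((_root_.map_ne_zero _).mpr ht0) h2

theorem tensorO_mem_adjoin (P : Place k K) [Algebra P.O K'] [IsScalarTower P.O K K']
    (x : k' ⊗[k] P.O) :
    tensorO (K' := K') P x ∈ Algebra.adjoin P.O (Set.range (algebraMap k' K')) := by
  induction x using TensorProduct.induction_on with
  | zero => rw [map_zero]; exact Subalgebra.zero_mem _
  | tmul a c =>
    rw [tensorO_tmul]
    refine Subalgebra.mul_mem _ (Algebra.subset_adjoin ⟨a, rfl⟩) ?_
    have : algebraMap K K' c.1 = algebraMap P.O K' c := by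
      rw [IsScalarTower.algebraMap_apply P.O K K']; rfl
    rw [this]
    exact Subalgebra.algebraMap_mem _ c
  | add x y hx hy => rw [map_add]; exact Subalgebra.add_mem _ hx hy

theorem adjoin_le_integralClosure (P : Place k K) [Algebra P.O K'] [IsScalarTower P.O K K']
    [FiniteDimensional k k'] :
    Algebra.adjoin P.O (Set.range (algebraMap k' K')) ≤ integralClosure P.O K' := by
  refine Algebra.adjoin_le ?_
  rintro _ ⟨a, rfl⟩
  show IsIntegral P.O (algebraMap k' K' a)
  have h1 : IsIntegral k a := Algebra.IsIntegral.isIntegral a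
  have h2 : IsIntegral k (algebraMap k' K' a) := h1.map (IsScalarTower.toAlgHom k k' K')
  haveI : IsScalarTower k P.O K' := IsScalarTower.of_algebraMap_eq fun c => by
    rw [IsScalarTower.algebraMap_apply P.O K K', IsScalarTower.algebraMap_apply k K K']
    rfl
  exact h2.tower_top

/-- **Nonsingularity criterion**: if `k' ⊗ F_P` is reduced then the integral closure of `O_P` in
`K' = k' ⊗ K` is `O_P[k']`. -/
theorem integralClosure_eq_adjoin_of_isReduced {P : Place k K}
    [IsReduced (k' ⊗[k] (P.O ⧸ IsLocalRing.maximalIdeal P.O))]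
    [Algebra P.O K'] [IsScalarTower P.O K K'] [FiniteDimensional k k']
    (h : Function.Bijective (Algebra.TensorProduct.productMap
      (IsScalarTower.toAlgHom k k' K') (IsScalarTower.toAlgHom k K K'))) :
    (integralClosure P.O K').toSubring =
      (Algebra.adjoin P.O (Set.range (algebraMap k' K'))).toSubring := by
  ext z
  simp only [Subalgebra.mem_toSubring]
  constructor
  · intro hz
    obtain ⟨x, rfl⟩ := exists_tensorO_eq_of_isIntegral h hz
    exact tensorO_mem_adjoin P x
  · intro hz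
    exact adjoin_le_integralClosure P hz

theorem finiteDimensional_quotient (hK : IsFunctionField k K) (P : Place k K) :
    FiniteDimensional k (P.O ⧸ IsLocalRing.maximalIdeal P.O) := by
  have h := deg_pos hK P
  exact Module.finite_of_finrank_pos h

theorem isSeparable_quotient (P : Place k K) [Algebra.IsSeparable k (IsLocalRing.ResidueField P.O)] :
    Algebra.IsSeparable k (P.O ⧸ IsLocalRing.maximalIdeal P.O) :=
  Algebra.IsSeparable.of_equiv_equiv (RingEquiv.refl k)
    (RingEquiv.refl (IsLocalRing.ResidueField P.O)) (by ext; rfl)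

theorem isReduced_of_isSeparable_residue (hK : IsFunctionField k K) (P : Place k K)
    [Algebra.IsSeparable k (IsLocalRing.ResidueField P.O)] :
    IsReduced (k' ⊗[k] (P.O ⧸ IsLocalRing.maximalIdeal P.O)) := by
  haveI := finiteDimensional_quotient hK P
  haveI := isSeparable_quotient P
  letI : Field (P.O ⧸ IsLocalRing.maximalIdeal P.O) := Ideal.Quotient.field _
  haveI : Algebra.FormallyUnramified k (P.O ⧸ IsLocalRing.maximalIdeal P.O) :=
    Algebra.FormallyUnramified.of_isSeparable k _
  exact Algebra.FormallyUnramified.isReduced_of_field k' (k' ⊗[k] (P.O ⧸ IsLocalRing.maximalIdeal P.O))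

theorem isReduced_of_isSeparable_const (hK : IsFunctionField k K) (P : Place k K)
    [FiniteDimensional k k'] [Algebra.IsSeparable k k'] :
    IsReduced (k' ⊗[k] (P.O ⧸ IsLocalRing.maximalIdeal P.O)) := by
  haveI : Algebra.FormallyUnramified k k' := Algebra.FormallyUnramified.of_isSeparable k _
  letI : Field (P.O ⧸ IsLocalRing.maximalIdeal P.O) := Ideal.Quotient.field _
  haveI : IsReduced ((P.O ⧸ IsLocalRing.maximalIdeal P.O) ⊗[k] k') :=
    Algebra.FormallyUnramified.isReduced_of_field (P.O ⧸ IsLocalRing.maximalIdeal P.O) _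
  exact isReduced_of_injective
    (Algebra.TensorProduct.comm k k' (P.O ⧸ IsLocalRing.maximalIdeal P.O)).toRingEquiv.toRingHom
    (Algebra.TensorProduct.comm k k' (P.O ⧸ IsLocalRing.maximalIdeal P.O)).injective

end Groth.Agent.Lib.Helper24.FFExt
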