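import Groth.Agent.Lib.Helper24.FFExt.IntBasis
import Groth.Agent.Lib.Helper24.FFExt.Nonsing

/-! # The conductor of `O_P[k']` in the integral closure (helper24) -/

set_option autoImplicit false

namespace Groth.Agent.Lib.Helper24.FFExt

open FunFld WithZero IntermediateField Polynomial Groth.Agent.Lib.Helper18.FF

open scoped TensorProduct

section Local

variable {k K : Type*} [Field k] [Field K] [Algebra k K]

/-- A finite-dimensional space of representatives of `O_P` modulo the maximal ideal. -/
theorem exists_repr_mod_maximal (hK : IsFunctionField k K) (P : Place k K) :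
    ∃ W : Submodule k K, FiniteDimensional k W ∧ ∀ a : K, P.1 a ≤ 1 → ∃ w ∈ W, P.1 (a - w) < 1 := by
  classical
  haveI hfd := finiteDimensional_residueField hK P
  let B := Module.finBasis k (IsLocalRing.ResidueField P.O)
  choose c hc using fun i => IsLocalRing.residue_surjective (B i)
  refine ⟨Submodule.span k (Set.range fun i => (c i : K)),
    FiniteDimensional.span_of_finite k (Set.finite_range _), ?_⟩
  intro a ha
  set abar := IsLocalRing.residue P.O ⟨a, ha⟩ with habar
  set w' : P.O := ∑ i, algebraMap k P.O (B.repr abar i) * c i with hw'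
  refine ⟨(w' : K), ?_, ?_⟩
  · rw [hw', AddSubmonoidClass.coe_finsetSum]
    refine Submodule.sum_mem _ fun i _ => ?_
    have : ((algebraMap k P.O (B.repr abar i) * c i : P.O) : K) = (B.repr abar i) • (c i : K) := by
      rw [Algebra.smul_def]; rfl
    rw [this]
    exact Submodule.smul_mem _ _ (Submodule.subset_span ⟨i, rfl⟩)
  · have h1 : IsLocalRing.residue P.O (⟨a, ha⟩ - w') = 0 := by
      rw [map_sub, hw', map_sum, sub_eq_zero]
      conv_lhs => rw [← habar, ← B.sum_repr abar]
      refine Finset.sum_congr rfl fun i _ => ?_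
      rw [map_mul, hc i]
      exact Algebra.smul_def _ _
    rw [IsLocalRing.residue_eq_zero_iff] at h1
    exact (Valuation.mem_maximalIdeal_iff (v := P.1)).mp h1

/-- A finite-dimensional space of representatives of `O_P` modulo `𝔪_P ^ M`. -/
theorem exists_repr_mod_pow (hK : IsFunctionField k K) (P : Place k K) (M : ℕ) :
    ∃ W : Submodule k K, FiniteDimensional k W ∧
      ∀ a : K, P.1 a ≤ 1 → ∃ w ∈ W, P.1 (a - w) ≤ exp (-(M : ℤ)) := by
  obtain ⟨W₀, hW₀fin, hW₀⟩ := exists_repr_mod_maximal hK P
  obtain ⟨π, hπ⟩ := exists_uniformizer P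
  have hπ0 : π ≠ 0 := by
    intro h; rw [h, map_zero] at hπ; exact absurd hπ.symm exp_ne_zero
  induction M with
  | zero =>
    refine ⟨⊥, inferInstance, fun a ha => ⟨0, Submodule.zero_mem _, ?_⟩⟩
    rw [sub_zero]; simpa using ha
  | succ M ih =>
    obtain ⟨W, hWfin, hW⟩ := ih
    haveI := hWfin
    haveI := hW₀fin
    refine ⟨W ⊔ W₀.map (LinearMap.mulLeft k (π ^ M)), inferInstance, ?_⟩
    intro a ha
    obtain ⟨w, hw, hwa⟩ := hW a ha
    have hπM : P.1 (π ^ M) = exp (-(M : ℤ)) := by
      rw [map_pow, hπ, ← exp_nsmul]; congr 1; simp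
    have hπM0 : π ^ M ≠ 0 := pow_ne_zero _ hπ0
    have h1 : P.1 ((a - w) / π ^ M) ≤ 1 := by
      rw [map_div₀, hπM]
      exact div_le_one_of_le₀ hwa zero_le'
    obtain ⟨w₀, hw₀, hw₀a⟩ := hW₀ _ h1
    refine ⟨w + π ^ M * w₀, Submodule.add_mem _ (Submodule.mem_sup_left hw)
      (Submodule.mem_sup_right ⟨w₀, hw₀, rfl⟩), ?_⟩
    have h2 : a - (w + π ^ M * w₀) = π ^ M * ((a - w) / π ^ M - w₀) := by
      field_simp
      ring
    rw [h2, map_mul, hπM]
    have h3 : P.1 ((a - w) / π ^ M - w₀) ≤ exp (-1 : ℤ) := (zm0_lt_one_iff _).mp hw₀a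
    calc exp (-(M : ℤ)) * P.1 ((a - w) / π ^ M - w₀) ≤ exp (-(M : ℤ)) * exp (-1 : ℤ) :=
          mul_le_mul' le_rfl h3
      _ = exp (-((M + 1 : ℕ) : ℤ)) := by rw [← exp_add]; congr 1; push_cast; ring

end Local

section Main

universe u v

variable {k k' : Type u} {K K' : Type v} [Field k] [Field k'] [Field K] [Field K']
  [Algebra k k'] [Algebra k K] [Algebra K K'] [Algebra k' K'] [Algebra k K']
  [IsScalarTower k k' K'] [IsScalarTower k K K']

/-- Every element of `K' = k' ⊗ K` has a nonzero multiple by an element of `O_P` inside `O_P[k']`. -/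
theorem exists_mul_mem_adjoin
    (h : Function.Bijective (Algebra.TensorProduct.productMap
      (IsScalarTower.toAlgHom k k' K') (IsScalarTower.toAlgHom k K K')))
    (P : Place k K) [Algebra P.O K'] [IsScalarTower P.O K K'] (r : K') :
    ∃ c : P.O, c ≠ 0 ∧
      algebraMap P.O K' c * r ∈ Algebra.adjoin P.O (Set.range (algebraMap k' K')) := by
  obtain ⟨w, rfl⟩ := (tensorEquiv h).surjective r
  induction w using TensorProduct.induction_on with
  | zero =>
    exact ⟨1, one_ne_zero, by rw [map_zero, mul_zero]; exact Subalgebra.zero_mem _⟩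
  | tmul a x =>
    rw [tensorEquiv_tmul]
    have ha : algebraMap k' K' a ∈ Algebra.adjoin P.O (Set.range (algebraMap k' K')) :=
      Algebra.subset_adjoin ⟨a, rfl⟩
    by_cases hx : P.1 x ≤ 1
    · refine ⟨1, one_ne_zero, ?_⟩
      rw [map_one, one_mul]
      refine Subalgebra.mul_mem _ ha ?_
      have : algebraMap K K' x = algebraMap P.O K' ⟨x, hx⟩ := by
        rw [IsScalarTower.algebraMap_apply P.O K K']; rfl
      rw [this]
      exact Subalgebra.algebraMap_mem _ _
    · push Not at hx
      have hx0 : x ≠ 0 := by rintro rfl; simp at hx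
      have hinv : P.1 x⁻¹ ≤ 1 := by
        rw [map_inv₀]
        exact (inv_le_one₀ (zero_lt_iff.mpr ((Valuation.ne_zero_iff _).mpr hx0))).mpr hx.le
      refine ⟨⟨x⁻¹, hinv⟩, fun h0 => inv_ne_zero hx0 (congrArg Subtype.val h0), ?_⟩
      have : algebraMap P.O K' ⟨x⁻¹, hinv⟩ * (algebraMap k' K' a * algebraMap K K' x) =
          algebraMap k' K' a := by
        rw [IsScalarTower.algebraMap_apply P.O K K']
        show algebraMap K K' x⁻¹ * _ = _
        rw [mul_comm (algebraMap k' K' a), ← mul_assoc, ← map_mul, inv_mul_cancel₀ hx0, map_one,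
          one_mul]
      rw [this]
      exact ha
  | add x y hx hy =>
    obtain ⟨c₁, hc₁, h₁⟩ := hx
    obtain ⟨c₂, hc₂, h₂⟩ := hy
    refine ⟨c₁ * c₂, mul_ne_zero hc₁ hc₂, ?_⟩
    rw [map_add, mul_add, map_mul]
    refine Subalgebra.add_mem _ ?_ ?_
    · rw [mul_comm (algebraMap P.O K' c₁), mul_assoc]
      exact Subalgebra.mul_mem _ (Subalgebra.algebraMap_mem _ _) h₁
    · rw [mul_assoc]
      exact Subalgebra.mul_mem _ (Subalgebra.algebraMap_mem _ _) h₂

/-- **`R / O_P[k']` is finite-dimensional over `k` and `O_P[k']` contains a nonzero ideal of the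
integral closure `R` of `O_P` in `K' = k' ⊗ K`.** -/
theorem conductor_main [FiniteDimensional k k']
    (h : Function.Bijective (Algebra.TensorProduct.productMap
      (IsScalarTower.toAlgHom k k' K') (IsScalarTower.toAlgHom k K K')))
    (hK : IsFunctionField k K) (P : Place k K) [Algebra P.O K'] [IsScalarTower P.O K K'] :
    (∃ V : Submodule k K', FiniteDimensional k V ∧ ∀ r ∈ integralClosure P.O K',
        ∃ s ∈ Algebra.adjoin P.O (Set.range (algebraMap k' K')), r - s ∈ V) ∧
    (∃ c ∈ integralClosure P.O K', c ≠ 0 ∧ ∀ r ∈ integralClosure P.O K',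
        c * r ∈ Algebra.adjoin P.O (Set.range (algebraMap k' K'))) := by
  classical
  haveI := finiteDimensional_of_tensor h
  haveI hfin := integralClosure_finite (K' := K') hK P
  have hfg : (Subalgebra.toSubmodule (integralClosure P.O K')).FG := Module.Finite.iff_fg.mp hfin
  obtain ⟨G, hG⟩ := hfg
  choose cf hcf0 hcf using exists_mul_mem_adjoin h P
  set c : P.O := ∏ g ∈ G, cf g with hc
  have hc0 : c ≠ 0 := Finset.prod_ne_zero_iff.mpr fun g _ => hcf0 g
  have hcR : ∀ r ∈ integralClosure P.O K',
      algebraMap P.O K' c * r ∈ Algebra.adjoin P.O (Set.range (algebraMap k' K')) := by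
    intro r hr
    have hr' : r ∈ Submodule.span P.O (G : Set K') := by rw [hG]; exact hr
    induction hr' using Submodule.span_induction with
    | mem g hg =>
      have hg' : g ∈ G := hg
      rw [hc, ← Finset.mul_prod_erase G cf hg', map_mul, mul_comm (algebraMap P.O K' (cf g)),
        mul_assoc]
      exact Subalgebra.mul_mem _ (Subalgebra.algebraMap_mem _ _) (hcf g)
    | zero => rw [mul_zero]; exact Subalgebra.zero_mem _
    | add x y _ _ hx hy =>
      rw [mul_add]
      exact Subalgebra.add_mem _ (hx (by rw [← Subalgebra.mem_toSubmodule, ← hG]; assumption))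
        (hy (by rw [← Subalgebra.mem_toSubmodule, ← hG]; assumption))
    | smul a x _ hx =>
      rw [Algebra.smul_def, mul_left_comm]
      exact Subalgebra.mul_mem _ (Subalgebra.algebraMap_mem _ _)
        (hx (by rw [← Subalgebra.mem_toSubmodule, ← hG]; assumption))
  have hcK0 : (c : K) ≠ 0 := fun h0 => hc0 (Subtype.ext h0)
  have hcK' : algebraMap P.O K' c = algebraMap K K' (c : K) := by
    rw [IsScalarTower.algebraMap_apply P.O K K']; rfl
  refine ⟨?_, algebraMap P.O K' c, Subalgebra.algebraMap_mem _ _, ?_, hcR⟩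
  · obtain ⟨M, hM⟩ := exists_exp_neg_natCast_lt ((Valuation.ne_zero_iff P.1).mpr hcK0)
    obtain ⟨W, hWfin, hW⟩ := exists_repr_mod_pow hK P M
    haveI := hWfin
    let φ : K' → K →ₗ[k] K' := fun g =>
      (LinearMap.mulRight k g).comp (IsScalarTower.toAlgHom k K K').toLinearMap
    refine ⟨G.sup fun g => W.map (φ g), inferInstance, ?_⟩
    intro r hr
    have hr' : r ∈ Submodule.span P.O (G : Set K') := by rw [hG]; exact hr
    obtain ⟨f, -, hfr⟩ := Submodule.mem_span_finset.mp hr'
    choose w hwW hwa using fun g => hW (f g : K) (f g).2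
    have hb : ∀ g, P.1 (((f g : K) - w g) / (c : K)) ≤ 1 := by
      intro g
      rw [map_div₀]
      exact div_le_one_of_le₀ ((hwa g).trans hM.le) zero_le'
    refine ⟨algebraMap P.O K' c * ∑ g ∈ G, (⟨_, hb g⟩ : P.O) • g, hcR _ ?_, ?_⟩
    · rw [← Subalgebra.mem_toSubmodule, ← hG]
      exact Submodule.sum_mem _ fun g hg => Submodule.smul_mem _ _ (Submodule.subset_span hg)
    · have h1 : r - algebraMap P.O K' c * ∑ g ∈ G, (⟨_, hb g⟩ : P.O) • g =
          ∑ g ∈ G, φ g (w g) := by
        rw [← hfr, Finset.mul_sum, ← Finset.sum_sub_distrib]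
        refine Finset.sum_congr rfl fun g _ => ?_
        rw [Algebra.smul_def, Algebra.smul_def, IsScalarTower.algebraMap_apply P.O K K',
          IsScalarTower.algebraMap_apply P.O K K' (⟨_, hb g⟩ : P.O), hcK']
        show algebraMap K K' (f g : K) * g -
          algebraMap K K' (c : K) * (algebraMap K K' (((f g : K) - w g) / (c : K)) * g) =
          algebraMap K K' (w g) * g
        rw [← mul_assoc, ← map_mul, mul_div_cancel₀ _ hcK0, map_sub]
        ring
      rw [h1]
      refine Submodule.sum_mem _ fun g hg => ?_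
      exact (Finset.le_sup (f := fun g => W.map (φ g)) hg) ⟨w g, hwW g, rfl⟩
  · rw [hcK']
    exact (_root_.map_ne_zero _).mpr hcK0

end Main

end Groth.Agent.Lib.Helper24.FFExt
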