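import Groth.Agent.Lib.Helper24.FFExt.Under
import Groth.Agent.Lib.Helper18.FF.Degree3
import Mathlib.FieldTheory.AlgebraicClosure
import Mathlib.LinearAlgebra.Dimension.Free

/-! # The exact constant field of a weak function field (helper24)

`K'/k` with `K'` finite over `k(x)` but `k` not necessarily algebraically closed in `K'`: pass to
`kc = algebraicClosure k K'`, over which `K'` is a function field of one variable in the Prelude sense. -/

set_option autoImplicit false

namespace Groth.Agent.Lib.Helper24.FFExt

open FunFld WithZero IntermediateField Groth.Agent.Lib.Helper18.FF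

variable {k K' : Type*} [Field k] [Field K'] [Algebra k K']

theorem finiteDimensional_adjoin_kc {x : K'}
    (hfin : FiniteDimensional (IntermediateField.adjoin k ({x} : Set K')) K') :
    FiniteDimensional (IntermediateField.adjoin (algebraicClosure k K') ({x} : Set K')) K' := by
  set F := IntermediateField.adjoin k ({x} : Set K') with hF
  set F' := IntermediateField.adjoin (algebraicClosure k K') ({x} : Set K') with hF'
  have hFF' : ∀ a : K', a ∈ F → a ∈ F' := by
    intro a ha
    have hle : F ≤ F'.restrictScalars k := by
      rw [hF, IntermediateField.adjoin_le_iff]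
      rintro _ rfl
      exact IntermediateField.subset_adjoin _ _ rfl
    exact hle ha
  obtain ⟨s, hs⟩ := (Module.finite_def.mp hfin : (⊤ : Submodule F K').FG)
  refine Module.finite_def.mpr ⟨s, ?_⟩
  rw [eq_top_iff]
  intro z _
  have hz : z ∈ Submodule.span F (s : Set K') := by rw [hs]; trivial
  refine Submodule.span_induction (p := fun z _ => z ∈ Submodule.span F' (s : Set K')) ?_ ?_ ?_ ?_ hz
  · exact fun y hy => Submodule.subset_span hy
  · exact Submodule.zero_mem _
  · exact fun a b _ _ ha hb => Submodule.add_mem _ ha hb
  · intro c y _ hy
    have : c • y = (⟨c.1, hFF' c.1 c.2⟩ : F') • y := rfl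
    rw [this]
    exact Submodule.smul_mem _ _ hy

/-- A weak function field is a function field over its exact constant field. -/
theorem isFunctionField_kc {x : K'} (hx : Transcendental k x)
    (hfin : FiniteDimensional (IntermediateField.adjoin k ({x} : Set K')) K') :
    IsFunctionField (algebraicClosure k K') K' := by
  refine ⟨⟨x, fun halg => hx (halg.restrictScalars k), finiteDimensional_adjoin_kc hfin⟩, ?_⟩
  intro y hy
  have : IsAlgebraic k y := hy.restrictScalars k
  exact ⟨⟨y, mem_algebraicClosure_iff.mpr this⟩, rfl⟩

/-- A place over `k` is a place over the exact constant field. -/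
def toKc (Q : Place k K') : Place (algebraicClosure k K') K' :=
  ⟨Q.1, fun c => val_le_one_of_isIntegral (K := k) Q.1 Q.2.1
    (mem_algebraicClosure_iff'.mp c.2), Q.2.2⟩

/-- A place over the exact constant field is a place over `k`. -/
def ofKc (Q : Place (algebraicClosure k K') K') : Place k K' :=
  ⟨Q.1, fun c => Q.2.1 (algebraMap k (algebraicClosure k K') c), Q.2.2⟩

@[simp] theorem toKc_val (Q : Place k K') : (toKc Q).1 = Q.1 := rfl
@[simp] theorem ofKc_val (Q : Place (algebraicClosure k K') K') : (ofKc Q).1 = Q.1 := rfl
@[simp] theorem toKc_ofKc (Q : Place (algebraicClosure k K') K') : toKc (ofKc Q) = Q := rfl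
@[simp] theorem ofKc_toKc (Q : Place k K') : ofKc (toKc Q) = Q := rfl
theorem toKc_ord (Q : Place k K') (x : K') : (toKc Q).ord x = Q.ord x := rfl

theorem toKc_injective : Function.Injective (toKc : Place k K' → _) :=
  Function.LeftInverse.injective ofKc_toKc

theorem toKc_surjective : Function.Surjective (toKc : Place k K' → _) :=
  Function.RightInverse.surjective toKc_ofKc

/-- Degrees over `k` and over the exact constant field. -/
theorem deg_eq_mul_deg_toKc (Q : Place k K') :
    Q.deg = Module.finrank k (algebraicClosure k K') * (toKc Q).deg := by
  unfold Place.deg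
  letI i2 : Algebra (algebraicClosure k K') Q.O := Place.algO (toKc Q)
  haveI : IsScalarTower k (algebraicClosure k K') Q.O :=
    IsScalarTower.of_algebraMap_eq fun c => rfl
  exact (Module.finrank_mul_finrank k (algebraicClosure k K')
    (IsLocalRing.ResidueField Q.O)).symm

end Groth.Agent.Lib.Helper24.FFExt
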