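import Groth.Agent.Lib.Helper24.FFExt.Under
import Groth.Agent.Lib.Helper24.FFExt.ConstExt
import Groth.Agent.Lib.Helper18.FF.RatPlaces2
import Mathlib.FieldTheory.Finite.Basic
import Mathlib.FieldTheory.IsAlgClosed.Basic
import Mathlib.FieldTheory.IsAlgClosed.AlgebraicClosure

/-! # Frobenius-fixed places of the constant field extension to the algebraic closure (helper24) -/

set_option autoImplicit false

namespace Groth.Agent.Lib.Helper24.FFExt

open FunFld WithZero Groth.Agent.Lib.Helper18.FF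

section DegOne

variable {k K : Type*} [Field k] [Field K] [Algebra k K]

/-- A place at which every integral element is congruent to a constant has degree one. -/
theorem deg_eq_one_of_forall_exists_const (P : Place k K)
    (h : ∀ x : K, P.1 x ≤ 1 → ∃ a : k, P.1 (x - algebraMap k K a) < 1) : P.deg = 1 := by
  unfold Place.deg
  rw [finrank_eq_one_iff_of_nonzero' (1 : IsLocalRing.ResidueField P.O) one_ne_zero]
  intro w
  obtain ⟨x, hx, rfl⟩ := res_surjective P w
  obtain ⟨a, ha⟩ := h x hx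
  refine ⟨a, ?_⟩
  have h1 : P.1 (algebraMap k K a) ≤ 1 := P.2.1 a
  have hsub : P.1 (x - algebraMap k K a) ≤ 1 := ha.le
  have h0 : res P (x - algebraMap k K a) hsub = 0 := (res_eq_zero_iff P _ hsub).mpr ha
  have e : (⟨x - algebraMap k K a, hsub⟩ : P.O) = ⟨x, hx⟩ - ⟨algebraMap k K a, h1⟩ := rfl
  rw [res, e, map_sub, sub_eq_zero] at h0
  rw [res, h0]
  exact (Algebra.algebraMap_eq_smul_one (A := IsLocalRing.ResidueField P.O) a).symm

theorem exists_lt_one_of_prod_lt_one {R Γ : Type*} [CommRing R] [LinearOrderedCommGroupWithZero Γ]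
    (v : Valuation R Γ) (m : Multiset R) (h : v m.prod < 1) : ∃ a ∈ m, v a < 1 := by
  induction m using Multiset.induction_on with
  | empty => simp at h
  | cons a m ih =>
    rw [Multiset.prod_cons, map_mul] at h
    by_cases ha : v a < 1
    · exact ⟨a, Multiset.mem_cons_self a m, ha⟩
    · push Not at ha
      have hm : v m.prod < 1 := by
        by_contra hm
        push Not at hm
        exact absurd h (not_lt.mpr (one_le_mul_of_one_le_of_one_le ha hm))
      obtain ⟨b, hb, hb1⟩ := ih hm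
      exact ⟨b, Multiset.mem_cons_of_mem hb, hb1⟩

/-- Every integral element at `P` satisfies a monic polynomial over `k` modulo the maximal ideal. -/
theorem exists_monic_val_aeval_lt_one (hK : IsFunctionField k K) (P : Place k K) {x : K}
    (hx : P.1 x ≤ 1) : ∃ g : Polynomial k, g.Monic ∧ P.1 (Polynomial.aeval x g) < 1 := by
  have hfd := finiteDimensional_residueField hK P
  have hint : IsIntegral k (IsLocalRing.residue P.O ⟨x, hx⟩) :=
    (@Algebra.IsIntegral.of_finite k (IsLocalRing.ResidueField P.O) _ _ _ hfd).isIntegral _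
  refine ⟨minpoly k (IsLocalRing.residue P.O ⟨x, hx⟩), minpoly.monic hint, ?_⟩
  set g := minpoly k (IsLocalRing.residue P.O ⟨x, hx⟩) with hg
  have h0 : Polynomial.aeval (IsLocalRing.residue P.O ⟨x, hx⟩) g = 0 := minpoly.aeval _ _
  have h2 := Polynomial.aeval_algHom_apply (resAlgHom P) (⟨x, hx⟩ : P.O) g
  have h3 : Polynomial.aeval x g = ((Polynomial.aeval (⟨x, hx⟩ : P.O) g : P.O) : K) :=
    Polynomial.aeval_algHom_apply (valAlgHom P) (⟨x, hx⟩ : P.O) g
  have h4 : IsLocalRing.residue P.O (Polynomial.aeval (⟨x, hx⟩ : P.O) g) = 0 := by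
    have : resAlgHom P (Polynomial.aeval (⟨x, hx⟩ : P.O) g) = 0 := by
      rw [← h2]; exact h0
    exact this
  rw [IsLocalRing.residue_eq_zero_iff] at h4
  rw [h3]
  exact (Valuation.mem_maximalIdeal_iff (v := P.1) (a := Polynomial.aeval (⟨x, hx⟩ : P.O) g)).mp h4

theorem val_pow_sub_pow_lt_one {R Γ : Type*} [CommRing R] [LinearOrderedCommGroupWithZero Γ]
    (v : Valuation R Γ) {a b : R} (ha : v a ≤ 1) (hb : v b ≤ 1) (hab : v (a - b) < 1) (n : ℕ) :
    v (a ^ n - b ^ n) < 1 := by
  induction n with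
  | zero => simp
  | succ n ih =>
    have e : a ^ (n + 1) - b ^ (n + 1) = a ^ n * (a - b) + (a ^ n - b ^ n) * b := by ring
    rw [e]
    refine lt_of_le_of_lt (v.map_add _ _) (max_lt ?_ ?_)
    · rw [map_mul, map_pow]
      calc v a ^ n * v (a - b) ≤ 1 * v (a - b) := mul_le_mul' (pow_le_one' ha n) le_rfl
        _ < 1 := by rwa [one_mul]
    · rw [map_mul]
      calc v (a ^ n - b ^ n) * v b ≤ v (a ^ n - b ^ n) * 1 := mul_le_mul' le_rfl hb
        _ < 1 := by rwa [mul_one]

open Polynomial in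
/-- In an extension of a finite field `k`, the solutions of `c ^ |k| = c` are the elements of `k`. -/
theorem mem_range_of_pow_card_eq {k kb : Type*} [Field k] [Fintype k] [Field kb] [Algebra k kb]
    {c : kb} (h : c ^ Fintype.card k = c) : c ∈ Set.range (algebraMap k kb) := by
  classical
  by_contra hc
  have hq : 1 < Fintype.card k := Fintype.one_lt_card
  set p : Polynomial kb := X ^ Fintype.card k - X with hp
  have hp0 : p ≠ 0 := FiniteField.X_pow_card_sub_X_ne_zero kb hq
  have hdeg : p.natDegree = Fintype.card k := FiniteField.X_pow_card_sub_X_natDegree_eq kb hq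
  set S : Finset kb := insert c (Finset.univ.image (algebraMap k kb)) with hSdef
  have hcS : c ∉ Finset.univ.image (algebraMap k kb) := by
    intro hmem
    obtain ⟨a, -, rfl⟩ := Finset.mem_image.mp hmem
    exact hc ⟨a, rfl⟩
  have hS : S.card = Fintype.card k + 1 := by
    rw [hSdef, Finset.card_insert_of_notMem hcS,
      Finset.card_image_of_injective _ (algebraMap k kb).injective, Finset.card_univ]
  have hsub : S ⊆ p.roots.toFinset := by
    intro y hy
    rw [Multiset.mem_toFinset, mem_roots hp0, IsRoot.def, hp, eval_sub, eval_pow, eval_X, sub_eq_zero]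
    rcases Finset.mem_insert.mp hy with rfl | hy
    · exact h
    · obtain ⟨a, -, rfl⟩ := Finset.mem_image.mp hy
      rw [← map_pow, FiniteField.pow_card]
  have h1 := Finset.card_le_card hsub
  have h2 : p.roots.toFinset.card ≤ Fintype.card k :=
    (Multiset.toFinset_card_le _).trans ((card_roots' p).trans_eq hdeg)
  omega

end DegOne

section Main

variable {k K kb Kb : Type*} [Field k] [Field K] [Algebra k K] [Field kb] [Algebra k kb]
  [Field Kb] [Algebra K Kb] [Algebra kb Kb]

theorem lt_one_iff_of_le_one_iff (Q : Place kb Kb) (P : Place k K)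
    (hP : ∀ x : K, Q.1 (algebraMap K Kb x) ≤ 1 ↔ P.1 x ≤ 1) (x : K) :
    Q.1 (algebraMap K Kb x) < 1 ↔ P.1 x < 1 := by
  rcases eq_or_ne x 0 with rfl | hx
  · simp
  · have hx' : algebraMap K Kb x ≠ 0 := (map_ne_zero _).mpr hx
    have hQ0 : 0 < Q.1 (algebraMap K Kb x) := zero_lt_iff.mpr ((Valuation.ne_zero_iff _).mpr hx')
    have hP0 : 0 < P.1 x := zero_lt_iff.mpr ((Valuation.ne_zero_iff _).mpr hx)
    have h := hP x⁻¹
    rw [map_inv₀, map_inv₀, map_inv₀, inv_le_one₀ hQ0, inv_le_one₀ hP0] at h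
    rw [← not_le, ← not_le, h]

theorem val_sum_lt_one_of (Q : Place kb Kb) (P : Place k K)
    (hP : ∀ x : K, Q.1 (algebraMap K Kb x) ≤ 1 ↔ P.1 x ≤ 1)
    {ι : Type*} (b : ι → kb) (s : Finset ι) (x : ι → K) (h : ∀ i ∈ s, P.1 (x i) < 1) :
    Q.1 (∑ i ∈ s, algebraMap K Kb (x i) * algebraMap kb Kb (b i)) < 1 := by
  refine Valuation.map_sum_lt Q.1 one_ne_zero fun i hi => ?_
  rw [map_mul]
  have h1 : Q.1 (algebraMap K Kb (x i)) < 1 := (lt_one_iff_of_le_one_iff Q P hP _).mpr (h i hi)
  calc Q.1 (algebraMap K Kb (x i)) * Q.1 (algebraMap kb Kb (b i))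
      ≤ Q.1 (algebraMap K Kb (x i)) * 1 := mul_le_mul' le_rfl (Q.2.1 _)
    _ < 1 := by rwa [mul_one]

/-- Above a place of degree one, a `K`-combination of `k`-independent constants lies in the
maximal ideal iff all its coefficients do. -/
theorem val_sum_lt_one_iff (hK : IsFunctionField k K)
    (hc : ∀ c : k, algebraMap K Kb (algebraMap k K c) = algebraMap kb Kb (algebraMap k kb c))
    (Q : Place kb Kb) (P : Place k K)
    (hP : ∀ x : K, Q.1 (algebraMap K Kb x) ≤ 1 ↔ P.1 x ≤ 1) (hdeg : P.deg = 1)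
    {ι : Type*} (b : ι → kb) (hb : LinearIndependent k b) (s : Finset ι) (x : ι → K) :
    Q.1 (∑ i ∈ s, algebraMap K Kb (x i) * algebraMap kb Kb (b i)) < 1 ↔ ∀ i ∈ s, P.1 (x i) < 1 := by
  classical
  refine ⟨fun hz => ?_, val_sum_lt_one_of Q P hP b s x⟩
  by_contra hcon
  push Not at hcon
  obtain ⟨i₀, hi₀, hi₀1⟩ := hcon
  obtain ⟨j, hj, hmax⟩ := Finset.exists_max_image s (fun i => P.1 (x i)) ⟨i₀, hi₀⟩
  have hj1 : 1 ≤ P.1 (x j) := hi₀1.trans (hmax i₀ hi₀)
  have hxj : x j ≠ 0 := by
    rintro h0; rw [h0, map_zero] at hj1; exact absurd hj1 (by simp)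
  have hPj0 : 0 < P.1 (x j) := zero_lt_iff.mpr ((Valuation.ne_zero_iff _).mpr hxj)
  have hex : ∀ i, ∃ a : k, i ∈ s → P.1 (x i / x j - algebraMap k K a) < 1 := by
    intro i
    by_cases hi : i ∈ s
    · have : P.1 (x i / x j) ≤ 1 := by
        rw [map_div₀]; exact div_le_one_of_le₀ (hmax i hi) zero_le'
      obtain ⟨a, ha⟩ := exists_const_sub_lt_one hK hdeg this
      exact ⟨a, fun _ => ha⟩
    · exact ⟨0, fun h => absurd h hi⟩
  choose a ha using hex
  have haj : a j ≠ 0 := by
    intro h0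
    have := ha j hj
    rw [h0, map_zero, sub_zero, div_self hxj, map_one] at this
    exact lt_irrefl _ this
  set c : kb := ∑ i ∈ s, a i • b i with hcdef
  have hc0 : c ≠ 0 := by
    intro h0
    exact haj (linearIndependent_iff'.mp hb s a h0 j hj)
  set w : Kb := ∑ i ∈ s, algebraMap K Kb (x i / x j - algebraMap k K (a i)) * algebraMap kb Kb (b i)
    with hw
  have hw1 : Q.1 w < 1 := val_sum_lt_one_of Q P hP b s _ (fun i hi => ha i hi)
  have hxj' : algebraMap K Kb (x j) ≠ 0 := (map_ne_zero _).mpr hxj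
  have hz_eq : ∑ i ∈ s, algebraMap K Kb (x i) * algebraMap kb Kb (b i) =
      algebraMap K Kb (x j) * (w + algebraMap kb Kb c) := by
    rw [hw, hcdef, map_sum, ← Finset.sum_add_distrib, Finset.mul_sum]
    refine Finset.sum_congr rfl fun i _ => ?_
    rw [Algebra.smul_def, map_mul, ← hc, map_sub, map_div₀]
    field_simp
    ring
  have hcv : Q.1 (algebraMap kb Kb c) = 1 := val_algebraMap Q hc0
  have hsum1 : Q.1 (w + algebraMap kb Kb c) = 1 := by
    rw [Valuation.map_add_eq_of_lt_right Q.1 (by rw [hcv]; exact hw1), hcv]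
  rw [hz_eq, map_mul, hsum1, mul_one, lt_one_iff_of_le_one_iff Q P hP] at hz
  exact absurd hz (not_lt.mpr hj1)

/-- Every element of `Kb = K[kb]` is a `K`-combination of a `k`-basis of `kb`. -/
theorem exists_repr_of_adjoin_eq_top
    (hc : ∀ c : k, algebraMap K Kb (algebraMap k K c) = algebraMap kb Kb (algebraMap k kb c))
    (hgen : Algebra.adjoin K (Set.range (algebraMap kb Kb)) = ⊤)
    {ι : Type*} (b : Module.Basis ι k kb) (z : Kb) :
    ∃ (s : Finset ι) (x : ι → K), z = ∑ i ∈ s, algebraMap K Kb (x i) * algebraMap kb Kb (b i) := by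
  classical
  have hz : z ∈ Subalgebra.toSubmodule (Algebra.adjoin K (Set.range (algebraMap kb Kb))) := by
    rw [hgen]; exact Algebra.mem_top (R := K) (A := Kb)
  rw [Algebra.adjoin_eq_span] at hz
  have hcl : Submonoid.closure (Set.range (algebraMap kb Kb)) =
      MonoidHom.mrange (algebraMap kb Kb) := by
    rw [← MonoidHom.coe_mrange, Submonoid.closure_eq]
  rw [hcl] at hz
  have hle : Submodule.span K ((MonoidHom.mrange (algebraMap kb Kb) : Submonoid Kb) : Set Kb) ≤
      Submodule.span K (Set.range fun i => algebraMap kb Kb (b i)) := by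
    rw [Submodule.span_le]
    rintro _ ⟨c, rfl⟩
    have hcr : c = ∑ i ∈ (b.repr c).support, (b.repr c) i • b i := by
      conv_lhs => rw [← b.linearCombination_repr c]
      rw [Finsupp.linearCombination_apply, Finsupp.sum]
    show algebraMap kb Kb c ∈ _
    rw [hcr, map_sum]
    refine Submodule.sum_mem _ fun i _ => ?_
    rw [Algebra.smul_def, map_mul, ← hc, ← Algebra.smul_def]
    exact Submodule.smul_mem _ _ (Submodule.subset_span ⟨i, rfl⟩)
  obtain ⟨f, hf⟩ := Finsupp.mem_span_range_iff_exists_finsupp.mp (hle hz)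
  refine ⟨f.support, fun i => f i, ?_⟩
  rw [← hf, Finsupp.sum]
  refine Finset.sum_congr rfl fun i _ => ?_
  rw [Algebra.smul_def]

/-- `(←)`: above a place of degree one, the Frobenius of `Kb` preserves the maximal ideal of `Q`. -/
theorem frob_lt_one_iff_of_deg_one [Finite k] (hK : IsFunctionField k K)
    (hc : ∀ c : k, algebraMap K Kb (algebraMap k K c) = algebraMap kb Kb (algebraMap k kb c))
    (hgen : Algebra.adjoin K (Set.range (algebraMap kb Kb)) = ⊤)
    (F : Kb →+* Kb) (hF1 : ∀ c : kb, F (algebraMap kb Kb c) = algebraMap kb Kb c)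
    (hF2 : ∀ x : K, F (algebraMap K Kb x) = algebraMap K Kb x ^ Nat.card k)
    (Q : Place kb Kb) (P : Place k K)
    (hP : ∀ x : K, Q.1 (algebraMap K Kb x) ≤ 1 ↔ P.1 x ≤ 1) (hdeg : P.deg = 1) (z : Kb) :
    Q.1 (F z) < 1 ↔ Q.1 z < 1 := by
  classical
  have hq : Nat.card k ≠ 0 := Nat.card_pos.ne'
  set b := Module.Basis.ofVectorSpace k kb with hb
  obtain ⟨s, x, rfl⟩ := exists_repr_of_adjoin_eq_top hc hgen b z
  have hFz : F (∑ i ∈ s, algebraMap K Kb (x i) * algebraMap kb Kb (b i)) =
      ∑ i ∈ s, algebraMap K Kb (x i ^ Nat.card k) * algebraMap kb Kb (b i) := by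
    rw [map_sum]
    refine Finset.sum_congr rfl fun i _ => ?_
    rw [map_mul, hF1, hF2, map_pow]
  rw [hFz, val_sum_lt_one_iff hK hc Q P hP hdeg b b.linearIndependent s,
    val_sum_lt_one_iff hK hc Q P hP hdeg b b.linearIndependent s]
  refine forall₂_congr fun i _ => ?_
  rw [map_pow, pow_lt_one_iff hq]

/-- `(→)`: if the Frobenius of `Kb` maps the maximal ideal of `Q` into itself, the place below `Q`
has degree one. -/
theorem exists_place_deg_one_of_frob [Finite k] [IsAlgClosure k kb] (hK : IsFunctionField k K)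
    (hc : ∀ c : k, algebraMap K Kb (algebraMap k K c) = algebraMap kb Kb (algebraMap k kb c))
    (hgen : Algebra.adjoin K (Set.range (algebraMap kb Kb)) = ⊤)
    (F : Kb →+* Kb) (hF1 : ∀ c : kb, F (algebraMap kb Kb c) = algebraMap kb Kb c)
    (hF2 : ∀ x : K, F (algebraMap K Kb x) = algebraMap K Kb x ^ Nat.card k)
    (Q : Place kb Kb) (h : ∀ z : Kb, Q.1 z < 1 → Q.1 (F z) < 1) :
    ∃ P : Place k K, (∀ x : K, Q.1 (algebraMap K Kb x) ≤ 1 ↔ P.1 x ≤ 1) ∧ P.deg = 1 := by
  classical
  letI algkKb : Algebra k Kb := ((algebraMap K Kb).comp (algebraMap k K)).toAlgebra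
  haveI t1 : IsScalarTower k K Kb := IsScalarTower.of_algebraMap_eq (fun _ => rfl)
  haveI t2 : IsScalarTower k kb Kb := IsScalarTower.of_algebraMap_eq (fun c => hc c)
  haveI : IsAlgClosed kb := IsAlgClosure.isAlgClosed k
  haveI : Algebra.IsAlgebraic k kb := IsAlgClosure.isAlgebraic
  haveI : Fintype k := Fintype.ofFinite k
  haveI : Algebra.IsAlgebraic K Kb := by
    have hint : Algebra.IsIntegral K (Algebra.adjoin K (Set.range (algebraMap kb Kb))) := by
      apply Algebra.IsIntegral.adjoin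
      rintro _ ⟨c, rfl⟩
      have h1 : IsIntegral k c := Algebra.IsIntegral.isIntegral c
      have h2 : IsIntegral k (algebraMap kb Kb c) := h1.map (IsScalarTower.toAlgHom k kb Kb)
      exact h2.tower_top
    constructor
    intro z
    have hz : z ∈ Algebra.adjoin K (Set.range (algebraMap kb Kb)) := by
      rw [hgen]; exact Algebra.mem_top (R := K) (A := Kb)
    have := hint.isIntegral ⟨z, hz⟩
    exact (this.map (Algebra.adjoin K (Set.range (algebraMap kb Kb))).val).isAlgebraic
  let Q' : Place k Kb := ⟨Q.1, fun c => by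
      have : algebraMap k Kb c = algebraMap kb Kb (algebraMap k kb c) := hc c
      rw [this]; exact Q.2.1 _, Q.2.2⟩
  obtain ⟨P, hP⟩ := exists_isOver hK Q'
  have hle : ∀ x : K, Q.1 (algebraMap K Kb x) ≤ 1 ↔ P.1 x ≤ 1 := fun x => isOver_le_one_iff hP x
  have hlt : ∀ x : K, Q.1 (algebraMap K Kb x) < 1 ↔ P.1 x < 1 := fun x => isOver_lt_one_iff hP x
  refine ⟨P, hle, deg_eq_one_of_forall_exists_const P fun x hx => ?_⟩
  obtain ⟨g, hgm, hgx⟩ := exists_monic_val_aeval_lt_one hK P hx
  set x' := algebraMap K Kb x with hx'def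
  have hx' : Q.1 x' ≤ 1 := (hle x).mpr hx
  have h1 : Q.1 (Polynomial.aeval x' g) < 1 := by
    have : Polynomial.aeval x' g = algebraMap K Kb (Polynomial.aeval x g) :=
      Polynomial.aeval_algebraMap_apply Kb x g
    rw [this]; exact (hlt _).mpr hgx
  have hsplit := IsAlgClosed.splits (g.map (algebraMap k kb))
  have hprod := hsplit.eq_prod_roots_of_monic (hgm.map _)
  have h2 : Polynomial.aeval x' g =
      ((g.map (algebraMap k kb)).roots.map (fun c => x' - algebraMap kb Kb c)).prod := by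
    rw [← Polynomial.aeval_map_algebraMap kb x' g]
    conv_lhs => rw [hprod]
    rw [map_multiset_prod, Multiset.map_map]
    congr 1
    refine Multiset.map_congr rfl fun c _ => ?_
    simp
  rw [h2] at h1
  obtain ⟨_, hmem, hlt1⟩ := exists_lt_one_of_prod_lt_one Q.1 _ h1
  obtain ⟨c, -, rfl⟩ := Multiset.mem_map.mp hmem
  have h3 := h _ hlt1
  rw [map_sub, hF1, hF2] at h3
  have h4 : Q.1 (x' ^ Nat.card k - algebraMap kb Kb c ^ Nat.card k) < 1 :=
    val_pow_sub_pow_lt_one Q.1 hx' (Q.2.1 c) hlt1 _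
  have h5 : Q.1 (algebraMap kb Kb (c ^ Nat.card k - c)) < 1 := by
    have : algebraMap kb Kb (c ^ Nat.card k - c) =
        (x' ^ Nat.card k - algebraMap kb Kb c) - (x' ^ Nat.card k - algebraMap kb Kb c ^ Nat.card k) := by
      rw [map_sub, map_pow]; ring
    rw [this]; exact lt_of_le_of_lt (Valuation.map_sub _ _ _) (max_lt h3 h4)
  have h6 : c ^ Nat.card k = c := by
    by_contra hne
    rw [val_algebraMap Q (sub_ne_zero.mpr hne)] at h5
    exact lt_irrefl _ h5
  rw [Nat.card_eq_fintype_card] at h6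
  obtain ⟨a, rfl⟩ := mem_range_of_pow_card_eq h6
  refine ⟨a, ?_⟩
  rw [← hlt, map_sub, hc]
  exact hlt1

end Main

end Groth.Agent.Lib.Helper24.FFExt
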