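import Groth.Agent.Lib.Helper24.FFExt.Galois
import Groth.Agent.Lib.Helper24.FFExt.Fundamental
import Mathlib.RingTheory.Valuation.RamificationGroup
import Mathlib.GroupTheory.Index

/-! # Decomposition groups of places in a finite Galois extension of function fields (helper24) -/

set_option autoImplicit false

namespace Groth.Agent.Lib.Helper24.FFExt

open FunFld WithZero Groth.Agent.Lib.Helper18.FF

open scoped Pointwise

variable {k K K' : Type*} [Field k] [Field K] [Field K'] [Algebra k K] [Algebra K K'] [Algebra k K']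
  [IsScalarTower k K K']

theorem isEquiv_comap_of_isOver {Q Q' : Place k K'} {P : Place k K} (h : IsOver Q P) (h' : IsOver Q' P) :
    (Q.1.comap (algebraMap K K')).IsEquiv (Q'.1.comap (algebraMap K K')) := by
  obtain ⟨e, he⟩ := h
  obtain ⟨e', he'⟩ := h'
  intro r s
  rw [Valuation.comap_apply, Valuation.comap_apply, Valuation.comap_apply, Valuation.comap_apply,
    he r, he s, he' r, he' s,
    pow_le_pow_iff_left₀ zero_le zero_le (isOverWith_pos he).ne',
    pow_le_pow_iff_left₀ zero_le zero_le (isOverWith_pos he').ne']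

/-- All places above `P` are conjugate. -/
theorem exists_placeComap_eq_of_isOver [FiniteDimensional K K'] [IsGalois K K'] {Q Q' : Place k K'}
    {P : Place k K} (h : IsOver Q P) (h' : IsOver Q' P) : ∃ σ : K' ≃ₐ[K] K', placeComap σ Q = Q' :=
  exists_placeComap_eq Q Q' (isEquiv_comap_of_isOver h h')

theorem placeComap_O (σ : K' ≃ₐ[K] K') (Q : Place k K') : (placeComap σ Q).O = σ⁻¹ • Q.O := by
  ext x
  rw [ValuationSubring.mem_inv_pointwise_smul_iff]
  rfl

/-- The ring isomorphism of valuation rings induced by `σ`. -/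
def placeComapRingEquiv (σ : K' ≃ₐ[K] K') (Q : Place k K') : (placeComap σ Q).O ≃+* Q.O where
  toFun x := ⟨σ x.1, x.2⟩
  invFun y := ⟨σ.symm y.1, by
    show Q.1 (σ (σ.symm y.1)) ≤ 1
    rw [σ.apply_symm_apply]; exact y.2⟩
  left_inv x := Subtype.ext (σ.symm_apply_apply x.1)
  right_inv y := Subtype.ext (σ.apply_symm_apply y.1)
  map_mul' x y := Subtype.ext (map_mul σ x.1 y.1)
  map_add' x y := Subtype.ext (map_add σ x.1 y.1)

theorem deg_placeComap (σ : K' ≃ₐ[K] K') (Q : Place k K') : (placeComap σ Q).deg = Q.deg := by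
  unfold Place.deg
  refine Algebra.finrank_eq_of_equiv_equiv (RingEquiv.refl k)
    (IsLocalRing.ResidueField.mapEquiv (placeComapRingEquiv σ Q)) ?_
  ext c
  show IsLocalRing.residue _ (algebraMap k Q.O c) =
    IsLocalRing.ResidueField.map _ (IsLocalRing.residue _ (algebraMap k (placeComap σ Q).O c))
  rw [IsLocalRing.ResidueField.map_residue]
  congr 1
  apply Subtype.ext
  show algebraMap k K' c = σ (algebraMap k K' c)
  rw [IsScalarTower.algebraMap_apply k K K', σ.commutes]

/-- All places above `P` have the same ramification index and degree. -/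
theorem isOverWith_and_deg_eq [FiniteDimensional K K'] [IsGalois K K'] {Q Q' : Place k K'}
    {P : Place k K} {e : ℕ} (he : IsOverWith Q P e) (h' : IsOver Q' P) :
    IsOverWith Q' P e ∧ Q'.deg = Q.deg := by
  obtain ⟨σ, rfl⟩ := exists_placeComap_eq_of_isOver (isOverWith_isOver he) h'
  exact ⟨isOverWith_placeComap he σ, deg_placeComap σ Q⟩

/-- Orbit–stabilizer for the places above `P`. -/
theorem card_isOver_mul_card_decomposition [FiniteDimensional K K'] [IsGalois K K'] {Q : Place k K'}
    {P : Place k K} (h : IsOver Q P) :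
    Nat.card {Q' : Place k K' // IsOver Q' P} * Nat.card ((Q.O).decompositionSubgroup K) =
      Module.finrank K K' := by
  rw [← IsGalois.card_aut_eq_finrank K K',
    ← Subgroup.card_mul_index ((Q.O).decompositionSubgroup K), mul_comm]
  congr 1
  rw [MulAction.index_stabilizer, ← Nat.card_coe_set_eq]
  let f : {Q' : Place k K' // IsOver Q' P} → MulAction.orbit (K' ≃ₐ[K] K') Q.O := fun Q' =>
    ⟨Q'.1.O, by
      obtain ⟨σ, hσ⟩ := exists_placeComap_eq_of_isOver h Q'.2
      rw [← hσ, placeComap_O]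
      exact ⟨σ⁻¹, rfl⟩⟩
  refine Nat.card_eq_of_bijective f ⟨?_, ?_⟩
  · intro Q₁ Q₂ h12
    have hO : Q₁.1.O = Q₂.1.O := congrArg Subtype.val h12
    apply Subtype.ext
    apply place_eq_of_le_one_iff
    intro x
    have h1 : x ∈ Q₁.1.O ↔ x ∈ Q₂.1.O := by rw [hO]
    exact h1
  · rintro ⟨A, σ, rfl⟩
    refine ⟨⟨placeComap σ⁻¹ Q, isOver_placeComap h _⟩, ?_⟩
    apply Subtype.ext
    show (placeComap σ⁻¹ Q).O = σ • Q.O
    rw [placeComap_O, inv_inv]

/-- `|G₀| · deg P = e · deg Q`. -/
theorem card_decomposition_mul_deg [FiniteDimensional K K'] [IsGalois K K']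
    (hK : IsFunctionField k K) {Q : Place k K'} {P : Place k K} {e : ℕ} (he : IsOverWith Q P e) :
    Nat.card ((Q.O).decompositionSubgroup K) * P.deg = e * Q.deg := by
  classical
  have hQP := isOverWith_isOver he
  have hfin := finite_isOver (K' := K') hK P
  have h1 := sum_ramIdx_mul_deg (K' := K') hK P hfin.toFinset (fun Q' => Set.Finite.mem_toFinset hfin)
  have h2 : ∀ Q' ∈ hfin.toFinset, ramIdx Q' P * Q'.deg = e * Q.deg := by
    intro Q' hQ'
    have hQ'P : IsOver Q' P := (Set.Finite.mem_toFinset hfin).mp hQ'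
    obtain ⟨h3, h4⟩ := isOverWith_and_deg_eq he hQ'P
    rw [isOverWith_ramIdx_eq h3, h4]
  rw [Finset.sum_congr rfl h2, Finset.sum_const, smul_eq_mul] at h1
  have h5 := card_isOver_mul_card_decomposition hQP
  have hcard : hfin.toFinset.card = Nat.card {Q' : Place k K' // IsOver Q' P} := by
    rw [← Set.ncard_eq_toFinset_card _ hfin, ← Nat.card_coe_set_eq]
    rfl
  rw [hcard, ← h5, mul_assoc] at h1
  have hpos : 0 < Nat.card {Q' : Place k K' // IsOver Q' P} := by
    haveI : Finite {Q' : Place k K' // IsOver Q' P} := hfin.to_subtype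
    haveI : Nonempty {Q' : Place k K' // IsOver Q' P} := ⟨⟨Q, hQP⟩⟩
    exact Nat.card_pos
  exact (Nat.eq_of_mul_eq_mul_left hpos h1).symm

end Groth.Agent.Lib.Helper24.FFExt
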