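import Groth.Agent.Lib.Helper24.FFExt.Kaehler
import Groth.Prelude.Def_LocRes
import Mathlib.RingTheory.LaurentSeries
import Mathlib.RingTheory.Binomial
import Mathlib.RingTheory.PowerSeries.NoZeroDivisors
import Mathlib.Algebra.Polynomial.Identities

/-! # Hasse derivatives through a Laurent expansion -/

set_option autoImplicit false
set_option linter.style.haveILetI false

namespace Groth.Agent.Lib.Helper24.FFExt.HasseExp

open FunFld LocRes LaurentSeries IntermediateField

universe u v w

section unique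

open Polynomial

variable {k : Type*} {K : Type*} {L : Type*} [Field k] [Field K] [Algebra k K]
  [CommRing L] [IsDomain L] [Algebra k L]

/-- Two algebra homomorphisms into power series over a domain with the same constant-coefficient
map and agreeing on a separating element coincide. -/
theorem algHom_powerSeries_unique (s : K) (hsep : Algebra.IsSeparable k⟮s⟯ K)
    (ψ : K →+* L) (A B : K →ₐ[k] PowerSeries L)
    (hA : ∀ y, PowerSeries.constantCoeff (A y) = ψ y)
    (hB : ∀ y, PowerSeries.constantCoeff (B y) = ψ y) (hs : A s = B s) : A = B := by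
  let E : IntermediateField k K := (AlgHom.equalizer A B).toIntermediateField (by
    intro y hy
    rw [AlgHom.mem_equalizer] at hy ⊢
    by_cases h0 : y = 0
    · rw [h0, inv_zero, map_zero, map_zero]
    · have h1 : A y⁻¹ * A y = 1 := by rw [← map_mul, inv_mul_cancel₀ h0, map_one]
      have h2 : B y⁻¹ * B y = 1 := by rw [← map_mul, inv_mul_cancel₀ h0, map_one]
      calc A y⁻¹ = A y⁻¹ * (B y⁻¹ * B y) := by rw [h2, mul_one]
        _ = (A y⁻¹ * A y) * B y⁻¹ := by
          rw [← hy]
          ring
        _ = B y⁻¹ := by rw [h1, one_mul])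
  have hE : ∀ y, y ∈ E ↔ A y = B y := fun y => Iff.rfl
  have hle : k⟮s⟯ ≤ E := adjoin_simple_le_iff.mpr ((hE s).mpr hs)
  refine AlgHom.ext fun y => ?_
  obtain ⟨f, hf⟩ : ∃ f : (k⟮s⟯)[X], f = minpoly k⟮s⟯ y := ⟨_, rfl⟩
  let Ares : k⟮s⟯ →+* PowerSeries L := A.toRingHom.comp (algebraMap k⟮s⟯ K)
  let Bres : k⟮s⟯ →+* PowerSeries L := B.toRingHom.comp (algebraMap k⟮s⟯ K)
  have hAB : Ares = Bres := by
    refine RingHom.ext fun c => ?_
    exact (hE _).mp (hle c.2)
  have hfy : aeval y f = 0 := by rw [hf, minpoly.aeval]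
  have hgA : (f.map Bres).eval (A y) = 0 := by
    rw [← hAB, eval_map]
    have := Polynomial.hom_eval₂ f (algebraMap k⟮s⟯ K) A.toRingHom y
    rw [← aeval_def, hfy, map_zero] at this
    exact this.symm
  have hgB : (f.map Bres).eval (B y) = 0 := by
    rw [eval_map]
    have := Polynomial.hom_eval₂ f (algebraMap k⟮s⟯ K) B.toRingHom y
    rw [← aeval_def, hfy, map_zero] at this
    exact this.symm
  obtain ⟨δ, hδ⟩ : ∃ δ, δ = A y - B y := ⟨_, rfl⟩
  have hAy : A y = B y + δ := by rw [hδ]; ring
  obtain ⟨c, hc⟩ := (f.map Bres).binomExpansion (B y) δ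
  rw [← hAy, hgA, hgB, zero_add] at hc
  have hfac : δ * ((f.map Bres).derivative.eval (B y) + c * δ) = 0 := by
    rw [hc]
    ring
  have hccδ : PowerSeries.constantCoeff δ = 0 := by
    rw [hδ, map_sub, hA, hB, sub_self]
  have hne : (f.map Bres).derivative.eval (B y) + c * δ ≠ 0 := by
    intro h
    have h1 := congrArg PowerSeries.constantCoeff h
    rw [map_add, map_mul, hccδ, mul_zero, add_zero, map_zero, derivative_map, eval_map] at h1
    have h2 := Polynomial.hom_eval₂ (derivative f) Bres
      (PowerSeries.constantCoeff (R := L)) (B y)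
    rw [h1, hB] at h2
    have h3 : (PowerSeries.constantCoeff (R := L)).comp Bres = ψ.comp (algebraMap k⟮s⟯ K) := by
      refine RingHom.ext fun c => ?_
      exact hB _
    rw [h3, ← Polynomial.hom_eval₂, ← aeval_def] at h2
    have hsepy : IsSeparable k⟮s⟯ y := Algebra.IsSeparable.isSeparable k⟮s⟯ y
    have hsepf : f.Separable := by
      rw [hf]
      exact hsepy
    have h4 := hsepf.aeval_derivative_ne_zero hfy
    exact h4 ((map_eq_zero_iff ψ ψ.injective).mp h2.symm)
  rcases mul_eq_zero.mp hfac with h | h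
  · rw [hAy, h, add_zero]
  · exact absurd h hne

end unique

section taylor

variable {F : Type*} [Field F]

theorem coeff_mul_eq_sum (f g : F⸨X⸩) (N : ℤ) (S : Finset ℤ)
    (hS : ∀ a, a ∉ S → f.coeff a = 0 ∨ g.coeff (N - a) = 0) :
    (f * g).coeff N = ∑ a ∈ S, f.coeff a * g.coeff (N - a) := by
  classical
  rw [HahnSeries.coeff_mul]
  refine Finset.sum_bij_ne_zero (fun ij _ _ => ij.1) ?_ ?_ ?_ ?_
  · intro ij hij hne
    by_contra hnot
    rw [Finset.mem_addAntidiagonal] at hij
    obtain ⟨_, _, hsum⟩ := hij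
    rcases hS ij.1 hnot with h | h
    · exact hne (by rw [h, zero_mul])
    · have h2 : N - ij.1 = ij.2 := by omega
      rw [h2] at h
      exact hne (by rw [h, mul_zero])
  · intro ij hij _ ij' hij' _ h
    rw [Finset.mem_addAntidiagonal] at hij hij'
    have h1 := hij.2.2
    have h2 := hij'.2.2
    have h3 : ij.1 = ij'.1 := h
    ext
    · exact h3
    · omega
  · intro a ha hne
    have hfa : f.coeff a ≠ 0 := fun h => hne (by rw [h, zero_mul])
    have hga : g.coeff (N - a) ≠ 0 := fun h => hne (by rw [h, mul_zero])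
    refine ⟨(a, N - a), ?_, ?_, rfl⟩
    · rw [Finset.mem_addAntidiagonal]
      exact ⟨hfa, hga, by simp⟩
    · exact hne
  · intro ij hij _
    rw [Finset.mem_addAntidiagonal] at hij
    have h1 := hij.2.2
    have h2 : N - ij.1 = ij.2 := by omega
    rw [h2]

/-- The Leibniz rule for Hasse derivatives of Laurent series. -/
theorem hasseDeriv_mul (n : ℕ) (f g : F⸨X⸩) :
    hasseDeriv F n (f * g) =
      ∑ ij ∈ Finset.HasAntidiagonal.antidiagonal n, hasseDeriv F ij.1 f * hasseDeriv F ij.2 g := by
  classical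
  ext m
  rw [hasseDeriv_coeff, HahnSeries.coeff_sum]
  set S : Finset ℤ := Finset.Icc f.order (m + n - g.order) with hSdef
  have hS : ∀ a, a ∉ S → f.coeff a = 0 ∨ g.coeff (m + n - a) = 0 := by
    intro a ha
    rw [hSdef, Finset.mem_Icc, not_and_or, not_le, not_le] at ha
    rcases ha with h | h
    · exact Or.inl (HahnSeries.coeff_eq_zero_of_lt_order h)
    · exact Or.inr (HahnSeries.coeff_eq_zero_of_lt_order (by omega))
  rw [coeff_mul_eq_sum f g (m + n) S hS]
  have key : ∀ ij ∈ Finset.HasAntidiagonal.antidiagonal n,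
      (hasseDeriv F ij.1 f * hasseDeriv F ij.2 g).coeff m =
        ∑ a ∈ S, (Ring.choose a ij.1 * Ring.choose (m + n - a) ij.2 : ℤ) •
          (f.coeff a * g.coeff (m + n - a)) := by
    intro ij hij
    rw [Finset.HasAntidiagonal.mem_antidiagonal] at hij
    rw [coeff_mul_eq_sum _ _ m (S.image (fun a => a - (ij.1 : ℤ))), Finset.sum_image]
    · refine Finset.sum_congr rfl fun a ha => ?_
      rw [hasseDeriv_coeff, hasseDeriv_coeff]
      have h1 : a - (ij.1 : ℤ) + (ij.1 : ℤ) = a := by ring
      have h2 : m - (a - (ij.1 : ℤ)) + (ij.2 : ℤ) = m + n - a := by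
        rw [← hij]; push_cast; ring
      rw [h1, h2, smul_mul_smul_comm]
    · intro a _ b _ h
      simpa using h
    · intro p hp
      have hp' : p + (ij.1 : ℤ) ∉ S := by
        intro h
        apply hp
        rw [Finset.mem_image]
        exact ⟨p + ij.1, h, by ring⟩
      rcases hS _ hp' with h | h
      · left
        rw [hasseDeriv_coeff, h, smul_zero]
      · right
        have h2 : m - p + (ij.2 : ℤ) = m + n - (p + ij.1) := by
          rw [← hij]; push_cast; ring
        rw [hasseDeriv_coeff, h2, h, smul_zero]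
  rw [Finset.sum_congr rfl key, Finset.sum_comm, Finset.smul_sum]
  refine Finset.sum_congr rfl fun a _ => ?_
  rw [← Finset.sum_smul, ← Ring.add_choose_eq n (Commute.all _ _)]
  congr 2
  ring

theorem hasseDeriv_C (n : ℕ) (a : F) :
    hasseDeriv F n (HahnSeries.C a) = if n = 0 then HahnSeries.C a else 0 := by
  rw [HahnSeries.C_apply, hasseDeriv_single]
  split_ifs with h
  · subst h
    simp
  · rw [Ring.choose_zero_pos ℤ (Nat.pos_of_ne_zero h), zero_smul, HahnSeries.single_eq_zero]

theorem hasseDeriv_one (n : ℕ) :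
    hasseDeriv F n (1 : F⸨X⸩) = if n = 0 then 1 else 0 := by
  rw [← HahnSeries.C_one, hasseDeriv_C]

theorem algebraMap_laurent {k : Type*} [Field k] [Algebra k F] (c : k) :
    algebraMap k F⸨X⸩ c = HahnSeries.C (algebraMap k F c) := by
  rw [HahnSeries.algebraMap_apply', PowerSeries.algebraMap_apply, HahnSeries.ofPowerSeries_C]

/-- The Taylor shift `f(X) ↦ f(X + T) = ∑ (D⁽ⁿ⁾ f) Tⁿ` on Laurent series. -/
noncomputable def taylorHom (k : Type*) [Field k] [Algebra k F] :
    F⸨X⸩ →ₐ[k] PowerSeries F⸨X⸩ where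
  toFun f := PowerSeries.mk fun n => hasseDeriv F n f
  map_one' := by
    ext n
    rw [PowerSeries.coeff_mk, hasseDeriv_one, PowerSeries.coeff_one]
  map_mul' f g := by
    refine PowerSeries.ext fun n => ?_
    rw [PowerSeries.coeff_mk, PowerSeries.coeff_mul, hasseDeriv_mul]
    apply Finset.sum_congr rfl
    intro ij _
    rw [PowerSeries.coeff_mk, PowerSeries.coeff_mk]
  map_zero' := by
    ext n
    rw [PowerSeries.coeff_mk, map_zero, (PowerSeries.coeff n).map_zero]
  map_add' f g := by
    ext n
    rw [PowerSeries.coeff_mk, map_add, map_add, PowerSeries.coeff_mk, PowerSeries.coeff_mk]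
  commutes' c := by
    ext n
    rw [PowerSeries.coeff_mk, algebraMap_laurent, hasseDeriv_C, PowerSeries.algebraMap_apply,
      PowerSeries.coeff_C, algebraMap_laurent]

@[simp] theorem coeff_taylorHom (k : Type*) [Field k] [Algebra k F] (n : ℕ) (f : F⸨X⸩) :
    PowerSeries.coeff n (taylorHom k f) = hasseDeriv F n f :=
  PowerSeries.coeff_mk n (fun n => hasseDeriv F n f)

theorem taylorHom_X (k : Type*) [Field k] [Algebra k F] :
    taylorHom k (HahnSeries.single (1 : ℤ) (1 : F)) =
      PowerSeries.C (HahnSeries.single (1 : ℤ) (1 : F)) + PowerSeries.X := by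
  ext n
  rw [coeff_taylorHom, hasseDeriv_single, map_add, PowerSeries.coeff_C, PowerSeries.coeff_X]
  rcases n with _ | _ | n
  · simp
  · simp
  · have h : Ring.choose (1 : ℤ) (n + 2) = 0 := by
      have := Ring.choose_natCast (R := ℤ) 1 (n + 2)
      rw [Nat.cast_one] at this
      rw [this, Nat.choose_eq_zero_of_lt (by omega), Nat.cast_zero]
    rw [h, zero_smul, HahnSeries.single_eq_zero]
    simp

end taylor

section main

variable {k : Type u} {K : Type v} [Field k] [Field K] [Algebra k K]
  {F : Type w} [Field F] [Algebra k F]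

/-- The first coefficient map of a Hasse family, as a derivation. -/
noncomputable def hasseDer₁ {t : K} {H : K →ₐ[k] PowerSeries K} (hH : IsHasseFamily t H) :
    Derivation k K K :=
  Derivation.mk'
    { toFun := fun y => PowerSeries.coeff 1 (H y)
      map_add' := fun a b => by rw [map_add, map_add]
      map_smul' := fun c a => by
        simp only [RingHom.id_apply]
        rw [Algebra.smul_def, map_mul, AlgHom.commutes, PowerSeries.algebraMap_apply,
          PowerSeries.coeff_C_mul, Algebra.smul_def] }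
    (fun a b => by
      change PowerSeries.coeff 1 (H (a * b)) =
        a • PowerSeries.coeff 1 (H b) + b • PowerSeries.coeff 1 (H a)
      rw [map_mul, PowerSeries.coeff_mul, Finset.Nat.sum_antidiagonal_eq_sum_range_succ_mk,
        Finset.sum_range_succ, Finset.sum_range_one]
      simp only [Nat.sub_zero, Nat.sub_self]
      rw [PowerSeries.coeff_zero_eq_constantCoeff_apply, PowerSeries.coeff_zero_eq_constantCoeff_apply,
        hH.2, hH.2, smul_eq_mul, smul_eq_mul]
      ring)

theorem D_ne_zero_of_isHasseFamily {t : K} {H : K →ₐ[k] PowerSeries K} (hH : IsHasseFamily t H) :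
    KaehlerDifferential.D k K t ≠ 0 := by
  intro h
  have h1 := (hasseDer₁ hH).liftKaehlerDifferential_comp_D t
  rw [h, map_zero] at h1
  have h2 : hasseDer₁ hH t = 1 := by
    show PowerSeries.coeff 1 (H t) = 1
    rw [hH.1, map_add, PowerSeries.coeff_C, PowerSeries.coeff_one_X]
    simp
  rw [h2] at h1
  exact zero_ne_one h1

/-- Through an expansion `φ` with `φ t = X`, the Hasse derivatives with respect to `t` become the
Hasse derivatives of Laurent series. -/
theorem expansion_hasseD (hK : IsFunctionField k K) (hg : IsGeometric k K)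
    (φ : K →ₐ[k] F⸨X⸩) (t : K) (ht : φ t = HahnSeries.single 1 1)
    (H : K →ₐ[k] PowerSeries K) (hH : IsHasseFamily t H) (x : K) (n : ℕ) :
    φ (hasseD H n x) = hasseDeriv F n (φ x) := by
  have hsep : Algebra.IsSeparable k⟮t⟯ K :=
    (isSeparable_of_D_ne_zero' hK hg (D_ne_zero_of_isHasseFamily hH)).2.2
  let A : K →ₐ[k] PowerSeries F⸨X⸩ := (PowerSeries.mapAlgHom φ).comp H
  let B : K →ₐ[k] PowerSeries F⸨X⸩ := (taylorHom k).comp φ
  have hA : ∀ y, PowerSeries.constantCoeff (A y) = (φ : K →+* F⸨X⸩) y := by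
    intro y
    show PowerSeries.constantCoeff (PowerSeries.mapAlgHom φ (H y)) = φ y
    rw [PowerSeries.mapAlgHom_apply, ← PowerSeries.coeff_zero_eq_constantCoeff_apply,
      PowerSeries.coeff_map, PowerSeries.coeff_zero_eq_constantCoeff_apply, hH.2]
    rfl
  have hB : ∀ y, PowerSeries.constantCoeff (B y) = (φ : K →+* F⸨X⸩) y := by
    intro y
    show PowerSeries.constantCoeff (taylorHom k (φ y)) = φ y
    rw [← PowerSeries.coeff_zero_eq_constantCoeff_apply, coeff_taylorHom, hasseDeriv_zero]
    rfl
  have hs : A t = B t := by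
    show PowerSeries.mapAlgHom φ (H t) = taylorHom k (φ t)
    rw [ht, taylorHom_X, hH.1, PowerSeries.mapAlgHom_apply, map_add, PowerSeries.map_C,
      PowerSeries.map_X]
    congr 2
  have hAB := algHom_powerSeries_unique t hsep (φ : K →+* F⸨X⸩) A B hA hB hs
  have h1 := congrArg (fun Ψ : K →ₐ[k] PowerSeries F⸨X⸩ => PowerSeries.coeff n (Ψ x)) hAB
  have h2 : PowerSeries.coeff n (A x) = φ (hasseD H n x) := by
    show PowerSeries.coeff n (PowerSeries.mapAlgHom φ (H x)) = _
    rw [PowerSeries.mapAlgHom_apply, PowerSeries.coeff_map]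
    rfl
  have h3 : PowerSeries.coeff n (B x) = hasseDeriv F n (φ x) := coeff_taylorHom k n (φ x)
  rw [← h2, ← h3]
  exact h1

end main

end Groth.Agent.Lib.Helper24.FFExt.HasseExp
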