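import Groth.Agent.Lib.Helper24.FFExt.RamGroup2
import Mathlib.RingTheory.IntegralDomain
import Mathlib.GroupTheory.SpecificGroups.Cyclic.Basic

/-! # The tame character `G₁ → F_Q^×`; `G₁/G₂` is cyclic (helper24) -/

set_option autoImplicit false
open FunFld WithZero Groth.Agent.Lib.Helper18.FF

namespace Groth.Agent.Lib.Helper24.FFExt

variable {k K K' : Type*} [Field k] [Field K] [Field K'] [Algebra k K] [Algebra K K'] [Algebra k K']
  [IsScalarTower k K K']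

theorem uniformizer_ne_zero {Q : Place k K'} {t : K'} (ht : Q.1 t = exp (-1 : ℤ)) : t ≠ 0 := by
  rintro rfl
  rw [map_zero] at ht
  exact WithZero.exp_ne_zero ht.symm

theorem val_map_div_le {Q : Place k K'} {t : K'} (ht : Q.1 t = exp (-1 : ℤ))
    (σ : ramGroup (K := K) Q (exp (-1 : ℤ)) le_rfl) : Q.1 (σ.1 t / t) ≤ 1 := by
  rw [map_div₀, val_map_eq_of_sub_le (mem_ramGroup.mp σ.2), div_self]
  rw [ht]; exact WithZero.exp_ne_zero

/-- the tame character -/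
noncomputable def tameChar (Q : Place k K') {t : K'} (ht : Q.1 t = exp (-1 : ℤ)) :
    ramGroup (K := K) Q (exp (-1 : ℤ)) le_rfl →* IsLocalRing.ResidueField Q.O where
  toFun := fun σ => IsLocalRing.residue Q.O ⟨σ.1 t / t, val_map_div_le ht σ⟩
  map_one' := by
    have : (⟨(1 : ramGroup (K := K) Q (exp (-1 : ℤ)) le_rfl).1 t / t, val_map_div_le ht 1⟩ : Q.O)
        = 1 := by
      apply Subtype.ext
      show (1 : K' ≃ₐ[K] K') t / t = 1
      rw [AlgEquiv.one_apply, div_self (uniformizer_ne_zero ht)]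
    rw [this, map_one]
  map_mul' := by
    intro σ τ
    have ht0 := uniformizer_ne_zero ht
    have hσt0 : σ.1 t ≠ 0 := (_root_.map_ne_zero _).mpr ht0
    have hu' : Q.1 (σ.1 (τ.1 t / t)) ≤ 1 := by
      rw [val_map_eq_of_sub_le (mem_ramGroup.mp σ.2)]; exact val_map_div_le ht τ
    have h1 : (⟨(σ * τ).1 t / t, val_map_div_le ht (σ * τ)⟩ : Q.O) =
        ⟨σ.1 (τ.1 t / t), hu'⟩ * ⟨σ.1 t / t, val_map_div_le ht σ⟩ := by
      apply Subtype.ext
      show (σ.1 * τ.1) t / t = σ.1 (τ.1 t / t) * (σ.1 t / t)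
      rw [AlgEquiv.mul_apply, map_div₀]
      field_simp
    have h2 : IsLocalRing.residue Q.O ⟨σ.1 (τ.1 t / t), hu'⟩ =
        IsLocalRing.residue Q.O ⟨τ.1 t / t, val_map_div_le ht τ⟩ := by
      rw [← sub_eq_zero, ← map_sub, IsLocalRing.residue_eq_zero_iff]
      refine (Valuation.mem_maximalIdeal_iff (v := Q.1)).mpr ?_
      exact lt_of_le_of_lt (mem_ramGroup.mp σ.2 _ (val_map_div_le ht τ)) exp_neg_one_lt_one
    rw [h1, map_mul, h2, mul_comm]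

theorem tameChar_eq_one {Q : Place k K'} {t : K'} (ht : Q.1 t = exp (-1 : ℤ))
    {ρ : ramGroup (K := K) Q (exp (-1 : ℤ)) le_rfl} (hρ1 : tameChar Q ht ρ = 1) :
    Q.1 (ρ.1 t - t) ≤ exp (-(2 : ℤ)) := by
  have ht0 := uniformizer_ne_zero ht
  have h3 : Q.1 (ρ.1 t / t - 1) < 1 := by
    have h4 : IsLocalRing.residue Q.O (⟨ρ.1 t / t, val_map_div_le ht ρ⟩ - 1) = 0 := by
      rw [map_sub, map_one, sub_eq_zero]; exact hρ1
    rw [IsLocalRing.residue_eq_zero_iff] at h4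
    exact (Valuation.mem_maximalIdeal_iff (v := Q.1)).mp h4
  have : ρ.1 t - t = t * (ρ.1 t / t - 1) := by field_simp
  rw [this, map_mul, ht]
  have h6 : Q.1 (ρ.1 t / t - 1) ≤ exp (-1 : ℤ) := (zm0_lt_one_iff _).mp h3
  calc exp (-1 : ℤ) * Q.1 (ρ.1 t / t - 1) ≤ exp (-1 : ℤ) * exp (-1 : ℤ) := mul_le_mul_right h6 _
    _ = exp (-(2 : ℤ)) := by rw [← exp_add]; rfl


/-- `G₁/G₂` is cyclic. -/
theorem ramGroup_one_quotient_cyclic [FiniteDimensional K K'] (hK : FunFld.IsFunctionField k K) [IsGalois K K'] (Q : FunFld.Place k K') [Algebra.IsSeparable k (IsLocalRing.ResidueField Q.O)] :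
    ∃ σ₀ : K' ≃ₐ[K] K', (∀ x : K', Q.1 x ≤ 1 → Q.1 (σ₀ x - x) ≤ WithZero.exp (-(1 : ℤ))) ∧
      ∀ σ : K' ≃ₐ[K] K', (∀ x : K', Q.1 x ≤ 1 → Q.1 (σ x - x) ≤ WithZero.exp (-(1 : ℤ))) →
        ∃ n : ℕ, (∀ x : K', Q.1 x ≤ 1 → Q.1 (((σ₀ ^ n)⁻¹ * σ) x - x) ≤ WithZero.exp (-(2 : ℤ))) := by
  classical
  obtain ⟨t, ht⟩ := exists_uniformizer Q
  set θ := (tameChar (K := K) Q ht).toHomUnits with hθ
  have hinj : Function.Injective ((Units.coeHom _).comp (QuotientGroup.kerLift θ)) :=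
    Units.val_injective.comp (QuotientGroup.kerLift_injective θ)
  haveI : IsCyclic (ramGroup (K := K) Q (exp (-1 : ℤ)) le_rfl ⧸ θ.ker) :=
    isCyclic_of_injective_ringHom _ hinj
  obtain ⟨g, hg'⟩ := IsCyclic.exists_monoid_generator
    (α := ramGroup (K := K) Q (exp (-1 : ℤ)) le_rfl ⧸ θ.ker)
  obtain ⟨σ₀, rfl⟩ := QuotientGroup.mk_surjective g
  refine ⟨σ₀.1, mem_ramGroup.mp σ₀.2, fun σ hσ => ?_⟩
  obtain ⟨n, hn⟩ := hg' (QuotientGroup.mk (⟨σ, hσ⟩ : ramGroup (K := K) Q (exp (-1 : ℤ)) le_rfl))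
  refine ⟨n, ?_⟩
  simp only at hn
  rw [← QuotientGroup.mk_pow, QuotientGroup.eq] at hn
  set ρ : ramGroup (K := K) Q (exp (-1 : ℤ)) le_rfl := (σ₀ ^ n)⁻¹ * ⟨σ, hσ⟩ with hρ
  have hρ1 : tameChar (K := K) Q ht ρ = 1 := by
    have := MonoidHom.mem_ker.mp hn
    have h2 := congrArg Units.val this
    rwa [hθ, MonoidHom.coe_toHomUnits] at h2
  have hρval : ρ.1 = (σ₀.1 ^ n)⁻¹ * σ := rfl
  rw [← hρval]
  exact sub_le_of_uniformizer hK Q ρ.1 (mem_ramGroup.mp ρ.2) ht (tameChar_eq_one ht hρ1)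

end Groth.Agent.Lib.Helper24.FFExt
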