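import Groth.Agent.Lib.Helper24.FFExt.IntClosure
import Groth.Agent.Lib.Helper24.FFExt.Geometric
import Groth.Agent.Lib.Helper18.FF.Approx2
import Mathlib.RingTheory.Valuation.Extension

/-! # The residue field above a nonsingular place is generated by the constants (helper24) -/

set_option autoImplicit false

namespace Groth.Agent.Lib.Helper24.FFExt

open FunFld WithZero Groth.Agent.Lib.Helper18.FF

open scoped TensorProduct

universe u v

variable {k k' : Type u} {K K' : Type v} [Field k] [Field k'] [Field K] [Field K']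
  [Algebra k k'] [Algebra k K] [Algebra K K'] [Algebra k' K'] [Algebra k K']
  [IsScalarTower k k' K'] [IsScalarTower k K K']

theorem isOver_of_hasExtension (P : Place k K) (Q : Place k K') [P.1.HasExtension Q.1] :
    IsOver Q P :=
  isOver_of_le_one_iff fun x => Valuation.HasExtension.val_map_le_one_iff P.1 Q.1 x

/-- An element integral at `Q`, multiplied by a suitable `w ≡ 1 mod Q`, is integral over `O_P`. -/
theorem exists_mul_isIntegral [FiniteDimensional K K'] (hK : IsFunctionField k K) (P : Place k K)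
    [Algebra P.O K'] [IsScalarTower P.O K K'] {Q : Place k K'} (hQ : IsOver Q P) {y : K'} (hy : Q.1 y ≤ 1) :
    ∃ w : K', Q.1 (w - 1) < 1 ∧ Q.1 w ≤ 1 ∧ IsIntegral P.O (w * y) := by
  classical
  have hfin := finite_isOver (K' := K') hK P
  set S := hfin.toFinset.erase Q with hS
  have hQS : Q ∉ S := Finset.notMem_erase _ _
  let b : Place k K' → ℤᵐ⁰ := fun Q' => if Q'.1 y ≤ 1 then 1 else (Q'.1 y)⁻¹
  have hb : ∀ Q' ∈ S, b Q' ≠ 0 := by
    intro Q' _
    by_cases h : Q'.1 y ≤ 1
    · simp [b, h]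
    · simp only [b, h, if_false]
      have : Q'.1 y ≠ 0 := by
        intro h0; apply h; rw [h0]; exact zero_le'
      exact inv_ne_zero this
  obtain ⟨d, hd0, hd⟩ := zm0_exists_ne_zero_forall_le S b hb
  have hd'0 : min d 1 ≠ 0 := by
    rw [Ne, min_eq_iff]
    rintro (⟨h, -⟩ | ⟨h, -⟩)
    · exact hd0 h
    · exact one_ne_zero h
  obtain ⟨w, hwQ, hwS⟩ := exists_approx_one Q S hQS hd'0
  have hwQ1 : Q.1 (w - 1) < 1 := lt_of_lt_of_le hwQ (min_le_right _ _)
  have hwle : Q.1 w ≤ 1 := by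
    have : w = (w - 1) + 1 := by ring
    rw [this]
    exact (Q.1.map_add _ _).trans (max_le hwQ1.le (by rw [map_one]))
  refine ⟨w, hwQ1, hwle, ?_⟩
  · apply isIntegral_of_forall_isOver hK P
    intro Q' hQ'
    by_cases hQQ : Q' = Q
    · rw [hQQ, map_mul]
      exact (mul_le_mul' hwle hy).trans_eq (one_mul 1)
    · have hmem : Q' ∈ S := Finset.mem_erase.mpr ⟨hQQ, hfin.mem_toFinset.mpr hQ'⟩
      have h1 : Q'.1 w < min d 1 := hwS Q' hmem
      have h2 : d ≤ b Q' := hd Q' hmem
      rw [map_mul]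
      by_cases h : Q'.1 y ≤ 1
      · exact (mul_le_mul' (h1.le.trans (min_le_right _ _)) h).trans_eq (one_mul 1)
      · simp only [b, h, if_false] at h2
        have hy0 : Q'.1 y ≠ 0 := by
          intro h0; apply h; rw [h0]; exact zero_le'
        calc Q'.1 w * Q'.1 y ≤ (Q'.1 y)⁻¹ * Q'.1 y :=
              mul_le_mul_left ((h1.le.trans (min_le_left _ _)).trans h2) _
          _ = 1 := inv_mul_cancel₀ hy0

/-- If `P` is nonsingular w.r.t. `k'/k` and `Q` lies over `P`, then `F_Q = k' F_P`. -/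
theorem residueField_eq_adjoin_of_nonsingular [FiniteDimensional k k']
    (h : Function.Bijective (Algebra.TensorProduct.productMap
      (IsScalarTower.toAlgHom k k' K') (IsScalarTower.toAlgHom k K K')))
    (hK : IsFunctionField k K)
    (P : Place k K) [Algebra P.O K'] [IsScalarTower P.O K K']
    (hns : (integralClosure P.O K').toSubring =
      (Algebra.adjoin P.O (Set.range (algebraMap k' K'))).toSubring)
    (Q : Place k K') [P.1.HasExtension Q.1] (hk' : ∀ c : k', Q.1 (algebraMap k' K' c) ≤ 1) :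
    Algebra.adjoin (IsLocalRing.ResidueField P.O)
      (Set.range fun c : k' => IsLocalRing.residue Q.O ⟨algebraMap k' K' c, hk' c⟩) = ⊤ := by
  haveI : FiniteDimensional K K' := finiteDimensional_of_tensor h
  have hQ : IsOver Q P := isOver_of_hasExtension P Q
  set A := Algebra.adjoin (IsLocalRing.ResidueField P.O)
      (Set.range fun c : k' => IsLocalRing.residue Q.O ⟨algebraMap k' K' c, hk' c⟩) with hA
  have key : ∀ z ∈ Algebra.adjoin P.O (Set.range (algebraMap k' K')),
      ∃ hz : Q.1 z ≤ 1, IsLocalRing.residue Q.O ⟨z, hz⟩ ∈ A := by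
    intro z hz
    induction hz using Algebra.adjoin_induction with
    | mem x hx =>
      obtain ⟨c, rfl⟩ := hx
      exact ⟨hk' c, Algebra.subset_adjoin ⟨c, rfl⟩⟩
    | algebraMap a =>
      have e1 : algebraMap P.O K' a = algebraMap K K' (a : K) :=
        IsScalarTower.algebraMap_apply P.O K K' a
      have hle : Q.1 (algebraMap P.O K' a) ≤ 1 := by
        rw [e1]; exact (Valuation.HasExtension.val_map_le_one_iff P.1 Q.1 _).mpr a.2
      refine ⟨hle, ?_⟩
      have e2 : (⟨algebraMap P.O K' a, hle⟩ : Q.O) = algebraMap P.O Q.O a := by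
        apply Subtype.ext
        rw [Valuation.HasExtension.coe_algebraMap_valuationSubring_eq]
        exact e1
      rw [e2, ← Valuation.HasExtension.algebraMap_residue_eq_residue_algebraMap]
      exact Subalgebra.algebraMap_mem A _
    | add x y _ _ hx hy =>
      obtain ⟨hx1, hx2⟩ := hx
      obtain ⟨hy1, hy2⟩ := hy
      refine ⟨(Q.1.map_add x y).trans (max_le hx1 hy1), ?_⟩
      have : (⟨x + y, (Q.1.map_add x y).trans (max_le hx1 hy1)⟩ : Q.O)
          = ⟨x, hx1⟩ + ⟨y, hy1⟩ := rfl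
      rw [this, map_add]
      exact A.add_mem hx2 hy2
    | mul x y _ _ hx hy =>
      obtain ⟨hx1, hx2⟩ := hx
      obtain ⟨hy1, hy2⟩ := hy
      have hxy : Q.1 (x * y) ≤ 1 := by
        rw [map_mul]; exact (mul_le_mul' hx1 hy1).trans_eq (one_mul 1)
      refine ⟨hxy, ?_⟩
      have : (⟨x * y, hxy⟩ : Q.O) = ⟨x, hx1⟩ * ⟨y, hy1⟩ := rfl
      rw [this, map_mul]
      exact A.mul_mem hx2 hy2
  rw [eq_top_iff]
  rintro ybar -
  obtain ⟨⟨y, hy⟩, rfl⟩ := IsLocalRing.residue_surjective ybar
  obtain ⟨w, hw1, hwle, hint⟩ := exists_mul_isIntegral hK P hQ hy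
  have hmem : w * y ∈ (integralClosure P.O K').toSubring := hint
  rw [hns] at hmem
  obtain ⟨hz, hzA⟩ := key (w * y) hmem
  have hres1 : IsLocalRing.residue Q.O ⟨w, hwle⟩ = 1 := by
    have hsub : Q.1 (w - 1) ≤ 1 := hw1.le
    have h0 : IsLocalRing.residue Q.O ⟨w - 1, hsub⟩ = 0 := by
      rw [IsLocalRing.residue_eq_zero_iff]
      exact (Valuation.mem_maximalIdeal_iff (v := Q.1) (a := ⟨w - 1, hsub⟩)).mpr hw1
    have e : (⟨w - 1, hsub⟩ : Q.O) = ⟨w, hwle⟩ - 1 := rfl
    rw [e, map_sub, map_one, sub_eq_zero] at h0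
    exact h0
  have e : (⟨w * y, hz⟩ : Q.O) = ⟨w, hwle⟩ * ⟨y, hy⟩ := rfl
  rw [e, map_mul, hres1, one_mul] at hzA
  exact hzA

end Groth.Agent.Lib.Helper24.FFExt
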