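import Groth.Agent.Lib.Helper24.FFExt.DiffMinpoly
import Groth.Agent.Lib.Helper24.FFExt.ResidueGen
import Groth.Agent.Lib.Helper24.FFExt.Unram
import Mathlib.RingTheory.DedekindDomain.Different

/-! # The trace dual of the integral closure and the different exponent (helper24)

`min_{y ∈ R^*} v_Q(y) = -d(Q|P)` for a place `Q | P` of residue degree one, by Euler's formula for
the dual of `O_P[s]` and a conductor argument. -/

set_option autoImplicit false

namespace Groth.Agent.Lib.Helper24.FFExt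

open FunFld WithZero LocRes LaurentSeries Polynomial Groth.Agent.Lib.Helper18.FF

universe u v w

section TraceDual

variable {k : Type u} {K K' : Type v} [Field k] [Field K] [Field K'] [Algebra k K]
  [Algebra K K'] [Algebra k K'] [IsScalarTower k K K']

/-- Elements integral over `O_P` are integral at every place above `P`. -/
theorem val_le_one_of_isIntegral_place {P : Place k K} [Algebra P.O K'] [IsScalarTower P.O K K']
    {Q : Place k K'} (hQ : IsOver Q P) {z : K'} (hz : IsIntegral P.O z) : Q.1 z ≤ 1 := by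
  refine val_le_one_of_isIntegral_ring (R := P.O) Q.1 (fun c => ?_) hz
  rw [IsScalarTower.algebraMap_apply P.O K K', isOver_le_one_iff hQ]
  exact c.2

theorem algebraMap_mem_adjoin {P : Place k K} [Algebra P.O K'] [IsScalarTower P.O K K']
    (S : Set K') {c : K} (hc : P.1 c ≤ 1) : algebraMap K K' c ∈ Algebra.adjoin P.O S := by
  have : algebraMap K K' c = algebraMap P.O K' ⟨c, hc⟩ := by
    rw [IsScalarTower.algebraMap_apply P.O K K']; rfl
  rw [this]
  exact Subalgebra.algebraMap_mem _ _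

theorem isIntegral_of_mem_adjoin {P : Place k K} [Algebra P.O K'] [IsScalarTower P.O K K']
    {s : K'} (hs : IsIntegral P.O s) {a : K'} (ha : a ∈ Algebra.adjoin P.O ({s} : Set K')) :
    IsIntegral P.O a := by
  have hle : Algebra.adjoin P.O ({s} : Set K') ≤ integralClosure P.O K' :=
    Algebra.adjoin_le (Set.singleton_subset_iff.mpr hs)
  exact hle ha

/-- **Euler**: an element of the dual of `O_P[s]` is `f'(s)⁻¹ a` with `a ∈ O_P[s]`. -/
theorem exists_eq_inv_mul_of_dual [FiniteDimensional K K'] [Algebra.IsSeparable K K']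
    (P : Place k K) [Algebra P.O K'] [IsScalarTower P.O K K'] {s : K'}
    (hs : IntermediateField.adjoin K ({s} : Set K') = ⊤) (hsi : IsIntegral P.O s) {y : K'}
    (hy : ∀ a ∈ Algebra.adjoin P.O ({s} : Set K'), P.1 (Algebra.trace K K' (y * a)) ≤ 1) :
    ∃ a ∈ Algebra.adjoin P.O ({s} : Set K'),
      y = (aeval s (derivative (minpoly K s)))⁻¹ * a := by
  have hsK : IsIntegral K s := Algebra.IsIntegral.isIntegral s
  have htop : Algebra.adjoin K ({s} : Set K') = ⊤ := by
    rw [← IntermediateField.adjoin_simple_toSubalgebra_of_isAlgebraic hsK.isAlgebraic, hs,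
      IntermediateField.top_toSubalgebra]
  have h := traceForm_dualSubmodule_adjoin P.O K htop hsi
  have hmem : y ∈ (Algebra.traceForm K K').dualSubmodule
      (Subalgebra.toSubmodule (Algebra.adjoin P.O ({s} : Set K'))) := by
    rw [LinearMap.BilinForm.mem_dualSubmodule]
    intro a ha
    rw [Submodule.mem_one]
    exact ⟨⟨_, hy a ha⟩, rfl⟩
  rw [h, Submodule.mem_smul_pointwise_iff_exists] at hmem
  obtain ⟨a, ha, hya⟩ := hmem
  exact ⟨a, ha, hya.symm⟩

/-- **Euler**, converse direction. -/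
theorem trace_inv_mul_le_one [FiniteDimensional K K'] [Algebra.IsSeparable K K']
    (P : Place k K) [Algebra P.O K'] [IsScalarTower P.O K K'] {s : K'}
    (hs : IntermediateField.adjoin K ({s} : Set K') = ⊤) (hsi : IsIntegral P.O s) {a b : K'}
    (ha : a ∈ Algebra.adjoin P.O ({s} : Set K')) (hb : b ∈ Algebra.adjoin P.O ({s} : Set K')) :
    P.1 (Algebra.trace K K' ((aeval s (derivative (minpoly K s)))⁻¹ * a * b)) ≤ 1 := by
  have hsK : IsIntegral K s := Algebra.IsIntegral.isIntegral s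
  have htop : Algebra.adjoin K ({s} : Set K') = ⊤ := by
    rw [← IntermediateField.adjoin_simple_toSubalgebra_of_isAlgebraic hsK.isAlgebraic, hs,
      IntermediateField.top_toSubalgebra]
  have h := traceForm_dualSubmodule_adjoin P.O K htop hsi
  have hmem : (aeval s (derivative (minpoly K s)))⁻¹ * a ∈ (Algebra.traceForm K K').dualSubmodule
      (Subalgebra.toSubmodule (Algebra.adjoin P.O ({s} : Set K'))) := by
    rw [h, Submodule.mem_smul_pointwise_iff_exists]
    exact ⟨a, ha, rfl⟩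
  rw [LinearMap.BilinForm.mem_dualSubmodule] at hmem
  obtain ⟨c, hc⟩ := Submodule.mem_one.mp (hmem b hb)
  rw [Algebra.traceForm_apply] at hc
  rw [← hc]
  exact c.2

/-- Residue degree one: every element of `O_Q` is congruent to an element of `O_P`. -/
theorem exists_sub_lt_one_of_residue_surjective {P : Place k K} {Q : Place k K'}
    [P.1.HasExtension Q.1]
    (hf : Function.Surjective (algebraMap (IsLocalRing.ResidueField P.O)
      (IsLocalRing.ResidueField Q.O)))
    {w : K'} (hw : Q.1 w ≤ 1) : ∃ c : K, P.1 c ≤ 1 ∧ Q.1 (w - algebraMap K K' c) < 1 := by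
  obtain ⟨cbar, hc⟩ := hf (IsLocalRing.residue Q.O ⟨w, hw⟩)
  obtain ⟨c, rfl⟩ := IsLocalRing.residue_surjective cbar
  rw [Valuation.HasExtension.algebraMap_residue_eq_residue_algebraMap P.1 Q.1] at hc
  refine ⟨c.1, c.2, ?_⟩
  have h2 : IsLocalRing.residue Q.O (⟨w, hw⟩ - algebraMap P.O Q.O c) = 0 := by
    rw [map_sub, hc, sub_self]
  rw [IsLocalRing.residue_eq_zero_iff] at h2
  have h3 := (Valuation.mem_maximalIdeal_iff (v := Q.1)).mp h2
  have h4 : ((⟨w, hw⟩ - algebraMap P.O Q.O c : Q.O) : K') = w - algebraMap K K' c.1 := by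
    rw [← Valuation.HasExtension.coe_algebraMap_valuationSubring_eq P.1 Q.1]; rfl
  rwa [h4] at h3

/-- Approximation of elements of `O_Q` by elements of `O_P[s]`, `s` a local parameter at `Q`. -/
theorem exists_adjoin_approx {P : Place k K} {Q : Place k K'} [P.1.HasExtension Q.1]
    [Algebra P.O K'] [IsScalarTower P.O K K']
    (hf : Function.Surjective (algebraMap (IsLocalRing.ResidueField P.O)
      (IsLocalRing.ResidueField Q.O)))
    {s : K'} (hs : Q.1 s = exp (-1 : ℤ)) {z : K'} (hz : Q.1 z ≤ 1) (j : ℕ) :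
    ∃ p ∈ Algebra.adjoin P.O ({s} : Set K'), Q.1 (z - p) ≤ exp (-(j : ℤ)) := by
  have hs0 : s ≠ 0 := by
    rintro rfl; rw [map_zero] at hs; exact exp_ne_zero hs.symm
  have hsmem : s ∈ Algebra.adjoin P.O ({s} : Set K') := Algebra.self_mem_adjoin_singleton _ _
  induction j with
  | zero => exact ⟨0, zero_mem _, by simpa using hz⟩
  | succ j ih =>
    obtain ⟨p, hp, hzp⟩ := ih
    have hsj : Q.1 (s ^ j) = exp (-(j : ℤ)) := by
      rw [map_pow, hs, ← exp_nsmul]; congr 1; simp
    have hw : Q.1 ((z - p) / s ^ j) ≤ 1 := by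
      rw [map_div₀, hsj]
      exact div_le_one_of_le₀ hzp zero_le'
    obtain ⟨c, hc, hwc⟩ := exists_sub_lt_one_of_residue_surjective hf hw
    refine ⟨p + algebraMap K K' c * s ^ j, ?_, ?_⟩
    · exact add_mem hp (mul_mem (algebraMap_mem_adjoin _ hc) (pow_mem hsmem j))
    · have h1 : z - (p + algebraMap K K' c * s ^ j) =
          s ^ j * ((z - p) / s ^ j - algebraMap K K' c) := by
        field_simp
        ring
      rw [h1, map_mul, hsj]
      have h2 : Q.1 ((z - p) / s ^ j - algebraMap K K' c) ≤ exp (-1 : ℤ) :=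
        (zm0_lt_one_iff _).mp hwc
      calc exp (-(j : ℤ)) * Q.1 ((z - p) / s ^ j - algebraMap K K' c)
          ≤ exp (-(j : ℤ)) * exp (-1 : ℤ) := mul_le_mul_right h2 _
        _ = exp (-((j + 1 : ℕ) : ℤ)) := by
          rw [← exp_add]; congr 1; push_cast; ring

/-- The "unit part" `b` of the minimal polynomial relation: `b ∈ O_P[s]` is a unit at `Q` and
divisible by `a₀` at the other places above `P`. -/
theorem exists_unit_small_elsewhere [FiniteDimensional K K'] {P : Place k K} {Q : Place k K'}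
    [Algebra P.O K'] [IsScalarTower P.O K K'] {e : ℕ} (he : IsOverWith Q P e)
    {s : K'} (hs : Q.1 s = exp (-1 : ℤ))
    (hs' : ∀ Q' : Place k K', IsOver Q' P → Q' ≠ Q → Q'.1 s = 1)
    (hint : ∀ i, P.1 ((minpoly K s).coeff i) ≤ 1)
    (ha0 : P.1 ((minpoly K s).coeff 0) = exp (-1 : ℤ)) :
    ∃ b ∈ Algebra.adjoin P.O ({s} : Set K'), Q.1 b = 1 ∧
      ∀ Q' : Place k K', IsOver Q' P → Q' ≠ Q →
        Q'.1 b ≤ Q'.1 (algebraMap K K' ((minpoly K s).coeff 0)) := by
  classical
  have hsK : IsIntegral K s := Algebra.IsIntegral.isIntegral s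
  set f := minpoly K s with hfdef
  set n := f.natDegree with hn
  have hmonic : f.Monic := minpoly.monic hsK
  have hex : ∃ i, P.1 (f.coeff i) = 1 := ⟨n, by rw [hn, hmonic.coeff_natDegree, map_one]⟩
  set e' := Nat.find hex with he'def
  have he' : P.1 (f.coeff e') = 1 := Nat.find_spec hex
  have hlt : ∀ i < e', P.1 (f.coeff i) ≤ exp (-1 : ℤ) := fun i hi =>
    (zm0_lt_one_iff _).mp (lt_of_le_of_ne (hint i) (Nat.find_min hex hi))
  have he'n : e' ≤ n := Nat.find_min' hex (by rw [hn, hmonic.coeff_natDegree, map_one])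
  have he'pos : 0 < e' := by
    rcases Nat.eq_zero_or_pos e' with h0 | h0
    · exfalso
      rw [h0, ha0] at he'
      exact exp_neg_one_lt_one.ne he'
    · exact h0
  obtain ⟨m, hm⟩ : ∃ m, n + 1 = e' + (m + 1) := ⟨n - e', by omega⟩
  have hsum : aeval s f = 0 := minpoly.aeval K s
  rw [aeval_eq_sum_range, ← hn, hm, Finset.sum_range_add] at hsum
  simp only [Algebra.smul_def] at hsum
  set b : K' := ∑ j ∈ Finset.range (m + 1), algebraMap K K' (f.coeff (e' + j)) * s ^ j with hb
  have hsmem : s ∈ Algebra.adjoin P.O ({s} : Set K') := Algebra.self_mem_adjoin_singleton _ _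
  have hrel : s ^ e' * b =
      -∑ i ∈ Finset.range e', algebraMap K K' (f.coeff i) * s ^ i := by
    rw [eq_neg_iff_add_eq_zero, add_comm, ← hsum, hb, Finset.mul_sum]
    congr 1
    refine Finset.sum_congr rfl fun j _ => ?_
    rw [pow_add]; ring
  have hs0 : s ≠ 0 := by
    rintro rfl; rw [map_zero] at hs; exact exp_ne_zero hs.symm
  refine ⟨b, ?_, ?_, ?_⟩
  · exact Subalgebra.sum_mem _ fun j _ =>
      mul_mem (algebraMap_mem_adjoin _ (hint _)) (pow_mem hsmem j)
  · rw [hb, Finset.sum_range_succ', pow_zero, mul_one, add_zero]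
    have h1 : Q.1 (algebraMap K K' (f.coeff e')) = 1 := by rw [he, he', one_pow]
    have h2 : Q.1 (∑ j ∈ Finset.range m,
        algebraMap K K' (f.coeff (e' + (j + 1))) * s ^ (j + 1)) < 1 := by
      refine Valuation.map_sum_lt Q.1 one_ne_zero fun j _ => ?_
      rw [map_mul, map_pow, he, hs]
      have h3 : P.1 (f.coeff (e' + (j + 1))) ^ e ≤ 1 := pow_le_one' (hint _) e
      have h4 : (exp (-1 : ℤ) : ℤᵐ⁰) ^ (j + 1) < 1 := pow_lt_one' exp_neg_one_lt_one (by omega)
      calc P.1 (f.coeff (e' + (j + 1))) ^ e * exp (-1 : ℤ) ^ (j + 1)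
          ≤ 1 * exp (-1 : ℤ) ^ (j + 1) := mul_le_mul' h3 le_rfl
        _ < 1 := by rwa [one_mul]
    rw [Valuation.map_add_eq_of_lt_right Q.1 (by rw [h1]; exact h2), h1]
  · intro Q' hQ' hne
    have hQ's : Q'.1 s = 1 := hs' Q' hQ' hne
    obtain ⟨e'', he''⟩ := hQ'
    have h1 : Q'.1 b = Q'.1 (s ^ e' * b) := by rw [map_mul, map_pow, hQ's, one_pow, one_mul]
    rw [h1, hrel, Valuation.map_neg]
    refine Valuation.map_sum_le Q'.1 fun i hi => ?_
    rw [Finset.mem_range] at hi
    rw [map_mul, map_pow, hQ's, one_pow, mul_one, he'', he'', ha0]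
    exact pow_le_pow_left₀ zero_le' (hlt i hi) e''

/-- A local parameter at `Q` which is a unit at the other places above `P` (residue degree one):
it is integral, generates `K'/K`, its minimal polynomial has coefficients in `O_P` and constant
coefficient a local parameter at `P`. -/
theorem localParameter_minpoly_facts [FiniteDimensional K K'] (hK : IsFunctionField k K)
    {P : Place k K} {Q : Place k K'} [Algebra P.O K'] [IsScalarTower P.O K K']
    (hQP : IsOver Q P) (hdeg : Q.deg = P.deg)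
    {s : K'} (hs : Q.1 s = exp (-1 : ℤ))
    (hs' : ∀ Q' : Place k K', IsOver Q' P → Q' ≠ Q → Q'.1 s = 1) :
    IsIntegral P.O s ∧ IntermediateField.adjoin K ({s} : Set K') = ⊤ ∧
      (∀ i, P.1 ((minpoly K s).coeff i) ≤ 1) ∧ P.1 ((minpoly K s).coeff 0) = exp (-1 : ℤ) := by
  classical
  have hs0 : s ≠ 0 := by
    rintro rfl; rw [map_zero] at hs; exact exp_ne_zero hs.symm
  have hsint : IsIntegral P.O s := by
    apply isIntegral_of_forall_isOver hK P
    intro Q' hQ'
    by_cases hQQ : Q' = Q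
    · rw [hQQ, hs, ← exp_zero, exp_le_exp]; norm_num
    · rw [hs' Q' hQ' hQQ]
  have hsintK : IsIntegral K s := Algebra.IsIntegral.isIntegral s
  have hmin := minpoly.isIntegrallyClosed_eq_field_fractions' K hsint
  have hint : ∀ i, P.1 ((minpoly K s).coeff i) ≤ 1 := by
    intro i
    rw [hmin, coeff_map]
    exact ((minpoly P.O s).coeff i).2
  have hfin := finite_isOver (K' := K') hK P
  have hQs : ∀ Q', Q' ∈ hfin.toFinset ↔ IsOver Q' P := fun Q' => hfin.mem_toFinset
  have hnorm := normFormula (K' := K') hK P s hfin.toFinset hQs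
  have hsum : ∑ Q' ∈ hfin.toFinset, (Q'.deg : ℤ) * Q'.ord s = (Q.deg : ℤ) := by
    rw [Finset.sum_eq_single Q]
    · rw [ord_eq_of_val_eq_exp Q hs]; simp
    · intro Q' hQ' hne
      have : Q'.ord s = 0 := by
        unfold Place.ord
        rw [hs' Q' ((hQs Q').mp hQ') hne, log_one, neg_zero]
      rw [this, mul_zero]
    · intro h; exact absurd ((hQs Q).mpr hQP) h
  rw [hsum, hdeg] at hnorm
  have hPdeg : (0 : ℤ) < (P.deg : ℤ) := by exact_mod_cast deg_pos hK P
  have hordN : P.ord (Algebra.norm K s) = 1 := by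
    have : (P.deg : ℤ) * P.ord (Algebra.norm K s) = (P.deg : ℤ) * 1 := by rw [hnorm, mul_one]
    exact mul_left_cancel₀ hPdeg.ne' this
  have hNN := Algebra.norm_eq_norm_adjoin K s
  set pb := IntermediateField.adjoin.powerBasis hsintK with hpb
  have hgen : Algebra.norm K (IntermediateField.AdjoinSimple.gen K s) =
      (-1) ^ pb.dim * (minpoly K s).coeff 0 := by
    have := Algebra.PowerBasis.norm_gen_eq_coeff_zero_minpoly pb
    rw [hpb, IntermediateField.adjoin.powerBasis_gen, IntermediateField.minpoly_gen] at this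
    exact this
  set r := Module.finrank (IntermediateField.adjoin K ({s} : Set K')) K' with hr
  rw [hNN, ord_pow] at hordN
  have hr1 : (r : ℤ) = 1 := Int.eq_one_of_mul_eq_one_right (by positivity) hordN
  have hordgen : P.ord (Algebra.norm K (IntermediateField.AdjoinSimple.gen K s)) = 1 := by
    rw [hr1, one_mul] at hordN; exact hordN
  have htop : IntermediateField.adjoin K ({s} : Set K') = ⊤ := by
    rw [← IntermediateField.finrank_eq_one_iff_eq_top]
    exact_mod_cast hr1
  have ha0ne : (minpoly K s).coeff 0 ≠ 0 := minpoly.coeff_zero_ne_zero hsintK hs0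
  have ha0 : P.1 ((minpoly K s).coeff 0) = exp (-1 : ℤ) := by
    have h1 : P.1 ((-1 : K) ^ pb.dim) = 1 := by
      rw [map_pow, Valuation.map_neg, map_one, one_pow]
    have h2 : P.ord ((minpoly K s).coeff 0) = 1 := by
      rw [hgen] at hordgen
      unfold Place.ord at hordgen ⊢
      rwa [map_mul, h1, one_mul] at hordgen
    rw [val_eq_exp_neg_ord P ha0ne, h2]
  exact ⟨hsint, htop, hint, ha0⟩

/-- A nonzero element integral over `O_P` divides, in `O_P[δ]`, a nonzero element of `O_P`. -/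
theorem exists_const_eq_mul_of_isIntegral {P : Place k K} [Algebra P.O K'] [IsScalarTower P.O K K']
    {δ : K'} (hδ : IsIntegral P.O δ) (hδ0 : δ ≠ 0) :
    ∃ c : K, c ≠ 0 ∧ P.1 c ≤ 1 ∧ ∃ a ∈ Algebra.adjoin P.O ({δ} : Set K'),
      algebraMap K K' c = δ * a := by
  set μ := minpoly P.O δ with hμ
  have hδK : IsIntegral K δ := hδ.tower_top
  have hmin := minpoly.isIntegrallyClosed_eq_field_fractions' K hδ
  have hc0 : algebraMap P.O K (μ.coeff 0) ≠ 0 := by
    have := minpoly.coeff_zero_ne_zero hδK hδ0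
    rwa [hmin, coeff_map] at this
  refine ⟨algebraMap P.O K (μ.coeff 0), hc0, (μ.coeff 0).2, -aeval δ (divX μ), ?_, ?_⟩
  · exact neg_mem (aeval_mem_adjoin_singleton _ _)
  · have h1 : aeval δ μ = 0 := minpoly.aeval P.O δ
    rw [← divX_mul_X_add μ, map_add, map_mul, aeval_X, aeval_C] at h1
    rw [← IsScalarTower.algebraMap_apply P.O K K']
    linear_combination h1

/-- **Conductor argument.** There is `β ∈ O_P[s]`, a unit at `Q`, multiplying the integral closure
of `O_P` into `O_P[s]`. -/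
theorem exists_conductor_unit [FiniteDimensional K K'] [Algebra.IsSeparable K K']
    (hK : IsFunctionField k K)
    {P : Place k K} {Q : Place k K'} [P.1.HasExtension Q.1] [Algebra P.O K'] [IsScalarTower P.O K K']
    {e : ℕ} (he : IsOverWith Q P e)
    (hf : Function.Surjective (algebraMap (IsLocalRing.ResidueField P.O)
      (IsLocalRing.ResidueField Q.O)))
    {s : K'} (hs : Q.1 s = exp (-1 : ℤ))
    (hs' : ∀ Q' : Place k K', IsOver Q' P → Q' ≠ Q → Q'.1 s = 1) :
    ∃ β ∈ Algebra.adjoin P.O ({s} : Set K'), Q.1 β = 1 ∧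
      ∀ z : K', IsIntegral P.O z → β * z ∈ Algebra.adjoin P.O ({s} : Set K') := by
  classical
  have hQP : IsOver Q P := ⟨e, he⟩
  obtain ⟨hsi, htop, hint, ha0⟩ :=
    localParameter_minpoly_facts hK hQP (deg_eq_of_residue_surjective hf) hs hs'
  obtain ⟨b, hbA, hbQ, hbQ'⟩ := exists_unit_small_elsewhere he hs hs' hint ha0
  set a₀ : K := (minpoly K s).coeff 0 with ha₀
  set A := Algebra.adjoin P.O ({s} : Set K') with hA
  have ha₀0 : a₀ ≠ 0 := by
    intro h; rw [h, map_zero] at ha0; exact exp_ne_zero ha0.symm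
  have ha₀K' : algebraMap K K' a₀ ≠ 0 := (_root_.map_ne_zero _).mpr ha₀0
  have ha₀A : algebraMap K K' a₀ ∈ A := algebraMap_mem_adjoin _ (hint 0)
  have hQa₀ : Q.1 (algebraMap K K' a₀) = exp (-(e : ℤ)) := by
    rw [he, ha0, ← exp_nsmul]; congr 1; simp
  have hAint : ∀ a ∈ A, IsIntegral P.O a := fun a ha => isIntegral_of_mem_adjoin hsi ha
  -- Step 1
  have step1 : ∀ z : K', IsIntegral P.O z → ∃ p ∈ A, ∃ r : K', IsIntegral P.O r ∧
      b * z = p + algebraMap K K' a₀ * r := by
    intro z hz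
    obtain ⟨p₀, hp₀, hzp⟩ := exists_adjoin_approx hf hs (val_le_one_of_isIntegral_place hQP hz) e
    have hdiff : IsIntegral P.O (z - p₀) := hz.sub (hAint p₀ hp₀)
    refine ⟨b * p₀, mul_mem hbA hp₀, b * (z - p₀) / algebraMap K K' a₀, ?_, ?_⟩
    · apply isIntegral_of_forall_isOver hK P
      intro Q' hQ'
      rw [map_div₀, map_mul]
      by_cases hQQ : Q' = Q
      · rw [hQQ, hbQ, one_mul, hQa₀]
        exact div_le_one_of_le₀ hzp zero_le'
      · have h1 := hbQ' Q' hQ' hQQ
        have h2 := val_le_one_of_isIntegral_place hQ' hdiff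
        have h3 : Q'.1 (algebraMap K K' a₀) ≠ 0 := (Valuation.ne_zero_iff _).mpr ha₀K'
        rw [div_le_one₀ (zero_lt_iff.mpr h3)]
        calc Q'.1 b * Q'.1 (z - p₀) ≤ Q'.1 (algebraMap K K' a₀) * 1 := mul_le_mul' h1 h2
          _ = _ := mul_one _
    · field_simp
      ring
  -- Step 2
  have step2 : ∀ m : ℕ, ∀ z : K', IsIntegral P.O z → ∃ p ∈ A, ∃ r : K', IsIntegral P.O r ∧
      b ^ m * z = p + algebraMap K K' a₀ ^ m * r := by
    intro m
    induction m with
    | zero => intro z hz; exact ⟨0, zero_mem _, z, hz, by simp⟩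
    | succ m ih =>
      intro z hz
      obtain ⟨p, hp, r, hr, h1⟩ := ih z hz
      obtain ⟨p', hp', r', hr', h2⟩ := step1 r hr
      refine ⟨b * p + algebraMap K K' a₀ ^ m * p',
        add_mem (mul_mem hbA hp) (mul_mem (pow_mem ha₀A m) hp'), r', hr', ?_⟩
      linear_combination b * h1 + algebraMap K K' a₀ ^ m * h2
  -- Step 3
  set δ := aeval s (derivative (minpoly K s)) with hδ
  have hδ0 : δ ≠ 0 :=
    (Algebra.IsSeparable.isSeparable K s).aeval_derivative_ne_zero (minpoly.aeval K s)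
  have hδA : δ ∈ A := by
    have hmin := minpoly.isIntegrallyClosed_eq_field_fractions' K hsi
    rw [hδ, hmin, derivative_map, aeval_map_algebraMap]
    exact aeval_mem_adjoin_singleton _ _
  have hδR : ∀ r : K', IsIntegral P.O r → δ * r ∈ A := by
    intro r hr
    obtain ⟨a, ha, hra⟩ := exists_eq_inv_mul_of_dual P htop hsi (y := r) (fun a ha => by
      have h1 : IsIntegral P.O (r * a) := hr.mul (hAint a ha)
      have h2 : IsIntegral P.O (Algebra.trace K K' (r * a)) := Algebra.isIntegral_trace h1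
      obtain ⟨c, hc⟩ := IsIntegrallyClosed.isIntegral_iff.mp h2
      rw [← hc]; exact c.2)
    rw [hra, ← mul_assoc, mul_inv_cancel₀ hδ0, one_mul]; exact ha
  obtain ⟨c, hc0, hc1, a, ha, hca⟩ := exists_const_eq_mul_of_isIntegral (hAint δ hδA) hδ0
  have haA : a ∈ A := (Algebra.adjoin_le (Set.singleton_subset_iff.mpr hδA)) ha
  have hcR : ∀ r, IsIntegral P.O r → algebraMap K K' c * r ∈ A := by
    intro r hr
    rw [hca, mul_assoc]
    exact hδR _ ((hAint a haA).mul hr)
  have hord : 0 ≤ P.ord c := by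
    have := val_eq_exp_neg_ord P hc0
    rw [this, ← exp_zero, exp_le_exp] at hc1; omega
  set m := (P.ord c).toNat with hmdef
  have hm : ((m : ℕ) : ℤ) = P.ord c := Int.toNat_of_nonneg hord
  have hPc : P.1 c = exp (-(m : ℤ)) := by rw [hm]; exact val_eq_exp_neg_ord P hc0
  have hamR : ∀ r, IsIntegral P.O r → algebraMap K K' a₀ ^ m * r ∈ A := by
    intro r hr
    have hu : P.1 (a₀ ^ m / c) ≤ 1 := by
      rw [map_div₀, map_pow, ha0, hPc, ← exp_nsmul]
      apply le_of_eq
      rw [div_eq_one_iff_eq exp_ne_zero]; congr 1; simp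
    have : algebraMap K K' a₀ ^ m * r =
        algebraMap K K' (a₀ ^ m / c) * (algebraMap K K' c * r) := by
      rw [← mul_assoc, ← map_mul, div_mul_cancel₀ _ hc0, map_pow]
    rw [this]
    exact mul_mem (algebraMap_mem_adjoin _ hu) (hcR r hr)
  refine ⟨b ^ m, pow_mem hbA m, by rw [map_pow, hbQ, one_pow], ?_⟩
  intro z hz
  obtain ⟨p, hp, r, hr, h⟩ := step2 m z hz
  rw [h]
  exact add_mem hp (hamR r hr)

/-- Existence of a local parameter at `Q` which is a unit at the other places above `P`. -/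
theorem exists_localParameter_unit_elsewhere [FiniteDimensional K K'] (hK : IsFunctionField k K)
    (P : Place k K) (Q : Place k K') :
    ∃ s : K', Q.1 s = exp (-1 : ℤ) ∧
      ∀ Q' : Place k K', IsOver Q' P → Q' ≠ Q → Q'.1 s = 1 := by
  classical
  have hfin := finite_isOver (K' := K') hK P
  obtain ⟨s, hsall⟩ := exists_approx_eq (insert Q hfin.toFinset)
    (fun Q' => if Q' = Q then 0 else 1) (fun _ => -1)
  refine ⟨s, ?_, ?_⟩
  · have := hsall Q (Finset.mem_insert_self _ _)
    simpa using this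
  · intro Q' hQ' hne
    have h1 := hsall Q' (Finset.mem_insert_of_mem (hfin.mem_toFinset.mpr hQ'))
    rw [if_neg hne] at h1
    have : s = (s - 1) + 1 := by ring
    rw [this, Valuation.map_add_eq_of_lt_right Q'.1
      (by rw [h1, map_one]; exact exp_neg_one_lt_one), map_one]

end TraceDual

section Main

variable {k : Type u} {K K' : Type v} {F F' : Type w} [Field k] [Field K] [Field K'] [Algebra k K]
  [Algebra K K'] [Algebra k K'] [IsScalarTower k K K'] [Field F] [Algebra k F] [Field F']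
  [Algebra k F']

/-- **S12574.** `min_{y ∈ R^*} v_Q(y) = -d(Q|P)`. -/
theorem traceDual_min_valuation_eq_diffExp [FiniteDimensional K K'] [Algebra.IsSeparable K K']
    (hK : IsFunctionField k K) (hg : IsGeometric k K)
    {P : Place k K} {Q : Place k K'} {e : ℕ} (he : IsOverWith Q P e)
    (φ : K →ₐ[k] F⸨X⸩) (hφ : IsExpansionAt P.1 φ) (ψ : K' →ₐ[k] F'⸨X⸩) (hψ : IsExpansionAt Q.1 ψ)
    {x : K} (hx : vDiff φ 1 x ≠ 0) (hx' : vDiff ψ 1 (algebraMap K K' x) ≠ 0)
    [P.1.HasExtension Q.1]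
    (hf : Function.Surjective (algebraMap (IsLocalRing.ResidueField P.O)
      (IsLocalRing.ResidueField Q.O)))
    [Algebra P.O K'] [IsScalarTower P.O K K'] :
    (∀ y : K', (∀ z : K', IsIntegral P.O z → P.1 (Algebra.trace K K' (y * z)) ≤ 1) →
      Q.1 y ≤ exp (diffExp φ ψ e x)) ∧
    ∃ y : K', (∀ z : K', IsIntegral P.O z → P.1 (Algebra.trace K K' (y * z)) ≤ 1) ∧
      Q.1 y = exp (diffExp φ ψ e x) := by
  classical
  have hQP : IsOver Q P := ⟨e, he⟩
  obtain ⟨s, hs, hs'⟩ := exists_localParameter_unit_elsewhere hK P Q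
  obtain ⟨htop, hord⟩ :=
    ord_derivative_minpoly_localParameter_eq_diffExp hK hg he φ hφ ψ hψ hx hx' hf hs hs'
  obtain ⟨hsi, -, hint, ha0⟩ :=
    localParameter_minpoly_facts hK hQP (deg_eq_of_residue_surjective hf) hs hs'
  set δ := aeval s (derivative (minpoly K s)) with hδ
  have hδ0 : δ ≠ 0 :=
    (Algebra.IsSeparable.isSeparable K s).aeval_derivative_ne_zero (minpoly.aeval K s)
  have hQδ : Q.1 δ⁻¹ = exp (diffExp φ ψ e x) := by
    rw [map_inv₀, val_eq_exp_neg_ord Q hδ0, hord, ← exp_neg, neg_neg]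
  refine ⟨?_, ?_⟩
  · intro y hy
    obtain ⟨a, ha, hya⟩ := exists_eq_inv_mul_of_dual P htop hsi
      (fun a ha => hy a (isIntegral_of_mem_adjoin hsi ha))
    rw [hya, map_mul, hQδ]
    have h1 : Q.1 a ≤ 1 := val_le_one_of_isIntegral_place hQP (isIntegral_of_mem_adjoin hsi ha)
    calc exp (diffExp φ ψ e x) * Q.1 a ≤ exp (diffExp φ ψ e x) * 1 := mul_le_mul_right h1 _
      _ = _ := mul_one _
  · obtain ⟨β, hβA, hβQ, hβ⟩ := exists_conductor_unit hK he hf hs hs'
    refine ⟨δ⁻¹ * β, ?_, by rw [map_mul, hQδ, hβQ, mul_one]⟩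
    intro z hz
    have := trace_inv_mul_le_one P htop hsi (hβ z hz) (one_mem _)
    rwa [mul_one, ← mul_assoc] at this

/-- Variant of `exists_mul_isIntegral` with `w` itself integral. -/
theorem exists_isIntegral_mul_isIntegral [FiniteDimensional K K'] (hK : IsFunctionField k K)
    (P : Place k K) [Algebra P.O K'] [IsScalarTower P.O K K'] {Q : Place k K'} (hQ : IsOver Q P)
    {y : K'} (hy : Q.1 y ≤ 1) :
    ∃ w : K', Q.1 w = 1 ∧ IsIntegral P.O w ∧ IsIntegral P.O (w * y) := by
  classical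
  have hfin := finite_isOver (K' := K') hK P
  set S := hfin.toFinset.erase Q with hS
  have hQS : Q ∉ S := Finset.notMem_erase _ _
  let b : Place k K' → ℤᵐ⁰ := fun Q' => if Q'.1 y ≤ 1 then 1 else (Q'.1 y)⁻¹
  have hb : ∀ Q' ∈ S, b Q' ≠ 0 := by
    intro Q' _
    by_cases h : Q'.1 y ≤ 1
    · simp [b, h]
    · simp only [b, h, if_false]
      have : Q'.1 y ≠ 0 := by
        intro h0; apply h; rw [h0]; exact zero_le'
      exact inv_ne_zero this
  obtain ⟨d, hd0, hd⟩ := zm0_exists_ne_zero_forall_le S b hb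
  have hd'0 : min d 1 ≠ 0 := by
    rw [Ne, min_eq_iff]
    rintro (⟨h, -⟩ | ⟨h, -⟩)
    · exact hd0 h
    · exact one_ne_zero h
  obtain ⟨w, hwQ, hwS⟩ := exists_approx_one Q S hQS hd'0
  have hwQ1 : Q.1 (w - 1) < 1 := lt_of_lt_of_le hwQ (min_le_right _ _)
  have hw1 : Q.1 w = 1 := by
    have : w = (w - 1) + 1 := by ring
    rw [this, Valuation.map_add_eq_of_lt_right Q.1 (by rw [map_one]; exact hwQ1), map_one]
  refine ⟨w, hw1, ?_, ?_⟩
  · apply isIntegral_of_forall_isOver hK P
    intro Q' hQ'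
    by_cases hQQ : Q' = Q
    · rw [hQQ, hw1]
    · have hmem : Q' ∈ S := Finset.mem_erase.mpr ⟨hQQ, hfin.mem_toFinset.mpr hQ'⟩
      exact ((hwS Q' hmem).le.trans (min_le_right _ _))
  · apply isIntegral_of_forall_isOver hK P
    intro Q' hQ'
    by_cases hQQ : Q' = Q
    · rw [hQQ, map_mul, hw1, one_mul]
      exact hy
    · have hmem : Q' ∈ S := Finset.mem_erase.mpr ⟨hQQ, hfin.mem_toFinset.mpr hQ'⟩
      have h1 : Q'.1 w < min d 1 := hwS Q' hmem
      have h2 : d ≤ b Q' := hd Q' hmem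
      rw [map_mul]
      by_cases h : Q'.1 y ≤ 1
      · exact (mul_le_mul' (h1.le.trans (min_le_right _ _)) h).trans_eq (one_mul 1)
      · simp only [b, h, if_false] at h2
        have hy0 : Q'.1 y ≠ 0 := by
          intro h0; apply h; rw [h0]; exact zero_le'
        calc Q'.1 w * Q'.1 y ≤ (Q'.1 y)⁻¹ * Q'.1 y :=
              mul_le_mul_left ((h1.le.trans (min_le_left _ _)).trans h2) _
          _ = 1 := inv_mul_cancel₀ hy0

/-- **S12575.** `v_Q(g'(y)) ≥ d(Q|P)`, and in case of equality `O_Q` is a localisation of `O_P[y]`. -/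
theorem diffExp_le_ord_derivative_minpoly [FiniteDimensional K K'] [Algebra.IsSeparable K K']
    (hK : IsFunctionField k K) (hg : IsGeometric k K)
    {P : Place k K} {Q : Place k K'} {e : ℕ} (he : IsOverWith Q P e)
    (φ : K →ₐ[k] F⸨X⸩) (hφ : IsExpansionAt P.1 φ) (ψ : K' →ₐ[k] F'⸨X⸩) (hψ : IsExpansionAt Q.1 ψ)
    {x : K} (hx : vDiff φ 1 x ≠ 0) (hx' : vDiff ψ 1 (algebraMap K K' x) ≠ 0)
    [P.1.HasExtension Q.1]
    (hf : Function.Surjective (algebraMap (IsLocalRing.ResidueField P.O)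
      (IsLocalRing.ResidueField Q.O)))
    [Algebra P.O K'] [IsScalarTower P.O K K']
    {y : K'} (hy : IntermediateField.adjoin K ({y} : Set K') = ⊤) (hyi : IsIntegral P.O y) :
    diffExp φ ψ e x ≤ Q.ord (aeval y (derivative (minpoly K y))) ∧
    (Q.ord (aeval y (derivative (minpoly K y))) = diffExp φ ψ e x →
      ∀ z : K', Q.1 z ≤ 1 → ∃ a ∈ Algebra.adjoin P.O ({y} : Set K'),
        ∃ b ∈ Algebra.adjoin P.O ({y} : Set K'), Q.1 b = 1 ∧ z * b = a) := by
  classical
  have hQP : IsOver Q P := ⟨e, he⟩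
  obtain ⟨-, u, hu, hQu⟩ := traceDual_min_valuation_eq_diffExp hK hg he φ hφ ψ hψ hx hx' hf
  set δ := aeval y (derivative (minpoly K y)) with hδ
  have hδ0 : δ ≠ 0 :=
    (Algebra.IsSeparable.isSeparable K y).aeval_derivative_ne_zero (minpoly.aeval K y)
  have hQδ : Q.1 δ = exp (-(Q.ord δ)) := val_eq_exp_neg_ord Q hδ0
  obtain ⟨a, ha, hua⟩ := exists_eq_inv_mul_of_dual P hy hyi
    (fun a ha => hu a (isIntegral_of_mem_adjoin hyi ha))
  have haQ : Q.1 a ≤ 1 := val_le_one_of_isIntegral_place hQP (isIntegral_of_mem_adjoin hyi ha)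
  have hprod : exp (diffExp φ ψ e x) = exp (Q.ord δ) * Q.1 a := by
    rw [← hQu, hua, map_mul, map_inv₀, hQδ, ← exp_neg, neg_neg]
  have hle : diffExp φ ψ e x ≤ Q.ord δ := by
    have h1 : exp (diffExp φ ψ e x) ≤ (exp (Q.ord δ) : ℤᵐ⁰) := by
      rw [hprod]
      calc exp (Q.ord δ) * Q.1 a ≤ exp (Q.ord δ) * 1 := mul_le_mul_right haQ _
        _ = _ := mul_one _
    exact exp_le_exp.mp h1
  refine ⟨hle, ?_⟩
  intro heq z hz
  have haQ1 : Q.1 a = 1 := by
    rw [heq] at hprod
    have h0 : (exp (diffExp φ ψ e x) : ℤᵐ⁰) ≠ 0 := exp_ne_zero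
    have : exp (diffExp φ ψ e x) * Q.1 a = exp (diffExp φ ψ e x) * 1 := by
      rw [← hprod, mul_one]
    exact mul_left_cancel₀ h0 this
  have haR : ∀ r : K', IsIntegral P.O r → a * r ∈ Algebra.adjoin P.O ({y} : Set K') := by
    intro r hr
    obtain ⟨a', ha', hra⟩ := exists_eq_inv_mul_of_dual P hy hyi (y := u * r) (fun c hc => by
      have := hu (r * c) (hr.mul (isIntegral_of_mem_adjoin hyi hc))
      rwa [← mul_assoc] at this)
    have : a * r = a' := by
      have h1 : a = δ * u := by rw [hua, ← mul_assoc, mul_inv_cancel₀ hδ0, one_mul]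
      rw [h1, mul_assoc, hra, ← mul_assoc, mul_inv_cancel₀ hδ0, one_mul]
    rw [this]; exact ha'
  obtain ⟨w, hw1, hwi, hwz⟩ := exists_isIntegral_mul_isIntegral hK P hQP hz
  refine ⟨a * (w * z) * a, mul_mem (haR _ hwz) ha, a * w * a, mul_mem (haR _ hwi) ha, ?_, ?_⟩
  · rw [map_mul, map_mul, haQ1, hw1, one_mul, one_mul]
  · ring

end Main

end Groth.Agent.Lib.Helper24.FFExt
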