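import Groth.Agent.Lib.Helper24.FFExt.Weak2

/-! # Inertia groups over a weak base; total ramification over the inertia field (helper24) -/

set_option autoImplicit false

namespace Groth.Agent.Lib.Helper24.FFExt

open FunFld WithZero IntermediateField Groth.Agent.Lib.Helper18.FF

open scoped Pointwise

section

variable {k K K' : Type*} [Field k] [Field K] [Field K'] [Algebra k K] [Algebra K K'] [Algebra k K']
  [IsScalarTower k K K']

theorem WeakFF.card_decomposition_mul_deg [FiniteDimensional K K'] [IsGalois K K'] (hW : WeakFF k K)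
    {Q : Place k K'} {P : Place k K} {e : ℕ} (he : IsOverWith Q P e) :
    Nat.card ((Q.O).decompositionSubgroup K) * P.deg = e * Q.deg := by
  have h := Groth.Agent.Lib.Helper24.FFExt.card_decomposition_mul_deg hW.isFunctionField_kc
    (isOverWith_toAlg_iff.mpr he)
  have h1 : Nat.card ((Q.O).decompositionSubgroup K) *
      (toAlg (algebraicClosure k K) P).deg = e * (toAlg (algebraicClosure k K) Q).deg := h
  rw [deg_eq_mul_deg_toAlg (algebraicClosure k K) P, deg_eq_mul_deg_toAlg (algebraicClosure k K) Q,
    mul_left_comm, h1]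
  ring

theorem WeakFF.card_inertia [FiniteDimensional K K'] [IsGalois K K'] (hW : WeakFF k K)
    {Q : Place k K'} {P : Place k K} {e : ℕ} (he : IsOverWith Q P e)
    [hsepk : Algebra.IsSeparable k (IsLocalRing.ResidueField Q.O)] :
    Nat.card ((Q.O).inertiaSubgroup K) = e := by
  let a2 : Algebra (algebraicClosure k K) (IsLocalRing.ResidueField Q.O) :=
    Place.algRes (toAlg (algebraicClosure k K) Q)
  have htower : @IsScalarTower k (algebraicClosure k K) (IsLocalRing.ResidueField Q.O)
      Algebra.toSMul a2.toSMul (Place.algRes Q).toSMul :=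
    @IsScalarTower.of_algebraMap_eq k (algebraicClosure k K) (IsLocalRing.ResidueField Q.O) _ _ _ _
      a2 (Place.algRes Q) (fun c => by
        show IsLocalRing.residue _ (algebraMap k Q.O c) =
          IsLocalRing.residue _ (algebraMap (algebraicClosure k K) (toAlg (algebraicClosure k K) Q).O
            (algebraMap k (algebraicClosure k K) c))
        congr 1
        apply Subtype.ext
        exact IsScalarTower.algebraMap_apply k K K' c)
  have hsepc : @Algebra.IsSeparable (algebraicClosure k K)
      (IsLocalRing.ResidueField Q.O) _ _ a2 :=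
    @Algebra.isSeparable_tower_top_of_isSeparable k (algebraicClosure k K) _
      (IsLocalRing.ResidueField Q.O) _ _ _ (Place.algRes Q) a2 htower hsepk
  exact @Groth.Agent.Lib.Helper24.FFExt.card_inertia (algebraicClosure k K) K K' _ _ _ _ _ _ _ _ _
    hW.isFunctionField_kc (toAlg (algebraicClosure k K) Q) (toAlg (algebraicClosure k K) P) e
    (isOverWith_toAlg_iff.mpr he) hsepc

end

end Groth.Agent.Lib.Helper24.FFExt

namespace Groth.Agent.Lib.Helper24.FFExt

open FunFld WithZero IntermediateField Groth.Agent.Lib.Helper18.FF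

open scoped Pointwise

variable {k K K' : Type*} [Field k] [Field K] [Field K'] [Algebra k K] [Algebra K K'] [Algebra k K']
  [IsScalarTower k K K']

instance isScalarTower_intermediate (E : IntermediateField K K') : IsScalarTower k E K' :=
  IsScalarTower.of_algebraMap_eq fun _ => rfl

/-- Every automorphism over the inertia field lies in the inertia group over the inertia field. -/
theorem inertia_over_inertiaField_eq_top [FiniteDimensional K K'] [IsGalois K K'] (Q : Place k K') :
    Nat.card ((Q.O).inertiaSubgroup (IntermediateField.fixedField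
      (((Q.O).inertiaSubgroup K).map ((Q.O).decompositionSubgroup K).subtype))) =
    Nat.card (K' ≃ₐ[IntermediateField.fixedField
      (((Q.O).inertiaSubgroup K).map ((Q.O).decompositionSubgroup K).subtype)] K') := by
  set I' := ((Q.O).inertiaSubgroup K).map ((Q.O).decompositionSubgroup K).subtype with hI'
  set K₁ := IntermediateField.fixedField I' with hK₁
  have hfix : K₁.fixingSubgroup = I' := IntermediateField.fixingSubgroup_fixedField I'
  -- every `τ` comes from some `σ` in the inertia group
  have hσ : ∀ τ : K' ≃ₐ[K₁] K', ∃ σ : (Q.O).decompositionSubgroup K,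
      σ ∈ (Q.O).inertiaSubgroup K ∧ ∀ x : K', (σ : K' ≃ₐ[K] K') x = τ x := by
    intro τ
    have hmem : τ.restrictScalars K ∈ K₁.fixingSubgroup := by
      rw [IntermediateField.mem_fixingSubgroup_iff]
      intro x hx
      exact τ.commutes ⟨x, hx⟩
    rw [hfix, hI', Subgroup.mem_map] at hmem
    obtain ⟨σ, hσI, hσeq⟩ := hmem
    refine ⟨σ, hσI, fun x => ?_⟩
    have : ((Q.O).decompositionSubgroup K).subtype σ x = τ.restrictScalars K x := by rw [hσeq]
    exact this
  have hD : ∀ τ : K' ≃ₐ[K₁] K', τ ∈ (Q.O).decompositionSubgroup K₁ := by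
    intro τ
    obtain ⟨σ, -, hστ⟩ := hσ τ
    rw [MulAction.mem_stabilizer_iff]
    have hσ2 : (σ : K' ≃ₐ[K] K') • Q.O = Q.O := σ.2
    ext x
    rw [ValuationSubring.mem_smul_pointwise_iff_exists]
    conv_rhs => rw [← hσ2, ValuationSubring.mem_smul_pointwise_iff_exists]
    constructor
    · rintro ⟨a, ha, rfl⟩
      exact ⟨a, ha, hστ a⟩
    · rintro ⟨a, ha, rfl⟩
      exact ⟨a, ha, (hστ a).symm⟩
  have hI : ∀ τ : (Q.O).decompositionSubgroup K₁, τ ∈ (Q.O).inertiaSubgroup K₁ := by
    intro τ
    obtain ⟨σ, hσI, hστ⟩ := hσ τ.1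
    show MulSemiringAction.toRingAut _ _ τ = 1
    ext y
    obtain ⟨x, rfl⟩ := IsLocalRing.residue_surjective y
    show τ • IsLocalRing.residue Q.O x = IsLocalRing.residue Q.O x
    have h1 : τ • IsLocalRing.residue Q.O x = σ • IsLocalRing.residue Q.O x := by
      rw [← IsLocalRing.ResidueField.residue_smul, ← IsLocalRing.ResidueField.residue_smul]
      congr 1
      apply Subtype.ext
      exact (hστ x.1).symm
    rw [h1]
    have h2 : MulSemiringAction.toRingAut _ (IsLocalRing.ResidueField Q.O) σ = 1 := hσI
    exact congrArg (fun f : RingAut (IsLocalRing.ResidueField Q.O) => f (IsLocalRing.residue Q.O x)) h2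
  have h1 : (Q.O).inertiaSubgroup K₁ = ⊤ := by
    rw [eq_top_iff]; intro τ _; exact hI τ
  have h2 : (Q.O).decompositionSubgroup K₁ = ⊤ := by
    rw [eq_top_iff]; intro τ _; exact hD τ
  rw [h1, Subgroup.card_top, h2, Subgroup.card_top]

/-- `K'` is totally ramified at `Q` over the inertia field of `Q`. -/
theorem exists_isOverWith_inertiaField [FiniteDimensional K K'] [IsGalois K K']
    (hK : IsFunctionField k K) (Q : Place k K')
    [Algebra.IsSeparable k (IsLocalRing.ResidueField Q.O)] :
    ∃ Q₁ : Place k (IntermediateField.fixedField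
        (((Q.O).inertiaSubgroup K).map ((Q.O).decompositionSubgroup K).subtype)),
      IsOverWith Q Q₁ (Module.finrank (IntermediateField.fixedField
        (((Q.O).inertiaSubgroup K).map ((Q.O).decompositionSubgroup K).subtype)) K') := by
  set K₁ := IntermediateField.fixedField
    (((Q.O).inertiaSubgroup K).map ((Q.O).decompositionSubgroup K).subtype) with hK₁
  have hW₁ : WeakFF k K₁ := (IsFunctionField.weakFF hK).of_finite
  obtain ⟨Q₁, hQ₁⟩ := hW₁.exists_isOver Q
  have he := isOver_isOverWith_ramIdx hQ₁
  have hcard := hW₁.card_inertia he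
  rw [inertia_over_inertiaField_eq_top Q, IsGalois.card_aut_eq_finrank] at hcard
  refine ⟨Q₁, ?_⟩
  rw [hcard]
  exact he

end Groth.Agent.Lib.Helper24.FFExt
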