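import Groth.Agent.Lib.Helper24.FFExt.ExpSep
import Groth.Agent.Lib.Helper24.FFExt.Weak3
import Groth.Agent.Lib.Helper24.FFExt.RamGroup3
import Groth.Agent.Lib.Helper24.FFExt.TraceDual

/-! # Hilbert's different formula (helper24) -/

set_option autoImplicit false

namespace Groth.Agent.Lib.Helper24.FFExt

open FunFld WithZero LocRes LaurentSeries Polynomial Groth.Agent.Lib.Helper18.FF

universe u v w

section Deriv

variable {k : Type u} {L : Type v} [Field k] [Field L] [Algebra k L]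

theorem val_aeval_const_le_one (P : Place k L) {x : L} (hx : P.1 x ≤ 1) (g : k[X]) :
    P.1 (aeval x g) ≤ 1 := by
  have h3 : aeval x g = ((aeval (⟨x, hx⟩ : P.O) g : P.O) : L) :=
    Polynomial.aeval_algHom_apply (valAlgHom P) (⟨x, hx⟩ : P.O) g
  rw [h3]
  exact (aeval (⟨x, hx⟩ : P.O) g).2

theorem val_aeval_lt_one_iff_residue (P : Place k L) {x : L} (hx : P.1 x ≤ 1) (g : k[X]) :
    P.1 (aeval x g) < 1 ↔ aeval (IsLocalRing.residue P.O ⟨x, hx⟩) g = 0 := by
  have h2 := Polynomial.aeval_algHom_apply (resAlgHom P) (⟨x, hx⟩ : P.O) g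
  have h3 : aeval x g = ((aeval (⟨x, hx⟩ : P.O) g : P.O) : L) :=
    Polynomial.aeval_algHom_apply (valAlgHom P) (⟨x, hx⟩ : P.O) g
  rw [h3, ← Valuation.mem_maximalIdeal_iff (v := P.1), ← IsLocalRing.residue_eq_zero_iff]
  constructor
  · intro h
    have : resAlgHom P (aeval (⟨x, hx⟩ : P.O) g) = 0 := h
    rw [← h2] at this
    exact this
  · intro h
    have : resAlgHom P (aeval (⟨x, hx⟩ : P.O) g) = 0 := by
      rw [← h2]; exact h
    exact this

/-- **Derivative integrality.** If the residue field is separable over `k`, `t` is a local parameter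
and `d/dt` is bounded on the valuation ring, then `d/dt` preserves the valuation ring. -/
theorem val_deriv_le_one (Q₁ : Place k L)
    [hsep : Algebra.IsSeparable k (IsLocalRing.ResidueField Q₁.O)]
    {t : L} (ht : Q₁.1 t = exp (-1 : ℤ)) (hDt : KaehlerDifferential.D k L t ≠ 0)
    (g : L → L) (hg : ∀ a, KaehlerDifferential.D k L a = g a • KaehlerDifferential.D k L t)
    (m₀ : ℕ) (hm₀ : ∀ b, Q₁.1 b ≤ 1 → Q₁.1 (g b) ≤ exp (m₀ : ℤ)) :
    ∀ b, Q₁.1 b ≤ 1 → Q₁.1 (g b) ≤ 1 := by
  have hinj := smul_left_injective L hDt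
  have ht0 : t ≠ 0 := by
    rintro rfl; rw [map_zero] at ht; exact exp_ne_zero ht.symm
  have hg_t : g t = 1 := by
    apply hinj
    show g t • _ = (1 : L) • _
    rw [one_smul, ← hg]
  have hg_mul : ∀ a b, g (a * b) = a * g b + b * g a := by
    intro a b
    apply hinj
    show g (a * b) • _ = (a * g b + b * g a) • _
    rw [← hg, Derivation.leibniz, hg a, hg b, add_smul, mul_smul, mul_smul]
  have hg_aeval : ∀ (b : L) (μ : k[X]), g (aeval b μ) = aeval b (derivative μ) * g b := by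
    intro b μ
    apply hinj
    show g (aeval b μ) • _ = (aeval b (derivative μ) * g b) • _
    rw [← hg, Derivation.map_aeval, hg b, mul_smul]
  suffices hstep : ∀ m : ℕ, (∀ b, Q₁.1 b ≤ 1 → Q₁.1 (g b) ≤ exp ((m : ℤ) + 1)) →
      ∀ b, Q₁.1 b ≤ 1 → Q₁.1 (g b) ≤ exp (m : ℤ) by
    have hall : ∀ m : ℕ, (∀ b, Q₁.1 b ≤ 1 → Q₁.1 (g b) ≤ exp (m : ℤ)) →
        ∀ b, Q₁.1 b ≤ 1 → Q₁.1 (g b) ≤ exp ((0 : ℕ) : ℤ) := by
      intro m
      induction m with
      | zero => exact fun h => h
      | succ m ih =>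
        intro h
        apply ih
        apply hstep
        intro b hb
        have := h b hb
        push_cast at this
        exact this
    intro b hb
    have := hall m₀ hm₀ b hb
    simpa using this
  intro m H b hb
  set bbar := IsLocalRing.residue Q₁.O ⟨b, hb⟩ with hbbar
  have hint : IsIntegral k bbar := Algebra.IsSeparable.isIntegral k bbar
  have hsepb : (minpoly k bbar).Separable := Algebra.IsSeparable.isSeparable k bbar
  set μ := minpoly k bbar with hμ
  have hz : Q₁.1 (aeval b μ) < 1 :=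
    (val_aeval_lt_one_iff_residue Q₁ hb μ).mpr (minpoly.aeval k bbar)
  have hu : Q₁.1 (aeval b (derivative μ)) = 1 := by
    have h1 := val_aeval_const_le_one Q₁ hb (derivative μ)
    have h2 : ¬ Q₁.1 (aeval b (derivative μ)) < 1 := by
      rw [val_aeval_lt_one_iff_residue Q₁ hb]
      exact hsepb.aeval_derivative_ne_zero (minpoly.aeval k bbar)
    exact le_antisymm h1 (not_lt.mp h2)
  set c := aeval b μ / t with hc
  have hc1 : Q₁.1 c ≤ 1 := by
    rw [hc, map_div₀, ht]
    exact div_le_one_of_le₀ ((zm0_lt_one_iff _).mp hz) zero_le'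
  have hzc : aeval b μ = t * c := by rw [hc]; field_simp
  have hkey : aeval b (derivative μ) * g b = c + t * g c := by
    rw [← hg_aeval, hzc, hg_mul, hg_t, mul_one, add_comm]
  have hu0 : aeval b (derivative μ) ≠ 0 := by
    intro h0; rw [h0, map_zero] at hu; exact zero_ne_one hu
  have hgb : g b = (c + t * g c) / aeval b (derivative μ) := by
    rw [← hkey]; field_simp
  rw [hgb, map_div₀, hu, _root_.div_one]
  refine (Q₁.1.map_add _ _).trans (max_le ?_ ?_)
  · refine hc1.trans ?_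
    rw [← exp_zero, exp_le_exp]; positivity
  · rw [map_mul, ht]
    calc exp (-1 : ℤ) * Q₁.1 (g c) ≤ exp (-1 : ℤ) * exp ((m : ℤ) + 1) :=
          mul_le_mul_right (H c hc1) _
      _ = exp (m : ℤ) := by rw [← exp_add]; congr 1; ring

end Deriv

section Core

variable {k : Type u} {L K' : Type v} {F' : Type w} [Field k] [Field L] [Field K'] [Algebra k L]
  [Algebra L K'] [Algebra k K'] [IsScalarTower k L K'] [Field F'] [Algebra k F']

/-- **Core computation**, with the derivative `d/dt` on the lower field given abstractly. -/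
theorem val_aeval_derivative_eq_vDiff
    {Q₁ : Place k L} {Q : Place k K'} {n : ℕ} (he : IsOverWith Q Q₁ n)
    (ψ : K' →ₐ[k] F'⸨X⸩) (hψ : IsExpansionAt Q.1 ψ)
    {t : L} (ht : Q₁.1 t = exp (-1 : ℤ)) (hDt : KaehlerDifferential.D k L t ≠ 0)
    (g : L → L) (hg : ∀ a, KaehlerDifferential.D k L a = g a • KaehlerDifferential.D k L t)
    (hgint : ∀ b, Q₁.1 b ≤ 1 → Q₁.1 (g b) ≤ 1)
    {s : K'} (hs : Q.1 s = exp (-1 : ℤ)) {f : L[X]} (hfs : aeval s f = 0)
    (hint : ∀ i, Q₁.1 (f.coeff i) ≤ 1) (ha0 : Q₁.1 (f.coeff 0) = exp (-1 : ℤ)) :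
    Q.1 (aeval s (derivative f)) = vDiff ψ 1 (algebraMap L K' t) := by
  classical
  have hinj := smul_left_injective L hDt
  have ht0 : t ≠ 0 := by
    rintro rfl; rw [map_zero] at ht; exact exp_ne_zero ht.symm
  have hg_t : g t = 1 := by
    apply hinj
    show g t • _ = (1 : L) • _
    rw [one_smul, ← hg]
  have hg_mul : ∀ a b, g (a * b) = a * g b + b * g a := by
    intro a b
    apply hinj
    show g (a * b) • _ = (a * g b + b * g a) • _
    rw [← hg, Derivation.leibniz, hg a, hg b, add_smul, mul_smul, mul_smul]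
  -- `g a₀` is a unit
  have hg0 : Q₁.1 (g (f.coeff 0)) = 1 := by
    set u := f.coeff 0 / t with hu
    have hu1 : Q₁.1 u = 1 := by rw [hu, map_div₀, ha0, ht, div_self exp_ne_zero]
    have ha : f.coeff 0 = t * u := by rw [hu]; field_simp
    rw [ha, hg_mul, hg_t, mul_one]
    have h1 : Q₁.1 (t * g u) < Q₁.1 u := by
      rw [map_mul, ht, hu1]
      calc exp (-1 : ℤ) * Q₁.1 (g u) ≤ exp (-1 : ℤ) * 1 := mul_le_mul_right (hgint u hu1.le) _
        _ < 1 := by rw [mul_one]; exact exp_neg_one_lt_one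
    rw [Valuation.map_add_eq_of_lt_right Q₁.1 h1, hu1]
  -- differentiate `f(s) = 0`
  have hdiff := derivation_aeval (KaehlerDifferential.D k K') s f
  rw [hfs, map_zero] at hdiff
  set W : K' := f.sum (fun i a => s ^ i * algebraMap L K' (g a)) with hW
  have hsum : f.sum (fun i a => s ^ i • KaehlerDifferential.D k K' (algebraMap L K' a)) =
      W • KaehlerDifferential.D k K' (algebraMap L K' t) := by
    rw [hW, Polynomial.sum, Polynomial.sum, Finset.sum_smul]
    refine Finset.sum_congr rfl fun i _ => ?_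
    rw [D_algebraMap_eq_of_D_eq_smul (hg (f.coeff i)), smul_smul]
  rw [hsum] at hdiff
  letI := ψ.toRingHom.toAlgebra
  haveI : IsScalarTower k K' F'⸨X⸩ := isScalarTower_exp ψ
  have h1 := congrArg (dExp ψ).liftKaehlerDifferential hdiff
  rw [map_zero, map_add, map_smul, map_smul, Derivation.liftKaehlerDifferential_comp_D,
    Derivation.liftKaehlerDifferential_comp_D] at h1
  have h2 : ψ (aeval s (derivative f)) * LocRes.D F' (ψ s) +
      ψ W * LocRes.D F' (ψ (algebraMap L K' t)) = 0 := h1.symm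
  have h3 : Valued.v (ψ (aeval s (derivative f)) * LocRes.D F' (ψ s)) =
      Valued.v (ψ W * LocRes.D F' (ψ (algebraMap L K' t))) := by
    rw [eq_neg_of_add_eq_zero_left h2, Valuation.map_neg]
  rw [map_mul, map_mul, hψ.1, hψ.1, val_D_uniformizer ψ hψ hs, mul_one] at h3
  have hW1 : Q.1 W = 1 := by
    have hf0 : f.coeff 0 ≠ 0 := by
      intro h0; rw [h0, map_zero] at ha0; exact exp_ne_zero ha0.symm
    have h0mem : 0 ∈ f.support := Polynomial.mem_support_iff.mpr hf0
    rw [hW, Polynomial.sum, ← Finset.add_sum_erase _ _ h0mem, pow_zero, one_mul]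
    have hfirst : Q.1 (algebraMap L K' (g (f.coeff 0))) = 1 := by rw [he, hg0, one_pow]
    have hrest : Q.1 (∑ i ∈ f.support.erase 0, s ^ i * algebraMap L K' (g (f.coeff i))) < 1 := by
      refine Valuation.map_sum_lt Q.1 one_ne_zero fun i hi => ?_
      have hi0 : i ≠ 0 := (Finset.mem_erase.mp hi).1
      rw [map_mul, map_pow, he]
      have h4 : Q₁.1 (g (f.coeff i)) ^ n ≤ 1 := pow_le_one' (hgint _ (hint i)) n
      have h5 : Q.1 s ^ i < 1 := by
        rw [hs]
        exact pow_lt_one' exp_neg_one_lt_one hi0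
      calc Q.1 s ^ i * Q₁.1 (g (f.coeff i)) ^ n ≤ Q.1 s ^ i * 1 := mul_le_mul' le_rfl h4
        _ < 1 := by rwa [mul_one]
    rw [Valuation.map_add_eq_of_lt_left Q.1 (by rw [hfirst]; exact hrest), hfirst]
  rw [hW1, one_mul] at h3
  rw [h3, vDiff_one]

end Core

section GaloisPoly

variable {K K' : Type v} [Field K] [Field K'] [Algebra K K'] [FiniteDimensional K K']

/-- The polynomial `∏_{σ ∈ H} (X - σ s)` has coefficients in the fixed field of `H`. -/
theorem exists_poly_fixedField (H : Subgroup (K' ≃ₐ[K] K')) (s : K')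
    (S : Finset (K' ≃ₐ[K] K')) (hS : ∀ σ, σ ∈ S ↔ σ ∈ H) :
    ∃ f : (IntermediateField.fixedField H)[X],
      f.map (algebraMap (IntermediateField.fixedField H) K') = ∏ σ ∈ S, (X - C (σ s)) := by
  classical
  set p : K'[X] := ∏ σ ∈ S, (X - C (σ s)) with hp
  have hfix : ∀ τ ∈ H, p.map (τ : K' →+* K') = p := by
    intro τ hτ
    rw [hp, Polynomial.map_prod]
    refine Finset.prod_nbij (fun σ => τ * σ) ?_ ?_ ?_ ?_
    · intro σ hσ
      exact (hS _).mpr (H.mul_mem hτ ((hS σ).mp hσ))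
    · intro σ _ σ' _ h
      exact mul_left_cancel h
    · intro σ hσ
      refine ⟨τ⁻¹ * σ, ?_, ?_⟩
      · exact (hS _).mpr (H.mul_mem (H.inv_mem hτ) ((hS σ).mp hσ))
      · simp
    · intro σ _
      rw [Polynomial.map_sub, Polynomial.map_X, Polynomial.map_C]
      rfl
  have hcoeff : ∀ n, p.coeff n ∈ Set.range (algebraMap (IntermediateField.fixedField H) K') := by
    intro n
    have hmem : p.coeff n ∈ IntermediateField.fixedField H := by
      rw [IntermediateField.mem_fixedField_iff]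
      intro τ hτ
      have := congrArg (fun q => q.coeff n) (hfix τ hτ)
      simp only [coeff_map] at this
      exact this
    exact ⟨⟨p.coeff n, hmem⟩, rfl⟩
  have hl : p ∈ Polynomial.lifts (algebraMap (IntermediateField.fixedField H) K') :=
    (Polynomial.lifts_iff_coeff_lifts p).mpr hcoeff
  obtain ⟨f, hf⟩ := (Polynomial.mem_lifts p).mp hl
  exact ⟨f, hf⟩

/-- The derivative of `∏_{σ ∈ S} (X - σ s)` at `s` (`1 ∈ S`). -/
theorem eval_derivative_prod_sub [DecidableEq (K' ≃ₐ[K] K')] (s : K')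
    (S : Finset (K' ≃ₐ[K] K')) (h1 : (1 : K' ≃ₐ[K] K') ∈ S) :
    (derivative (∏ σ ∈ S, (X - C (σ s)))).eval s = ∏ σ ∈ S.erase 1, (s - σ s) := by
  rw [derivative_prod_finset, eval_finset_sum, Finset.sum_eq_single 1]
  · rw [eval_mul, eval_prod, derivative_sub, derivative_X, Polynomial.derivative_C, sub_zero,
      eval_one, mul_one]
    refine Finset.prod_congr rfl fun σ _ => ?_
    rw [eval_sub, eval_X, eval_C]
  · intro σ hσ hne
    rw [eval_mul, eval_prod]
    have hmem : (1 : K' ≃ₐ[K] K') ∈ S.erase σ := Finset.mem_erase.mpr ⟨fun h => hne h.symm, h1⟩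
    rw [Finset.prod_eq_zero hmem, zero_mul]
    rw [eval_sub, eval_X, eval_C, AlgEquiv.one_apply, sub_self]
  · intro h; exact absurd h1 h

end GaloisPoly

section Count

/-- `x ^ n = exp (-1) ^ n` forces `x = exp (-1)`. -/
theorem eq_of_pow_eq_exp_pow {x : ℤᵐ⁰} {a : ℤ} {n : ℕ} (hn : 0 < n) (h : x ^ n = exp a ^ n) :
    x = exp a := by
  induction x using WithZero.expRecOn with
  | zero =>
    rw [zero_pow hn.ne'] at h
    exact absurd h.symm (pow_ne_zero _ exp_ne_zero)
  | exp m =>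
    rw [← exp_nsmul, ← exp_nsmul, exp_inj] at h
    simp only [nsmul_eq_mul] at h
    have hn' : (n : ℤ) ≠ 0 := by exact_mod_cast hn.ne'
    rw [mul_left_cancel₀ hn' h]

/-- Double counting: `∑_{i ≥ 1} #{σ ∈ U : i ≤ ι σ} = ∑_{σ ∈ U} ι σ`. -/
theorem finsum_card_filter_eq_sum {G : Type*} [DecidableEq G] (U : Finset G) (ι : G → ℕ)
    (c : ℕ → ℤ) (hc : ∀ i, 1 ≤ i → c i = ((U.filter fun σ => i ≤ ι σ).card : ℤ)) :
    (Function.support c).Finite ∧
      ∑ᶠ i : ℕ, (if 1 ≤ i then c i else 0) = ∑ σ ∈ U, (ι σ : ℤ) := by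
  classical
  set M := U.sup ι with hM
  have hzero : ∀ i, M < i → c i = 0 := by
    intro i hi
    have hi1 : 1 ≤ i := by omega
    rw [hc i hi1]
    have : (U.filter fun σ => i ≤ ι σ) = ∅ := by
      rw [Finset.filter_eq_empty_iff]
      intro σ hσ hle
      have := Finset.le_sup (f := ι) hσ
      omega
    rw [this, Finset.card_empty, Nat.cast_zero]
  have hsupp : Function.support c ⊆ (Finset.range (M + 1) : Set ℕ) := by
    intro i hi
    rw [Function.mem_support] at hi
    rw [Finset.coe_range, Set.mem_Iio]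
    by_contra hlt
    exact hi (hzero i (by omega))
  refine ⟨(Finset.finite_toSet _).subset hsupp, ?_⟩
  have hsupp' : (Function.support fun i : ℕ => if 1 ≤ i then c i else 0) ⊆
      (Finset.range (M + 1) : Set ℕ) := by
    intro i hi
    apply hsupp
    rw [Function.mem_support] at hi ⊢
    intro h0
    apply hi
    split_ifs
    · exact h0
    · rfl
  rw [finsum_eq_sum_of_support_subset _ hsupp']
  have h1 : ∀ i ∈ Finset.range (M + 1), (if 1 ≤ i then c i else 0) =
      ∑ σ ∈ U, (if 1 ≤ i ∧ i ≤ ι σ then (1 : ℤ) else 0) := by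
    intro i _
    split_ifs with hi
    · rw [hc i hi, Finset.card_filter]
      push_cast
      refine Finset.sum_congr rfl fun σ _ => ?_
      simp [hi]
    · symm
      refine Finset.sum_eq_zero fun σ _ => ?_
      rw [if_neg]; tauto
  rw [Finset.sum_congr rfl h1, Finset.sum_comm]
  refine Finset.sum_congr rfl fun σ hσ => ?_
  have hle : ι σ ≤ M := Finset.le_sup (f := ι) hσ
  rw [Finset.sum_boole]
  have : (Finset.range (M + 1)).filter (fun i => 1 ≤ i ∧ i ≤ ι σ) = Finset.Icc 1 (ι σ) := by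
    ext i
    simp only [Finset.mem_filter, Finset.mem_range, Finset.mem_Icc]
    omega
  rw [this, Nat.card_Icc]
  simp

end Count

section RamGroups

variable {k : Type u} {K K' : Type v} [Field k] [Field K] [Field K'] [Algebra k K]
  [Algebra K K'] [Algebra k K'] [IsScalarTower k K K']

/-- An automorphism fixing the valuation ring pointwise is the identity. -/
theorem eq_one_of_forall_le_one (Q : Place k K') (σ : K' ≃ₐ[K] K')
    (h : ∀ x : K', Q.1 x ≤ 1 → σ x = x) : σ = 1 := by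
  ext x
  rw [AlgEquiv.one_apply]
  by_cases hx : Q.1 x ≤ 1
  · exact h x hx
  · push Not at hx
    have hx0 : x ≠ 0 := by
      rintro rfl; rw [map_zero] at hx; exact absurd hx (not_lt.mpr zero_le')
    have hinv : Q.1 x⁻¹ ≤ 1 := by
      rw [map_inv₀]; exact (inv_le_one₀ (zero_lt_one.trans hx)).mpr hx.le
    have h1 := h x⁻¹ hinv
    rw [map_inv₀] at h1
    exact inv_injective h1

/-- Membership in the higher ramification groups through a local parameter. -/
theorem mem_ramGroup_iff_of_uniformizer [FiniteDimensional K K'] [IsGalois K K']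
    (hK : IsFunctionField k K) (Q : Place k K')
    [Algebra.IsSeparable k (IsLocalRing.ResidueField Q.O)]
    {s : K'} (hs : Q.1 s = exp (-1 : ℤ)) (σ : K' ≃ₐ[K] K') {i : ℕ} (hi : 1 ≤ i) :
    (∀ z : K', Q.1 z ≤ 1 → Q.1 (σ z - z) ≤ exp (-(i : ℤ))) ↔
      σ = 1 ∨ ((σ ≠ 1 ∧ ∀ z : K', Q.1 z ≤ 1 → Q.1 (σ z - z) ≤ exp (-(1 : ℤ))) ∧
        i ≤ (Q.ord (σ s - s)).toNat) := by
  have hs1 : Q.1 s ≤ 1 := by rw [hs]; exact exp_neg_one_lt_one.le
  constructor
  · intro h
    by_cases h1 : σ = 1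
    · exact Or.inl h1
    · right
      have hσ1 : ∀ z : K', Q.1 z ≤ 1 → Q.1 (σ z - z) ≤ exp (-(1 : ℤ)) := fun z hz =>
        (h z hz).trans (exp_neg_le_exp_neg_one hi)
      refine ⟨⟨h1, hσ1⟩, ?_⟩
      have hne : σ s - s ≠ 0 := by
        intro h0
        apply h1
        apply eq_one_of_forall_le_one Q σ
        intro x hx
        have := sub_le_of_uniformizer hK Q σ hσ1 hs (γ := 0) (by rw [h0, map_zero]) x hx
        exact sub_eq_zero.mp ((Valuation.zero_iff _).mp (le_antisymm this zero_le'))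
      have h2 := h s hs1
      rw [val_eq_exp_neg_ord Q hne, exp_le_exp] at h2
      omega
  · rintro (rfl | ⟨⟨h1, hσ1⟩, hle⟩)
    · intro z _
      rw [AlgEquiv.one_apply, sub_self, map_zero]; exact zero_le'
    · have hne : σ s - s ≠ 0 := by
        intro h0
        rw [h0] at hle
        have : Q.ord (0 : K') = 0 := by unfold Place.ord; simp
        rw [this] at hle
        simp at hle
        omega
      refine sub_le_of_uniformizer hK Q σ hσ1 hs ?_
      rw [val_eq_exp_neg_ord Q hne, exp_le_exp]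
      omega

end RamGroups

section Main

variable {k : Type u} {K K' : Type v} {F F' : Type w} [Field k] [Field K] [Field K'] [Algebra k K]
  [Algebra K K'] [Algebra k K'] [IsScalarTower k K K'] [Field F] [Algebra k F] [Field F']
  [Algebra k F']

/-- **S12577, Hilbert's different formula.** -/
theorem diffExp_eq_sum_card_ramificationGroup [FiniteDimensional K K']
    (hK : IsFunctionField k K) (hg : IsGeometric k K) [IsGalois K K']
    {P : Place k K} {Q : Place k K'} {e : ℕ} (he : IsOverWith Q P e)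
    (φ : K →ₐ[k] F⸨X⸩) (hφ : IsExpansionAt P.1 φ) (ψ : K' →ₐ[k] F'⸨X⸩) (hψ : IsExpansionAt Q.1 ψ)
    {x : K} (hx : vDiff φ 1 x ≠ 0) (hx' : vDiff ψ 1 (algebraMap K K' x) ≠ 0) :
    (Function.support fun i : ℕ => (Nat.card {σ : K' ≃ₐ[K] K' //
        ∀ z : K', Q.1 z ≤ 1 → Q.1 (σ z - z) ≤ exp (-(i : ℤ))} : ℤ) - 1).Finite ∧
    diffExp φ ψ e x = ∑ᶠ i : ℕ, if 1 ≤ i then
      (Nat.card {σ : K' ≃ₐ[K] K' // ∀ z : K', Q.1 z ≤ 1 → Q.1 (σ z - z) ≤ exp (-(i : ℤ))} : ℤ) - 1
      else 0 := by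
  classical
  -- separability of the residue field
  have hdimK := finrank_kaehler hK hg
  haveI : Algebra.IsSeparable K K' := IsGalois.to_isSeparable
  have hdimK' : Module.finrank K' (Ω[K'⁄k]) = 1 := finrank_kaehler_of_isSeparable hdimK
  haveI hfinQ : FiniteDimensional k (IsLocalRing.ResidueField Q.O) :=
    Module.finite_of_finrank_pos (deg_pos_weak hK Q)
  haveI hsepQ : Algebra.IsSeparable k (IsLocalRing.ResidueField Q.O) :=
    isSeparable_residueField_of_isExpansionAt hdimK' Q ψ hψ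
  -- the different exponent as the order of `dt`
  obtain ⟨t, ht⟩ := exists_uniformizer P
  obtain ⟨hvt', heq⟩ := diffExp_eq_ordDiff_uniformizer hK hg he φ hφ ψ hψ hx hx' ht
  -- the inertia field
  set I' := ((Q.O).inertiaSubgroup K).map ((Q.O).decompositionSubgroup K).subtype with hI'
  set K₁ := IntermediateField.fixedField I' with hK₁
  obtain ⟨Q₁, he₁⟩ := exists_isOverWith_inertiaField hK Q
  set n₁ := Module.finrank K₁ K' with hn₁
  have hn₁e : n₁ = e := by
    rw [hn₁, IntermediateField.finrank_fixedField_eq_card, hI',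
      Subgroup.card_map_of_injective (Subgroup.subtype_injective _)]
    exact card_inertia hK he
  have hepos : 0 < e := isOverWith_pos he
  have hn₁pos : 0 < n₁ := hn₁e ▸ hepos
  -- the local parameter `t` of `P` is a local parameter at `Q₁`
  set t₁ : K₁ := algebraMap K K₁ t with ht₁
  have htt : algebraMap K₁ K' t₁ = algebraMap K K' t :=
    (IsScalarTower.algebraMap_apply K K₁ K' t).symm
  have hQ₁t : Q₁.1 t₁ = exp (-1 : ℤ) := by
    apply eq_of_pow_eq_exp_pow hn₁pos
    rw [← he₁ t₁, htt, he t, ht, hn₁e]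
  -- differentials of `K₁`
  haveI : Algebra.IsSeparable K K₁ := Algebra.isSeparable_tower_bot_of_isSeparable K K₁ K'
  have hdimK₁ : Module.finrank K₁ (Ω[K₁⁄k]) = 1 := finrank_kaehler_of_isSeparable hdimK
  have hDt₁ : KaehlerDifferential.D k K₁ t₁ ≠ 0 := by
    intro h0
    have h1 : KaehlerDifferential.D k K₁ t₁ = (0 : K₁) • KaehlerDifferential.D k K₁ t₁ := by
      rw [zero_smul]; exact h0
    have h2 := D_algebraMap_eq_of_D_eq_smul (K' := K') h1
    rw [map_zero, zero_smul, htt] at h2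
    apply hvt'
    rw [vDiff_one, D_exp_eq_zero_of_D_eq_zero ψ h2, map_zero]
  have hex : ∀ a : K₁, ∃ g : K₁,
      KaehlerDifferential.D k K₁ a = g • KaehlerDifferential.D k K₁ t₁ := fun a => by
    obtain ⟨g, hg'⟩ := (finrank_eq_one_iff_of_nonzero' _ hDt₁).mp hdimK₁ (KaehlerDifferential.D k K₁ a)
    exact ⟨g, hg'.symm⟩
  choose g hg' using hex
  -- a priori bound
  have hvDt : Valued.v (LocRes.D F' (ψ (algebraMap K K' t))) ≠ 0 := by rwa [vDiff_one] at hvt'
  obtain ⟨d, hd⟩ : ∃ d : ℤ, Valued.v (LocRes.D F' (ψ (algebraMap K K' t))) = exp (-d) :=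
    ⟨-(log (Valued.v (LocRes.D F' (ψ (algebraMap K K' t))))), by rw [neg_neg, exp_log hvDt]⟩
  have hbound : ∀ b : K₁, Q₁.1 b ≤ 1 → Q₁.1 (g b) ≤ exp ((d.toNat : ℕ) : ℤ) := by
    intro b hb
    have h1 := D_exp_eq_of_D_eq_smul ψ (D_algebraMap_eq_of_D_eq_smul (K' := K') (hg' b))
    have h2 : Valued.v (LocRes.D F' (ψ (algebraMap K₁ K' b))) ≤ 1 :=
      val_D_le_one_of_le_one ψ hψ ((isOverWith_le_one_iff he₁ b).mpr hb)
    rw [h1, map_mul, hψ.1, he₁, htt, hd] at h2
    by_cases hle : Q₁.1 (g b) ≤ 1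
    · exact hle.trans (by rw [← exp_zero, exp_le_exp]; positivity)
    · push Not at hle
      have h3 : Q₁.1 (g b) ≤ Q₁.1 (g b) ^ n₁ := le_self_pow₀ hle.le hn₁pos.ne'
      have h4 : Q₁.1 (g b) ^ n₁ ≤ exp d := by
        have := mul_le_mul_left h2 (exp d)
        rwa [mul_assoc, ← exp_add, neg_add_cancel, exp_zero, mul_one, one_mul] at this
      refine h3.trans (h4.trans ?_)
      rw [exp_le_exp]; exact Int.self_le_toNat d
  -- separability below
  have hQQ₁ : IsOver Q Q₁ := ⟨_, he₁⟩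
  haveI hsepQ₁ : Algebra.IsSeparable k (IsLocalRing.ResidueField Q₁.O) := by
    letI alg : Algebra (IsLocalRing.ResidueField Q₁.O) (IsLocalRing.ResidueField Q.O) :=
      (IsLocalRing.ResidueField.map (overRingHom hQQ₁)).toAlgebra
    exact @Algebra.isSeparable_tower_bot_of_isSeparable k _ (IsLocalRing.ResidueField Q₁.O)
      (IsLocalRing.ResidueField Q.O) _ _ (Place.algRes Q₁) (Place.algRes Q) alg _
      (isScalarTower_residue hQQ₁) hsepQ
  have hgint := val_deriv_le_one Q₁ hQ₁t hDt₁ g hg' d.toNat hbound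
  -- the polynomial
  obtain ⟨s, hs⟩ := exists_uniformizer Q
  set S : Finset (K' ≃ₐ[K] K') := Finset.univ.filter (fun σ => σ ∈ I') with hS
  have hSmem : ∀ σ, σ ∈ S ↔ σ ∈ I' := fun σ => by rw [hS, Finset.mem_filter]; simp
  obtain ⟨f₁, hf₁⟩ := exists_poly_fixedField I' s S hSmem
  set p : K'[X] := ∏ σ ∈ S, (X - C (σ s)) with hp
  have h1S : (1 : K' ≃ₐ[K] K') ∈ S := (hSmem 1).mpr I'.one_mem
  have hI'val : ∀ σ ∈ S, ∀ z : K', Q.1 z ≤ 1 → Q.1 (σ z - z) ≤ exp (-(1 : ℤ)) := fun σ hσ =>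
    (mem_inertia_iff Q σ).mp ((hSmem σ).mp hσ)
  have hσs : ∀ σ ∈ S, Q.1 (σ s) = exp (-1 : ℤ) := fun σ hσ => by
    rw [val_map_eq_of_sub_le (hI'val σ hσ), hs]
  have hfs : aeval s f₁ = 0 := by
    rw [← Polynomial.eval_map_algebraMap, hf₁, eval_prod]
    exact Finset.prod_eq_zero h1S (by rw [eval_sub, eval_X, eval_C, AlgEquiv.one_apply, sub_self])
  have hpcoeff : ∀ i, Q.1 (p.coeff i) ≤ 1 := by
    have hmem : p ∈ Polynomial.lifts (Q.O.subtype) := by
      rw [hp]
      refine Subsemiring.prod_mem _ fun σ hσ => ?_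
      have hneg : Q.1 (-(σ s)) ≤ 1 := by
        rw [Valuation.map_neg, hσs σ hσ]; exact exp_neg_one_lt_one.le
      have : (X - C (σ s) : K'[X]) = X + C (Q.O.subtype ⟨-(σ s), hneg⟩) := by
        rw [sub_eq_add_neg, ← C_neg]; rfl
      rw [this]
      exact Subsemiring.add_mem _ (X_mem_lifts _) (C_mem_lifts _ _)
    intro i
    obtain ⟨c, hc⟩ := (Polynomial.lifts_iff_coeff_lifts p).mp hmem i
    rw [← hc]; exact c.2
  have hcoe : ∀ i, algebraMap K₁ K' (f₁.coeff i) = p.coeff i := fun i => by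
    rw [← coeff_map]; exact congrArg (fun q => q.coeff i) hf₁
  have hint : ∀ i, Q₁.1 (f₁.coeff i) ≤ 1 := fun i =>
    (isOverWith_le_one_iff he₁ _).mp (by rw [hcoe]; exact hpcoeff i)
  have hcardS : S.card = n₁ := by
    rw [hn₁, IntermediateField.finrank_fixedField_eq_card, Nat.card_eq_fintype_card,
      Fintype.card_subtype]
  have ha0 : Q₁.1 (f₁.coeff 0) = exp (-1 : ℤ) := by
    apply eq_of_pow_eq_exp_pow hn₁pos
    rw [← he₁, hcoe, hp, coeff_zero_eq_eval_zero, eval_prod, map_prod,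
      Finset.prod_congr rfl (fun σ hσ => by
        rw [eval_sub, eval_X, eval_C, zero_sub, Valuation.map_neg, hσs σ hσ]),
      Finset.prod_const, hcardS]
  have hcore := val_aeval_derivative_eq_vDiff he₁ ψ hψ hQ₁t hDt₁ g hg' hgint hs hfs hint ha0
  have hder : aeval s (derivative f₁) = ∏ σ ∈ S.erase 1, (s - σ s) := by
    rw [← Polynomial.eval_map_algebraMap, ← derivative_map, hf₁]
    exact eval_derivative_prod_sub s S h1S
  rw [hder, htt] at hcore
  -- counting
  set U := S.erase 1 with hU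
  have hUmem : ∀ σ, σ ∈ U ↔ σ ≠ 1 ∧ ∀ z : K', Q.1 z ≤ 1 → Q.1 (σ z - z) ≤ exp (-(1 : ℤ)) := by
    intro σ
    rw [hU, Finset.mem_erase, hSmem, mem_inertia_iff]
  have hUne : ∀ σ ∈ U, s - σ s ≠ 0 := by
    intro σ hσ h0
    obtain ⟨hne, hσ1⟩ := (hUmem σ).mp hσ
    apply hne
    apply eq_one_of_forall_le_one Q σ
    intro z hz
    have h00 : σ s - s = 0 := by rw [← neg_sub, h0, neg_zero]
    have := sub_le_of_uniformizer hK Q σ hσ1 hs (γ := 0) (by rw [h00, map_zero]) z hz
    exact sub_eq_zero.mp ((Valuation.zero_iff _).mp (le_antisymm this zero_le'))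
  set ι : (K' ≃ₐ[K] K') → ℕ := fun σ => (Q.ord (σ s - s)).toNat with hι
  have hord : ∀ σ ∈ U, Q.ord (s - σ s) = (ι σ : ℤ) := by
    intro σ hσ
    obtain ⟨hne, hσ1⟩ := (hUmem σ).mp hσ
    have hswap : Q.ord (s - σ s) = Q.ord (σ s - s) := by
      unfold Place.ord; rw [Valuation.map_sub_swap]
    have hne' : σ s - s ≠ 0 := by
      intro h0; apply hUne σ hσ; rw [← neg_sub, h0, neg_zero]
    have h1 := hσ1 s (by rw [hs]; exact exp_neg_one_lt_one.le)
    rw [val_eq_exp_neg_ord Q hne', exp_le_exp] at h1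
    rw [hswap, hι]
    exact (Int.toNat_of_nonneg (by omega)).symm
  have hc : ∀ i : ℕ, 1 ≤ i → ((Nat.card {σ : K' ≃ₐ[K] K' //
        ∀ z : K', Q.1 z ≤ 1 → Q.1 (σ z - z) ≤ exp (-(i : ℤ))} : ℤ) - 1) =
      ((U.filter fun σ => i ≤ ι σ).card : ℤ) := by
    intro i hi
    rw [Nat.card_eq_fintype_card, Fintype.card_subtype]
    have hfil : (Finset.univ.filter fun σ : K' ≃ₐ[K] K' =>
        ∀ z : K', Q.1 z ≤ 1 → Q.1 (σ z - z) ≤ exp (-(i : ℤ))) =
        insert 1 (U.filter fun σ => i ≤ ι σ) := by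
      ext σ
      rw [Finset.mem_filter, Finset.mem_insert, Finset.mem_filter, hUmem,
        mem_ramGroup_iff_of_uniformizer hK Q hs σ hi]
      simp only [Finset.mem_univ, true_and]
      exact Iff.rfl
    rw [hfil, Finset.card_insert_of_notMem]
    · push_cast; ring
    · rw [Finset.mem_filter, hUmem]
      intro h
      exact h.1.1 rfl
  obtain ⟨hfin, hsum⟩ := finsum_card_filter_eq_sum U ι _ hc
  refine ⟨hfin, ?_⟩
  rw [hsum, heq, ordDiff, ← hcore]
  show Q.ord (∏ σ ∈ U, (s - σ s)) = _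
  rw [ord_prod Q U _ hUne]
  exact Finset.sum_congr rfl hord

end Main

end Groth.Agent.Lib.Helper24.FFExt
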