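import Groth.Agent.Lib.Helper24.FFExt.RatPlace
import Groth.Agent.Lib.Helper24.FFExt.WeakDeg

/-! # The infinite place of the rational function field `k(X)` (helper24) -/

set_option autoImplicit false

namespace Groth.Agent.Lib.Helper24.FFExt

open FunFld WithZero Polynomial Groth.Agent.Lib.Helper18.FF

variable {k : Type*} [Field k]

section Inf

variable (Pinf : Place k (RatFunc k))

theorem val_poly_inf (hinf : 1 < Pinf.1 RatFunc.X) {g : k[X]} (hg : g ≠ 0) :
    Pinf.1 (algebraMap k[X] (RatFunc k) g) = Pinf.1 RatFunc.X ^ g.natDegree := by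
  rw [← RatFunc.coePolynomial_eq_algebraMap]
  exact Polynomial.valuation_eq_valuation_X_pow_natDegree_of_one_lt_valuation_X k hinf hg

theorem val_inf (hinf : 1 < Pinf.1 RatFunc.X) {x : RatFunc k} (hx : x ≠ 0) :
    Pinf.1 x = Pinf.1 RatFunc.X ^ ((x.num.natDegree : ℤ) - x.denom.natDegree) := by
  conv_lhs => rw [← RatFunc.num_div_denom x]
  have hX0 : Pinf.1 RatFunc.X ≠ 0 := (zero_lt_one.trans hinf).ne'
  rw [map_div₀, val_poly_inf Pinf hinf (RatFunc.num_ne_zero hx),
    val_poly_inf Pinf hinf (RatFunc.denom_ne_zero x), zpow_sub₀ hX0, zpow_natCast, zpow_natCast]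

theorem val_X_inf (hinf : 1 < Pinf.1 RatFunc.X) : Pinf.1 RatFunc.X = exp (1 : ℤ) := by
  obtain ⟨t, ht⟩ := exists_uniformizer Pinf
  have ht0 : t ≠ 0 := by rintro rfl; rw [map_zero] at ht; exact exp_ne_zero ht.symm
  have hX0 : Pinf.1 RatFunc.X ≠ 0 := (zero_lt_one.trans hinf).ne'
  set m : ℤ := log (Pinf.1 RatFunc.X) with hm
  have hXm : Pinf.1 RatFunc.X = exp m := (exp_log hX0).symm
  have hm_pos : 0 < m := by
    rw [hXm, ← exp_zero, exp_lt_exp] at hinf
    exact hinf
  have h2 := val_inf Pinf hinf ht0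
  rw [ht, hXm, ← exp_zsmul, exp_inj, smul_eq_mul] at h2
  have h3 : m * ((t.denom.natDegree : ℤ) - t.num.natDegree) = 1 := by linarith
  rcases Int.eq_one_or_neg_one_of_mul_eq_one h3 with h | h
  · rw [hXm, h]
  · omega

theorem ord_poly_inf (hinf : 1 < Pinf.1 RatFunc.X) {g : k[X]} (hg : g ≠ 0) :
    Pinf.ord (algebraMap k[X] (RatFunc k) g) = -(g.natDegree : ℤ) := by
  have h := val_poly_inf Pinf hinf hg
  rw [val_X_inf Pinf hinf, ← exp_nsmul, nsmul_eq_mul, mul_one] at h
  rw [ord_eq_of_val_eq_exp Pinf h]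

theorem one_lt_val_X_of_ord_neg (h : Pinf.ord (RatFunc.X : RatFunc k) < 0) : 1 < Pinf.1 RatFunc.X :=
  (one_lt_val_iff_ord_neg Pinf RatFunc.X_ne_zero).mpr h

/-- The infinite place is unique. -/
theorem inf_unique (hinf : 1 < Pinf.1 RatFunc.X) (P' : Place k (RatFunc k))
    (h' : 1 < P'.1 RatFunc.X) : P' = Pinf := by
  apply place_eq_of_le_one_iff
  intro x
  rcases eq_or_ne x 0 with rfl | hx
  · simp
  · rw [val_inf Pinf hinf hx, val_inf P' h' hx, val_X_inf Pinf hinf, val_X_inf P' h']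

/-- The infinite place has degree one. -/
theorem deg_inf (hinf : 1 < Pinf.1 RatFunc.X) : Pinf.deg = 1 := by
  classical
  have hX0 : (RatFunc.X : RatFunc k) ≠ 0 := RatFunc.X_ne_zero
  have htr : Transcendental k (RatFunc.X : RatFunc k)⁻¹ := transcendental_inv RatFunc.transcendental_X
  have htop : IntermediateField.adjoin k ({(RatFunc.X : RatFunc k)⁻¹} : Set (RatFunc k)) = ⊤ := by
    rw [eq_top_iff, ← RatFunc.adjoin_X, IntermediateField.adjoin_le_iff]
    rintro _ rfl
    have h1 : (RatFunc.X : RatFunc k)⁻¹ ∈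
        IntermediateField.adjoin k ({(RatFunc.X : RatFunc k)⁻¹} : Set (RatFunc k)) :=
      IntermediateField.subset_adjoin _ _ rfl
    have := IntermediateField.inv_mem _ h1
    rwa [inv_inv] at this
  have hfin : FiniteDimensional
      (IntermediateField.adjoin k ({(RatFunc.X : RatFunc k)⁻¹} : Set (RatFunc k))) (RatFunc k) := by
    rw [htop]
    exact Module.Finite.of_surjective
      (Algebra.linearMap (⊤ : IntermediateField k (RatFunc k)) (RatFunc k))
      (fun z => ⟨⟨z, IntermediateField.mem_top⟩, rfl⟩)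
  have hS : ∀ Q : Place k (RatFunc k), Q ∈ ({Pinf} : Finset _) ↔ Q.1 (RatFunc.X : RatFunc k)⁻¹ < 1 := by
    intro Q
    rw [Finset.mem_singleton, map_inv₀]
    have hQ0 : Q.1 RatFunc.X ≠ 0 := (Valuation.ne_zero_iff _).mpr hX0
    rw [inv_lt_one₀ (zero_lt_iff.mpr hQ0)]
    constructor
    · rintro rfl; exact hinf
    · intro h; exact inf_unique Pinf hinf Q h
  have h1 := sum_zeros_weak htr hfin {Pinf} hS
  rw [Finset.sum_singleton, htop, IntermediateField.finrank_top, ord_inv,
    ord_eq_of_val_eq_exp Pinf (val_X_inf Pinf hinf)] at h1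
  have : ((Pinf.deg : ℕ) : ℤ) = 1 := by
    simp only [neg_neg, one_mul, Nat.cast_one] at h1
    exact h1
  exact_mod_cast this

end Inf

end Groth.Agent.Lib.Helper24.FFExt
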