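import Groth.Agent.Lib.Helper24.FFExt.Quad
import Groth.Agent.Lib.Helper24.FFExt.RatInf
import Mathlib.FieldTheory.SeparableDegree
import Mathlib.RingTheory.Polynomial.GaussLemma

/-! # Hyperelliptic function fields `y² = f(x)`: Galois structure (helper24) -/

set_option autoImplicit false

namespace Groth.Agent.Lib.Helper24.FFExt

open FunFld WithZero IntermediateField Polynomial Groth.Agent.Lib.Helper18.FF

variable {k K : Type*} [Field k] [Field K] [Algebra (RatFunc k) K]

/-- `y` with `y² = f`, `f` squarefree of positive degree, is not a rational function. -/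
theorem hyper_not_mem_range {y : K} {f : k[X]} (hf : Squarefree f) (hd : 1 ≤ f.natDegree)
    (heq : y ^ 2 = algebraMap (RatFunc k) K (algebraMap k[X] (RatFunc k) f)) :
    y ∉ Set.range (algebraMap (RatFunc k) K) := by
  rintro ⟨r, rfl⟩
  rw [← map_pow] at heq
  have h1 : r ^ 2 = algebraMap k[X] (RatFunc k) f := (algebraMap (RatFunc k) K).injective heq
  have hint : IsIntegral k[X] (r ^ 2) := by rw [h1]; exact isIntegral_algebraMap
  obtain ⟨g, rfl⟩ := IsIntegrallyClosed.exists_algebraMap_eq_of_isIntegral_pow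
    (R := k[X]) (K := RatFunc k) two_pos hint
  rw [← map_pow] at h1
  have h2 : g ^ 2 = f := RatFunc.algebraMap_injective (K := k) h1
  have h3 : IsUnit g := hf g ⟨1, by rw [← h2]; ring⟩
  have h4 : f.natDegree = 0 := by
    rw [← h2, natDegree_pow, natDegree_eq_zero_of_isUnit h3]
  omega

theorem hyper_adjoin_eq_top (hdeg : Module.finrank (RatFunc k) K = 2) {y : K}
    (hy : y ∉ Set.range (algebraMap (RatFunc k) K)) :
    IntermediateField.adjoin (RatFunc k) ({y} : Set K) = ⊤ := by
  haveI := IntermediateField.isSimpleOrder_of_finrank_prime (F := RatFunc k) (E := K)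
    (by rw [hdeg]; exact Nat.prime_two)
  rcases eq_bot_or_eq_top (IntermediateField.adjoin (RatFunc k) ({y} : Set K)) with h | h
  · rw [IntermediateField.adjoin_simple_eq_bot_iff, IntermediateField.mem_bot] at h
    exact absurd h hy
  · exact h

/-- A hyperelliptic extension in characteristic `≠ 2` is separable. -/
theorem hyper_isSeparable (h2 : ringChar k ≠ 2) (hdeg : Module.finrank (RatFunc k) K = 2) {y : K}
    {f : k[X]} (hf : Squarefree f) (hd : 1 ≤ f.natDegree)
    (heq : y ^ 2 = algebraMap (RatFunc k) K (algebraMap k[X] (RatFunc k) f)) :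
    Algebra.IsSeparable (RatFunc k) K := by
  have hy := hyper_not_mem_range hf hd heq
  have htop := hyper_adjoin_eq_top hdeg hy
  have hf0 : algebraMap k[X] (RatFunc k) f ≠ 0 := RatFunc.algebraMap_ne_zero hf.ne_zero
  have h2' : ((2 : ℕ) : RatFunc k) ≠ 0 := by
    have : (2 : k) ≠ 0 := Ring.two_ne_zero h2
    have h3 : ((2 : ℕ) : RatFunc k) = algebraMap k (RatFunc k) 2 := by
      rw [map_ofNat]; norm_num
    rw [h3]
    exact (_root_.map_ne_zero _).mpr this
  have hsep := separable_X_pow_sub_C (algebraMap k[X] (RatFunc k) f) h2' hf0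
  have hroot : aeval y (X ^ 2 - C (algebraMap k[X] (RatFunc k) f)) = 0 := by
    rw [map_sub, map_pow, aeval_X, aeval_C, heq, sub_self]
  have hysep : IsSeparable (RatFunc k) y := hsep.of_dvd (minpoly.dvd _ _ hroot)
  haveI : Algebra.IsSeparable (RatFunc k) (IntermediateField.adjoin (RatFunc k) ({y} : Set K)) :=
    (IntermediateField.isSeparable_adjoin_simple_iff_isSeparable _ _).mpr hysep
  have e : (IntermediateField.adjoin (RatFunc k) ({y} : Set K)) ≃ₐ[RatFunc k] K := by
    rw [htop]
    exact IntermediateField.topEquiv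
  exact AlgEquiv.Algebra.isSeparable e

/-- The hyperelliptic involution. -/
theorem hyper_exists_involution (h2 : ringChar k ≠ 2) (hdeg : Module.finrank (RatFunc k) K = 2)
    {y : K} {f : k[X]} (hf : Squarefree f) (hd : 1 ≤ f.natDegree)
    (heq : y ^ 2 = algebraMap (RatFunc k) K (algebraMap k[X] (RatFunc k) f)) :
    ∃ σ : K ≃ₐ[RatFunc k] K, σ y = -y := by
  haveI := hyper_isSeparable h2 hdeg hf hd heq
  obtain ⟨σ, hσ⟩ := exists_algEquiv_ne hdeg (hyper_not_mem_range hf hd heq)
  refine ⟨σ, ?_⟩
  have h1 : (σ y) ^ 2 = y ^ 2 := by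
    rw [← map_pow, heq, σ.commutes]
  have h3 : (σ y - y) * (σ y + y) = 0 := by linear_combination h1
  rcases mul_eq_zero.mp h3 with h | h
  · exact absurd (sub_eq_zero.mp h) hσ
  · exact eq_neg_of_add_eq_zero_left h

end Groth.Agent.Lib.Helper24.FFExt
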