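import Groth.Agent.Lib.Helper24.FFExt.Hyper
import Groth.Agent.Lib.Helper24.FFExt.RatPlace
import Groth.Agent.Lib.Helper24.FFExt.Fundamental

/-! # Hyperelliptic function fields `y² = f(x)`: the constant field (helper24) -/

set_option autoImplicit false

namespace Groth.Agent.Lib.Helper24.FFExt

open FunFld WithZero IntermediateField Polynomial Groth.Agent.Lib.Helper18.FF

section

variable {k K : Type*} [Field k] [Field K] [Algebra (RatFunc k) K]

theorem hyper_isIntegral {y : K} {c : RatFunc k} (heq : y ^ 2 = algebraMap (RatFunc k) K c) :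
    IsIntegral (RatFunc k) y := by
  refine ⟨X ^ 2 - C c, monic_X_pow_sub_C c two_ne_zero, ?_⟩
  rw [← aeval_def, map_sub, map_pow, aeval_X, aeval_C, heq, sub_self]

theorem hyper_finrank {y : K} {f : k[X]} (hf : Squarefree f) (hd : 1 ≤ f.natDegree)
    (heq : y ^ 2 = algebraMap (RatFunc k) K (algebraMap k[X] (RatFunc k) f))
    (htop : IntermediateField.adjoin (RatFunc k) ({y} : Set K) = ⊤) :
    Module.finrank (RatFunc k) K = 2 := by
  have hy := hyper_not_mem_range hf hd heq
  set c : RatFunc k := algebraMap k[X] (RatFunc k) f with hc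
  have hm : (X ^ 2 - C c : (RatFunc k)[X]).Monic := monic_X_pow_sub_C c two_ne_zero
  have hroot : aeval y (X ^ 2 - C c : (RatFunc k)[X]) = 0 := by
    rw [map_sub, map_pow, aeval_X, aeval_C, heq, sub_self]
  have hint : IsIntegral (RatFunc k) y := hyper_isIntegral heq
  have h1 : Module.finrank (RatFunc k) K = (minpoly (RatFunc k) y).natDegree := by
    rw [← IntermediateField.adjoin.finrank hint, htop, IntermediateField.finrank_top']
  rw [h1]
  have hle : (minpoly (RatFunc k) y).natDegree ≤ 2 := by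
    have := natDegree_le_of_dvd (minpoly.dvd _ _ hroot) hm.ne_zero
    rwa [natDegree_X_pow_sub_C] at this
  have hge : 2 ≤ (minpoly (RatFunc k) y).natDegree := by
    by_contra hlt
    push Not at hlt
    have hpos := minpoly.natDegree_pos hint
    have : (minpoly (RatFunc k) y).natDegree = 1 := by omega
    rw [minpoly.natDegree_eq_one_iff] at this
    exact hy this
  omega

theorem hyper_exists_repr {y : K} {c : RatFunc k} (heq : y ^ 2 = algebraMap (RatFunc k) K c)
    (htop : IntermediateField.adjoin (RatFunc k) ({y} : Set K) = ⊤) (z : K) :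
    ∃ a b : RatFunc k, z = algebraMap (RatFunc k) K a + algebraMap (RatFunc k) K b * y := by
  have hm : (X ^ 2 - C c : (RatFunc k)[X]).Monic := monic_X_pow_sub_C c two_ne_zero
  have hroot : aeval y (X ^ 2 - C c : (RatFunc k)[X]) = 0 := by
    rw [map_sub, map_pow, aeval_X, aeval_C, heq, sub_self]
  have hint : IsIntegral (RatFunc k) y := hyper_isIntegral heq
  have hz : z ∈ (IntermediateField.adjoin (RatFunc k) ({y} : Set K)).toSubalgebra := by
    rw [htop]; trivial
  rw [IntermediateField.adjoin_simple_toSubalgebra_of_isAlgebraic hint.isAlgebraic,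
    Algebra.adjoin_singleton_eq_range_aeval] at hz
  obtain ⟨p, rfl⟩ := hz
  set r := p %ₘ (X ^ 2 - C c) with hr
  have hpr : aeval y p = aeval y r := by
    conv_lhs => rw [← modByMonic_add_div p (X ^ 2 - C c)]
    rw [map_add, map_mul, hroot, zero_mul, add_zero]
  have hdeg : r.degree ≤ 1 := by
    have := degree_modByMonic_lt p hm
    rw [degree_X_pow_sub_C two_pos] at this
    by_cases hr0 : r = 0
    · rw [hr0, degree_zero]; exact bot_le
    · rw [degree_eq_natDegree hr0] at this ⊢
      have h3 : r.natDegree < 2 := by exact_mod_cast this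
      exact_mod_cast Nat.lt_succ_iff.mp h3
  refine ⟨r.coeff 0, r.coeff 1, ?_⟩
  show aeval y p = _
  rw [hpr]
  conv_lhs => rw [eq_X_add_C_of_degree_le_one hdeg]
  rw [map_add, map_mul, aeval_C, aeval_C, aeval_X]
  ring

end

section

variable {k K : Type*} [Field k] [Field K] [Algebra k K] [Algebra (RatFunc k) K]
  [IsScalarTower k (RatFunc k) K]

/-- **`k` is algebraically closed in the hyperelliptic field `k(x, y)`, `y² = f(x)`.** -/
theorem hyper_algClosed (h2 : ringChar k ≠ 2) {y : K} {f : k[X]} (hf : Squarefree f)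
    (hd : 1 ≤ f.natDegree)
    (heq : y ^ 2 = algebraMap (RatFunc k) K (algebraMap k[X] (RatFunc k) f))
    (htop : IntermediateField.adjoin (RatFunc k) ({y} : Set K) = ⊤) (z : K)
    (hz : IsAlgebraic k z) : z ∈ Set.range (algebraMap k K) := by
  have hdeg := hyper_finrank hf hd heq htop
  obtain ⟨σ, hσ⟩ := hyper_exists_involution h2 hdeg hf hd heq
  obtain ⟨a, b, rfl⟩ := hyper_exists_repr heq htop z
  set c : RatFunc k := algebraMap k[X] (RatFunc k) f with hc
  have hσz : σ (algebraMap _ K a + algebraMap _ K b * y) =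
      algebraMap _ K a - algebraMap _ K b * y := by
    rw [map_add, map_mul, σ.commutes, σ.commutes, hσ]; ring
  have hσalg : IsAlgebraic k (σ (algebraMap _ K a + algebraMap _ K b * y)) :=
    hz.algHom (σ.restrictScalars k).toAlgHom
  have hs : IsAlgebraic k (algebraMap (RatFunc k) K (2 * a)) := by
    have := hz.add hσalg
    rw [hσz] at this
    have e : algebraMap (RatFunc k) K (2 * a) = (algebraMap _ K a + algebraMap _ K b * y) +
        (algebraMap _ K a - algebraMap _ K b * y) := by
      rw [map_mul, map_ofNat]; ring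
    rw [e]; exact this
  have hn : IsAlgebraic k (algebraMap (RatFunc k) K (a ^ 2 - b ^ 2 * c)) := by
    have := hz.mul hσalg
    rw [hσz] at this
    have e : algebraMap (RatFunc k) K (a ^ 2 - b ^ 2 * c) =
        (algebraMap _ K a + algebraMap _ K b * y) * (algebraMap _ K a - algebraMap _ K b * y) := by
      rw [map_sub, map_mul, map_pow, map_pow, ← heq]; ring
    rw [e]; exact this
  rw [isAlgebraic_algebraMap_iff (algebraMap (RatFunc k) K).injective] at hs hn
  obtain ⟨c₁, hc₁⟩ := (isFunctionField_ratFunc (k := k)).2 _ hs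
  obtain ⟨c₂, hc₂⟩ := (isFunctionField_ratFunc (k := k)).2 _ hn
  have h2k : (2 : k) ≠ 0 := Ring.two_ne_zero h2
  have h2F : (2 : RatFunc k) ≠ 0 := by
    have : (2 : RatFunc k) = algebraMap k (RatFunc k) 2 := by rw [map_ofNat]
    rw [this]; exact (_root_.map_ne_zero _).mpr h2k
  have ha : a = algebraMap k (RatFunc k) (c₁ / 2) := by
    rw [map_div₀, hc₁, map_ofNat]; field_simp
  have hb2 : b ^ 2 * c = algebraMap k (RatFunc k) ((c₁ / 2) ^ 2 - c₂) := by
    rw [map_sub, map_pow, ← ha, hc₂]; ring
  have hb : b = 0 := by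
    by_contra hb0
    set c' := (c₁ / 2) ^ 2 - c₂ with hc'
    have hc0 : c ≠ 0 := RatFunc.algebraMap_ne_zero hf.ne_zero
    have hc'0 : c' ≠ 0 := by
      intro h0
      rw [h0, map_zero] at hb2
      exact mul_ne_zero (pow_ne_zero 2 hb0) hc0 hb2
    have hunit : IsUnit (C c'⁻¹ : k[X]) := isUnit_C.mpr (inv_ne_zero hc'0).isUnit
    have hsq : Squarefree (C c'⁻¹ * f) := by
      have hassoc : Associated (C c'⁻¹ * f) f := by
        obtain ⟨u, hu⟩ := hunit
        exact ⟨u⁻¹, by rw [← hu, mul_comm (u : k[X]) f, mul_assoc, Units.mul_inv, mul_one]⟩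
      exact hassoc.squarefree_iff.mpr hf
    have hd' : 1 ≤ (C c'⁻¹ * f).natDegree := by rwa [natDegree_C_mul (inv_ne_zero hc'0)]
    have heq' : (b⁻¹) ^ 2 = algebraMap (RatFunc k) (RatFunc k)
        (algebraMap k[X] (RatFunc k) (C c'⁻¹ * f)) := by
      have hCc : algebraMap k[X] (RatFunc k) (C c'⁻¹) = algebraMap k (RatFunc k) c'⁻¹ := by
        rw [← Polynomial.algebraMap_eq, ← IsScalarTower.algebraMap_apply]
      rw [Algebra.algebraMap_self_apply, map_mul, ← hc, hCc, map_inv₀, ← hb2]
      have hbc : b ^ 2 * c ≠ 0 := mul_ne_zero (pow_ne_zero 2 hb0) hc0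
      field_simp
    exact hyper_not_mem_range hsq hd' heq' ⟨b⁻¹, rfl⟩
  refine ⟨c₁ / 2, ?_⟩
  rw [hb, map_zero, zero_mul, add_zero, ha, ← IsScalarTower.algebraMap_apply]

end

end Groth.Agent.Lib.Helper24.FFExt
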