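import Groth.Agent.Lib.Helper24.FFExt.HyperGenus
import Groth.Agent.Lib.Helper24.FFExt.DiffMinpoly
import Groth.Agent.Lib.Helper24.FFExt.RatInf
import Groth.Agent.Lib.Helper24.FFExt.Under
import Groth.Agent.S11034
import Groth.Agent.S12516
import Groth.Agent.S12535

/-! # Regular differentials of a hyperelliptic function field in odd characteristic -/

set_option autoImplicit false
set_option linter.style.haveILetI false

namespace Groth.Agent.Lib.Helper24.FFExt

open FunFld LocRes LaurentSeries WithZero IntermediateField Polynomial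
  Groth.Agent.Lib.Helper18.FF

universe u v w

theorem zm0_eq_of_pow_eq {a b : ℤᵐ⁰} {n : ℕ} (hn : n ≠ 0) (h : a ^ n = b ^ n) : a = b :=
  le_antisymm ((pow_le_pow_iff_left₀ zero_le zero_le hn).mp h.le)
    ((pow_le_pow_iff_left₀ zero_le zero_le hn).mp h.ge)

section

variable {k : Type u} {K : Type v} [Field k] [Field K] [Algebra k K] [Algebra (RatFunc k) K]
  [IsScalarTower k (RatFunc k) K] {F : Type w} [Field F] [Algebra k F]

/-- The order of `dx` at a place of a hyperelliptic field, read through an expansion. -/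
theorem hyper_val_D_x (hdeg : Module.finrank (RatFunc k) K = 2) (h2 : ringChar k ≠ 2)
    {y : K} {f : k[X]} (hf : Squarefree f) (hd : 1 ≤ f.natDegree)
    (heq : y ^ 2 = algebraMap (RatFunc k) K (algebraMap k[X] (RatFunc k) f))
    (P : Place k K) (ψ : K →ₐ[k] F⸨X⸩) (hψ : IsExpansionAt P.1 ψ) :
    Valued.v (LocRes.D F (ψ (algebraMap (RatFunc k) K RatFunc.X))) *
        (max 1 (P.1 (algebraMap (RatFunc k) K RatFunc.X))) ^ ((f.natDegree - 1) / 2) =
      P.1 y * max 1 (P.1 (algebraMap (RatFunc k) K RatFunc.X)) := by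
  classical
  set x : K := algebraMap (RatFunc k) K RatFunc.X with hx
  have hK₀ : IsFunctionField k (RatFunc k) := isFunctionField_ratFunc
  haveI : FiniteDimensional (RatFunc k) K := Module.finite_of_finrank_pos (by rw [hdeg]; norm_num)
  have h2k : (2 : k) ≠ 0 := Ring.two_ne_zero h2
  have h2F : ((2 : ℤ) : F) ≠ 0 := by
    have : ((2 : ℤ) : F) = algebraMap k F 2 := by
      rw [map_ofNat]
      norm_num
    rw [this]
    exact (_root_.map_ne_zero _).mpr h2k
  have h1F : ((1 : ℤ) : F) ≠ 0 := by simp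
  have hf0 : f ≠ 0 := hf.ne_zero
  obtain ⟨p, hp⟩ := exists_isOver (K := RatFunc k) (K' := K) hK₀ P
  have he := isOver_isOverWith_ramIdx hp
  set e := ramIdx P p with he_def
  have hPx : P.1 x = p.1 RatFunc.X ^ e := he RatFunc.X
  have hPy2 : P.1 y ^ 2 = p.1 (algebraMap k[X] (RatFunc k) f) ^ e := by
    rw [← map_pow, heq]
    exact he _
  rcases le_or_gt (p.1 RatFunc.X) 1 with hfin | hinf
  · -- finite places
    have hPx1 : P.1 x ≤ 1 := by rw [hPx]; exact pow_le_one' hfin e
    rw [max_eq_left hPx1, one_pow, mul_one, mul_one]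
    obtain ⟨t, ht⟩ := exists_uniformizer p
    have ht0 : t ≠ 0 := by
      rintro rfl
      rw [map_zero] at ht
      exact exp_ne_zero ht.symm
    have hnum : p.1 (algebraMap k[X] (RatFunc k) t.num) < 1 := by
      have hden : p.1 (algebraMap k[X] (RatFunc k) t.denom) ≤ 1 := val_poly_le_one p hfin _
      have hden0 : p.1 (algebraMap k[X] (RatFunc k) t.denom) ≠ 0 :=
        (Valuation.ne_zero_iff _).mpr (RatFunc.algebraMap_ne_zero t.denom_ne_zero)
      have hd0 : algebraMap k[X] (RatFunc k) t.denom ≠ 0 :=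
        RatFunc.algebraMap_ne_zero t.denom_ne_zero
      have h0 : t * algebraMap k[X] (RatFunc k) t.denom = algebraMap k[X] (RatFunc k) t.num := by
        rw [eq_comm, ← div_eq_iff hd0]
        exact RatFunc.num_div_denom t
      have h1 : p.1 (algebraMap k[X] (RatFunc k) t.num) =
          p.1 t * p.1 (algebraMap k[X] (RatFunc k) t.denom) := by
        rw [← h0, map_mul]
      rw [h1, ht]
      calc exp (-1 : ℤ) * p.1 (algebraMap k[X] (RatFunc k) t.denom)
          ≤ exp (-1 : ℤ) * 1 := mul_le_mul' le_rfl hden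
        _ < 1 := by rw [mul_one, ← exp_zero, exp_lt_exp]; norm_num
    obtain ⟨π, hπ, -, hπl⟩ := Groth.Agent.S12535.exists_irreducible_dvd_val_lt_one p t.num
      (RatFunc.num_ne_zero ht0) hnum
    have hπv := val_irreducible_eq p hπ hπl
    have hPπ : P.1 (aeval x π) = exp (-(e : ℤ)) := by
      rw [← algebraMap_poly, he, hπv, ← exp_nsmul]
      simp
    have hchain : LocRes.D F (ψ (aeval x π)) = ψ (aeval x (derivative π)) * LocRes.D F (ψ x) :=
      D_exp_eq_of_D_eq_smul ψ ((KaehlerDifferential.D k K).map_aeval π x)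
    have hq0 : p.1 (algebraMap k[X] (RatFunc k) (derivative π)) ≤ 1 := val_poly_le_one p hfin _
    have hq : P.1 (aeval x (derivative π)) =
        p.1 (algebraMap k[X] (RatFunc k) (derivative π)) ^ e := by
      rw [← algebraMap_poly, he]
    have hDx1 : Valued.v (LocRes.D F (ψ x)) ≤ 1 := val_D_le_one_of_le_one ψ hψ hPx1
    by_cases hπf : π ∣ f
    · have he2 : IsOverWith P p 2 :=
        ((Groth.Agent.S11034.result k K h2 hdeg y f hf hd heq π hπ hπf p hπl).2 P hp).1
      have hee : e = 2 := isOverWith_eq he he2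
      have hv : Valued.v (LocRes.D F (ψ (aeval x π))) = exp (-((2 : ℤ) - 1)) :=
        val_D_eq_of_cast_ne_zero (by rw [hψ.1, hPπ, hee]; rfl) h2F
      rw [hchain, map_mul, hψ.1, hq, hee] at hv
      have hq1 : p.1 (algebraMap k[X] (RatFunc k) (derivative π)) = 1 := by
        refine le_antisymm hq0 (not_lt.mp fun hlt => ?_)
        have h3 := zm0_pow_le_exp_neg ((zm0_lt_one_iff _).mp hlt) 2
        have h4 : p.1 (algebraMap k[X] (RatFunc k) (derivative π)) ^ 2 *
            Valued.v (LocRes.D F (ψ x)) ≤ exp (-((2 : ℕ) : ℤ)) * 1 := mul_le_mul' h3 hDx1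
        rw [hv, mul_one, exp_le_exp] at h4
        norm_num at h4
      rw [hq1, one_pow, one_mul] at hv
      rw [hv]
      have hpf : p.1 (algebraMap k[X] (RatFunc k) f) = exp (-1 : ℤ) := by
        rw [val_eq_exp_neg_ord p (RatFunc.algebraMap_ne_zero hf0),
          ord_squarefree_eq p hπ hπl hf hπf]
      rw [hpf, hee] at hPy2
      rw [zm0_eq_of_pow_eq two_ne_zero hPy2]
      norm_num
    · have hpf : p.1 (algebraMap k[X] (RatFunc k) f) = 1 := val_eq_one_of_not_dvd p hπ hπl hπf
      rw [hpf, one_pow] at hPy2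
      have hPy : P.1 y = 1 := zm0_eq_of_pow_eq two_ne_zero (by rw [hPy2, one_pow])
      obtain ⟨σ, hσ⟩ := hyper_exists_involution h2 hdeg hf hd heq
      have he1 : IsOverWith P p 1 := by
        refine isOverWith_one_of_quadratic hK₀ hdeg hp σ y hPy.le ?_
        have h3 : σ y - y = -(algebraMap k K 2 * y) := by
          rw [hσ, map_ofNat]; ring
        rw [h3, Valuation.map_neg, map_mul, hPy, mul_one, val_algebraMap P h2k]
      have hee : e = 1 := isOverWith_eq he he1
      have hv : Valued.v (LocRes.D F (ψ (aeval x π))) = exp (-((1 : ℤ) - 1)) :=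
        val_D_eq_of_cast_ne_zero (by rw [hψ.1, hPπ, hee]; rfl) h1F
      rw [hchain, map_mul, hψ.1, hq, hee, pow_one, sub_self, neg_zero, exp_zero] at hv
      rw [hPy]
      refine le_antisymm hDx1 (not_lt.mp fun hlt => ?_)
      have h4 : p.1 (algebraMap k[X] (RatFunc k) (derivative π)) *
          Valued.v (LocRes.D F (ψ x)) < 1 := by
        calc _ ≤ 1 * Valued.v (LocRes.D F (ψ x)) := mul_le_mul' hq0 le_rfl
          _ = Valued.v (LocRes.D F (ψ x)) := one_mul _
          _ < 1 := hlt
      rw [hv] at h4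
      exact lt_irrefl _ h4
  · -- infinite places
    have hpX : p.1 RatFunc.X = exp (1 : ℤ) := val_X_inf p hinf
    have hPxe : P.1 x = exp (e : ℤ) := by
      rw [hPx, hpX, ← exp_nsmul]
      simp
    have hepos : 0 < e := isOver_ramIdx_pos hp
    have hPx1 : 1 < P.1 x := by
      rw [hPxe, ← exp_zero, exp_lt_exp]
      exact_mod_cast hepos
    rw [max_eq_right hPx1.le]
    have hordX : p.ord (RatFunc.X : RatFunc k) < 0 :=
      (one_lt_val_iff_ord_neg p RatFunc.X_ne_zero).mp hinf
    have hS := Groth.Agent.S12516.result k K h2 hdeg y f hf hd heq p hordX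
    have hpf : p.1 (algebraMap k[X] (RatFunc k) f) = exp (f.natDegree : ℤ) := by
      rw [val_poly_inf p hinf hf0, hpX, ← exp_nsmul]
      simp
    have hx0 : x ≠ 0 := by
      rintro h0
      rw [h0, map_zero] at hPx1
      exact absurd hPx1 (by simp)
    have hPu : P.1 x⁻¹ = exp (-(e : ℤ)) := by
      rw [map_inv₀, hPxe, ← exp_neg]
    have hchain : LocRes.D F (ψ x⁻¹) = ψ (-x⁻¹ ^ 2) * LocRes.D F (ψ x) :=
      D_exp_eq_of_D_eq_smul ψ ((KaehlerDifferential.D k K).leibniz_inv x)
    have hPc : P.1 (-x⁻¹ ^ 2) = exp (-(2 * (e : ℤ))) := by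
      rw [Valuation.map_neg, map_pow, hPu, ← exp_nsmul]
      congr 1
      simp
    have hkey : ∀ hcast : ((e : ℤ) : F) ≠ 0,
        Valued.v (LocRes.D F (ψ x)) = exp ((e : ℤ) + 1) := by
      intro hcast
      have hv : Valued.v (LocRes.D F (ψ x⁻¹)) = exp (-((e : ℤ) - 1)) :=
        val_D_eq_of_cast_ne_zero (by rw [hψ.1, hPu]) hcast
      rw [hchain, map_mul, hψ.1, hPc] at hv
      have h3 : Valued.v (LocRes.D F (ψ x)) =
          exp (2 * (e : ℤ)) * (exp (-(2 * (e : ℤ))) * Valued.v (LocRes.D F (ψ x))) := by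
        rw [← mul_assoc, ← exp_add]
        simp
      rw [h3, hv, ← exp_add]
      congr 1
      ring
    rcases Nat.even_or_odd f.natDegree with hev | hodd
    · have he1 : IsOverWith P p 1 := (hS.2 hev).2 P hp
      have hee : e = 1 := isOverWith_eq he he1
      obtain ⟨c, hc⟩ := hev
      obtain ⟨c', rfl⟩ : ∃ c', c = c' + 1 := ⟨c - 1, by omega⟩
      have hvD := hkey (by rw [hee]; exact_mod_cast h1F)
      rw [hpf, hee, pow_one] at hPy2
      have hPy : P.1 y = exp (((c' + 1 : ℕ)) : ℤ) := by
        refine zm0_eq_of_pow_eq two_ne_zero ?_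
        rw [hPy2, ← exp_nsmul, hc]
        congr 1
        push_cast
        simp
        ring
      rw [hvD, hPy, hPxe, hee, ← exp_nsmul, ← exp_add, ← exp_add]
      congr 1
      have : (f.natDegree - 1) / 2 = c' := by omega
      rw [this]
      push_cast
      simp
      ring
    · have he2 : IsOverWith P p 2 := ((hS.1 hodd).2 P hp).1
      have hee : e = 2 := isOverWith_eq he he2
      obtain ⟨c, hc⟩ := hodd
      have hvD := hkey (by rw [hee]; exact_mod_cast h2F)
      rw [hpf, hee] at hPy2
      have hPy : P.1 y = exp (f.natDegree : ℤ) := zm0_eq_of_pow_eq two_ne_zero hPy2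
      rw [hvD, hPy, hPxe, hee, ← exp_nsmul, ← exp_add, ← exp_add]
      congr 1
      have : (f.natDegree - 1) / 2 = c := by omega
      rw [this, hc]
      push_cast
      simp
      ring

/-- The regular differentials of a hyperelliptic function field: the basis `x^i dx / y`. -/
theorem hyper_regularDifferentials (hK : IsFunctionField k K)
    (hdeg : Module.finrank (RatFunc k) K = 2) (h2 : ringChar k ≠ 2)
    {y : K} {f : k[X]} (hf : Squarefree f) (hd : 1 ≤ f.natDegree)
    (heq : y ^ 2 = algebraMap (RatFunc k) K (algebraMap k[X] (RatFunc k) f))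
    (F : Place k K → Type w) [∀ P, Field (F P)] [∀ P, Algebra k (F P)]
    (φ : ∀ P, K →ₐ[k] (F P)⸨X⸩) (hφ : ∀ P, IsExpansionAt P.1 (φ P)) :
    (∀ i : ℕ, i < genus k K → ∀ P,
      vDiff (φ P) (algebraMap (RatFunc k) K RatFunc.X ^ i / y)
        (algebraMap (RatFunc k) K RatFunc.X) ≤ 1) ∧
    ∀ z : K, (∀ P, vDiff (φ P) z (algebraMap (RatFunc k) K RatFunc.X) ≤ 1) →
      ∃ a : k[X], a.degree < (genus k K : WithBot ℕ) ∧
        z = algebraMap (RatFunc k) K (algebraMap k[X] (RatFunc k) a) / y := by
  classical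
  set x : K := algebraMap (RatFunc k) K RatFunc.X with hx
  have hg := hyper_genus hK h2 hdeg hf hd heq
  set g := genus k K with hgdef
  have hf0 : f ≠ 0 := hf.ne_zero
  have hy0 : y ≠ 0 := by
    rintro rfl
    rw [zero_pow two_ne_zero] at heq
    have := (map_eq_zero (algebraMap (RatFunc k) K)).mp heq.symm
    exact RatFunc.algebraMap_ne_zero hf0 this
  have hM1 : ∀ P : Place k K, (1 : ℤᵐ⁰) ≤ max 1 (P.1 x) := fun P => le_max_left _ _
  have hM0 : ∀ P : Place k K, max 1 (P.1 x) ≠ 0 := fun P =>
    (zero_lt_one.trans_le (hM1 P)).ne'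
  have hkey : ∀ P : Place k K, Valued.v (LocRes.D (F P) (φ P x)) * (max 1 (P.1 x)) ^ g =
      P.1 y * max 1 (P.1 x) := by
    intro P
    rw [hg]
    exact hyper_val_D_x hdeg h2 hf hd heq P (φ P) (hφ P)
  have hPy0 : ∀ P : Place k K, P.1 y ≠ 0 := fun P => (Valuation.ne_zero_iff _).mpr hy0
  constructor
  · intro i hi P
    set M := max 1 (P.1 x) with hM
    have hMg0 : M ^ g ≠ 0 := pow_ne_zero _ (hM0 P)
    refine le_of_mul_le_mul_right ?_ (zero_lt_iff.mpr hMg0)
    rw [one_mul, vDiff, map_mul, (hφ P).1, map_div₀, map_pow, mul_assoc, hkey P,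
      div_mul_eq_mul_div, mul_div_assoc, mul_comm (P.1 y), mul_div_assoc, div_self (hPy0 P),
      mul_one]
    calc P.1 x ^ i * M ≤ M ^ i * M := mul_le_mul' (pow_le_pow_left' (le_max_right _ _) i) le_rfl
      _ = M ^ (i + 1) := (pow_succ M i).symm
      _ ≤ M ^ g := pow_le_pow_right' (hM1 P) hi
  · intro z hz
    have hbound : ∀ P : Place k K, P.1 (z * y) * max 1 (P.1 x) ≤ (max 1 (P.1 x)) ^ g := by
      intro P
      have h1 := hz P
      rw [vDiff, map_mul, (hφ P).1] at h1
      calc P.1 (z * y) * max 1 (P.1 x) = P.1 z * (P.1 y * max 1 (P.1 x)) := by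
            rw [map_mul, mul_assoc]
        _ = P.1 z * Valued.v (LocRes.D (F P) (φ P x)) * (max 1 (P.1 x)) ^ g := by
            rw [← hkey P, mul_assoc]
        _ ≤ 1 * (max 1 (P.1 x)) ^ g := mul_le_mul' h1 le_rfl
        _ = _ := one_mul _
    have hd2 : ∀ b : k[X], ¬ (2 * b.natDegree + f.natDegree ≤ 2 * (g - 1)) := by
      intro b
      rw [hg]
      omega
    rcases Nat.eq_zero_or_pos g with hg0 | hgpos
    · -- genus zero: no regular differentials
      have hL : z * y ∈ L (0 • poleDiv (k := k) x) := by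
        rw [mem_L_nsmul_poleDiv_iff hK]
        intro P
        rw [pow_zero]
        have h1 := hbound P
        rw [hg0, pow_zero] at h1
        calc P.1 (z * y) = P.1 (z * y) * 1 := (mul_one _).symm
          _ ≤ P.1 (z * y) * max 1 (P.1 x) := mul_le_mul' le_rfl (hM1 P)
          _ ≤ 1 := h1
      obtain ⟨a, b, ha, hb, hab⟩ := hyper_exists_repr_of_mem_L hK h2 hdeg hf hd heq hL
      have hb0 : b = 0 := by
        rcases hb with hb | hb
        · exact hb
        · omega
      rw [hb0, map_zero, zero_mul, add_zero] at hab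
      have hac : a = C (a.coeff 0) := eq_C_of_natDegree_le_zero ha
      have hxk : x ∉ Set.range (algebraMap k K) := by
        rintro ⟨c, hc⟩
        have htr : Transcendental k x :=
          (transcendental_algebraMap_iff (algebraMap (RatFunc k) K).injective).mpr
            RatFunc.transcendental_X
        exact htr (hc ▸ isAlgebraic_algebraMap c)
      obtain ⟨P, hP⟩ := exists_pole hK hxk
      have h1 := hbound P
      rw [hg0, pow_zero, max_eq_right hP.le, hab, hac, aeval_C] at h1
      have hc0 : a.coeff 0 = 0 := by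
        by_contra hne
        rw [val_algebraMap P hne, one_mul] at h1
        exact absurd hP (not_lt.mpr h1)
      have hzy : z * y = 0 := by rw [hab, hac, hc0, map_zero, map_zero]
      have hz0 : z = 0 := (mul_eq_zero.mp hzy).resolve_right hy0
      refine ⟨0, ?_, by rw [hz0, map_zero, map_zero, zero_div]⟩
      rw [degree_zero]
      exact WithBot.bot_lt_coe _
    · have hL : z * y ∈ L ((g - 1) • poleDiv (k := k) x) := by
        rw [mem_L_nsmul_poleDiv_iff hK]
        intro P
        have h1 := hbound P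
        refine le_of_mul_le_mul_right ?_ (zero_lt_iff.mpr (hM0 P))
        rw [← pow_succ, Nat.sub_add_cancel hgpos]
        exact h1
      obtain ⟨a, b, ha, hb, hab⟩ := hyper_exists_repr_of_mem_L hK h2 hdeg hf hd heq hL
      have hb0 : b = 0 := by
        rcases hb with hb | hb
        · exact hb
        · exact absurd hb (hd2 b)
      rw [hb0, map_zero, zero_mul, add_zero] at hab
      refine ⟨a, ?_, ?_⟩
      · refine lt_of_le_of_lt degree_le_natDegree ?_
        exact_mod_cast (by omega : a.natDegree < g)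
      · rw [algebraMap_poly, ← hab, mul_div_assoc, div_self hy0, mul_one]

end

end Groth.Agent.Lib.Helper24.FFExt
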