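import Groth.Agent.Lib.Helper24.FFExt.Hyper2
import Groth.Agent.Lib.Helper24.FFExt.Galois
import Groth.Agent.Lib.Helper24.FFExt.Over
import Groth.Agent.Lib.Helper24.FFExt.RatPlace
import Groth.Agent.Lib.Helper24.FFExt.RatSubfield
import Groth.Agent.Lib.Helper18.FF.Rational
import Groth.Agent.Lib.Helper18.FF.RiemannRoch
import Groth.Agent.Lib.Helper18.FF.Degree3

/-! # The genus of a hyperelliptic function field in odd characteristic -/

set_option autoImplicit false
set_option linter.style.haveILetI false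

namespace Groth.Agent.Lib.Helper24.FFExt

open FunFld WithZero IntermediateField Polynomial Groth.Agent.Lib.Helper18.FF

section general

variable {k K : Type*} [Field k] [Field K] [Algebra k K]

theorem exp_poleDiv (hK : IsFunctionField k K) (x : K) (P : Place k K) :
    exp (poleDiv (k := k) x P) = max 1 (P.1 x) := by
  rw [poleDiv_apply hK]
  rcases eq_or_ne x 0 with rfl | hx
  · rw [ord_zero, map_zero]
    simp
  · rw [val_eq_exp_neg_ord P hx]
    rcases le_total (-P.ord x) 0 with h | h
    · rw [Int.toNat_of_nonpos h, max_eq_left]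
      · simp
      · rw [← exp_zero, exp_le_exp]
        exact h
    · rw [Int.toNat_of_nonneg h, max_eq_right]
      rw [← exp_zero, exp_le_exp]
      exact h

theorem mem_L_nsmul_poleDiv_iff (hK : IsFunctionField k K) (x z : K) (n : ℕ) :
    z ∈ L (n • poleDiv (k := k) x) ↔ ∀ P : Place k K, P.1 z ≤ (max 1 (P.1 x)) ^ n := by
  refine forall_congr' fun P => ?_
  rw [Finsupp.smul_apply, exp_nsmul, exp_poleDiv hK]

theorem val_aeval_le_max_pow (P : Place k K) (x : K) (f : k[X]) :
    P.1 (aeval x f) ≤ (max 1 (P.1 x)) ^ f.natDegree := by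
  rw [aeval_eq_sum_range]
  refine Valuation.map_sum_le _ fun i hi => ?_
  rw [Finset.mem_range] at hi
  rw [Algebra.smul_def, map_mul, map_pow]
  have h1 : P.1 (algebraMap k K (f.coeff i)) ≤ 1 := P.2.1 _
  have h2 : P.1 x ^ i ≤ (max 1 (P.1 x)) ^ i := pow_le_pow_left' (le_max_right _ _) _
  have h3 : (max 1 (P.1 x)) ^ i ≤ (max 1 (P.1 x)) ^ f.natDegree :=
    pow_le_pow_right' (le_max_left _ _) (by omega)
  calc P.1 (algebraMap k K (f.coeff i)) * P.1 x ^ i ≤ 1 * (max 1 (P.1 x)) ^ f.natDegree :=
        mul_le_mul' h1 (h2.trans h3)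
    _ = _ := one_mul _

/-- In a rational function field `K = k(x)` (pole divisor of `x` of degree one), `L(N (x)_∞)` is
the space of polynomials of degree at most `N` in `x`. -/
theorem exists_poly_of_mem_L_nsmul_poleDiv (hK : IsFunctionField k K) {x : K}
    (hx : Transcendental k x) (h1 : (poleDiv (k := k) x).deg = 1) (N : ℕ) {z : K}
    (hz : z ∈ L (N • poleDiv (k := k) x)) :
    ∃ a : k[X], a.natDegree ≤ N ∧ aeval x a = z := by
  classical
  have hg := genus_eq_zero_of_deg_poleDiv_eq_one hK hx h1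
  set D : Divisor k K := N • poleDiv (k := k) x with hD
  have hmem : ∀ i : Fin (N + 1), x ^ (i : ℕ) ∈ L D := fun i =>
    pow_mem_L_nsmul_poleDiv hK x (Nat.lt_succ_iff.mp i.2)
  have hli := linearIndependent_pow_of_transcendental hx N
  have hli' : LinearIndependent k (fun i : Fin (N + 1) => (⟨x ^ (i : ℕ), hmem i⟩ : L D)) :=
    LinearIndependent.of_comp (Submodule.subtype _) hli
  haveI := finiteDimensional_L hK D
  have hell := ell_eq_of_deg_ge hK D (by rw [hg, hD, deg_nsmul, h1]; push_cast; omega)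
  rw [hD, deg_nsmul, h1, hg, ← hD] at hell
  have hcard : Fintype.card (Fin (N + 1)) = Module.finrank k (L D) := by
    rw [Fintype.card_fin]
    have h2 : ell D = N + 1 := by
      have : (ell D : ℤ) = ((N + 1 : ℕ) : ℤ) := by rw [hell]; push_cast; ring
      exact_mod_cast this
    exact h2.symm
  have hspan := hli'.span_eq_top_of_card_eq_finrank' hcard
  have hbm : (⟨z, hz⟩ : L D) ∈
      Submodule.span k (Set.range fun i : Fin (N + 1) => (⟨x ^ (i : ℕ), hmem i⟩ : L D)) := by
    rw [hspan]; trivial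
  obtain ⟨c, hc⟩ := (Submodule.mem_span_range_iff_exists_fun k).mp hbm
  refine ⟨∑ i : Fin (N + 1), C (c i) * X ^ (i : ℕ), ?_, ?_⟩
  · refine natDegree_sum_le_of_forall_le _ _ fun i _ => ?_
    refine (natDegree_C_mul_le _ _).trans ?_
    rw [natDegree_X_pow]
    exact Nat.lt_succ_iff.mp i.2
  · have := congrArg (fun w : L D => (w : K)) hc
    simp only [AddSubmonoidClass.coe_finset_sum, Submodule.coe_smul] at this
    rw [← this, map_sum]
    refine Finset.sum_congr rfl fun i _ => ?_
    rw [map_mul, aeval_C, map_pow, aeval_X, Algebra.smul_def]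

end general

section hyper

variable {k K : Type*} [Field k] [Field K] [Algebra k K] [Algebra (RatFunc k) K]
  [IsScalarTower k (RatFunc k) K]

theorem algebraMap_poly (p : k[X]) :
    algebraMap (RatFunc k) K (algebraMap k[X] (RatFunc k) p) =
      aeval (algebraMap (RatFunc k) K RatFunc.X) p := by
  rw [aeval_algebraMap_apply, RatFunc.aeval_X_left_eq_algebraMap]

theorem max_one_pow {a : WithZero (Multiplicative ℤ)} (e : ℕ) :
    max 1 (a ^ e) = (max 1 a) ^ e := by
  rcases le_total a 1 with h | h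
  · rw [max_eq_left (pow_le_one' h e), max_eq_left h, one_pow]
  · rw [max_eq_right (one_le_pow_of_one_le' h e), max_eq_right h]

theorem mem_L_ratFunc_of_mem_L (hK : IsFunctionField k K) [FiniteDimensional (RatFunc k) K]
    {γ : RatFunc k} {N : ℕ}
    (h : algebraMap (RatFunc k) K γ ∈
      L (N • poleDiv (k := k) (algebraMap (RatFunc k) K RatFunc.X))) :
    γ ∈ L (N • poleDiv (k := k) (RatFunc.X : RatFunc k)) := by
  have hK₀ : IsFunctionField k (RatFunc k) := isFunctionField_ratFunc
  rw [mem_L_nsmul_poleDiv_iff hK₀]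
  rw [mem_L_nsmul_poleDiv_iff hK] at h
  intro p
  obtain ⟨P, hP⟩ := exists_place_over (K' := K) hK₀ p
  have he := isOver_isOverWith_ramIdx hP
  have hpos := isOver_ramIdx_pos hP
  have h1 := h P
  rw [he γ, he RatFunc.X, max_one_pow, ← pow_mul, mul_comm, pow_mul] at h1
  exact (pow_le_pow_iff_left₀ zero_le zero_le hpos.ne').mp h1

theorem deg_poleDiv_X : (poleDiv (k := k) (RatFunc.X : RatFunc k)).deg = 1 := by
  have hK₀ : IsFunctionField k (RatFunc k) := isFunctionField_ratFunc
  rw [deg_poleDiv_eq hK₀ RatFunc.transcendental_X, RatFunc.adjoin_X, IntermediateField.finrank_top]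
  rfl

theorem exists_poly_of_algebraMap_mem_L (hK : IsFunctionField k K)
    [FiniteDimensional (RatFunc k) K] {γ : RatFunc k} {N : ℕ}
    (h : algebraMap (RatFunc k) K γ ∈
      L (N • poleDiv (k := k) (algebraMap (RatFunc k) K RatFunc.X))) :
    ∃ a : k[X], a.natDegree ≤ N ∧ γ = algebraMap k[X] (RatFunc k) a := by
  have hK₀ : IsFunctionField k (RatFunc k) := isFunctionField_ratFunc
  obtain ⟨a, ha, haz⟩ := exists_poly_of_mem_L_nsmul_poleDiv hK₀ RatFunc.transcendental_X
    deg_poleDiv_X N (mem_L_ratFunc_of_mem_L hK h)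
  exact ⟨a, ha, by rw [← haz, RatFunc.aeval_X_left_eq_algebraMap]⟩

/-- A rational function whose square times a squarefree polynomial is a polynomial is itself a
polynomial. -/
theorem exists_poly_of_sq_mul_squarefree {f c : k[X]} (hf : Squarefree f) {β : RatFunc k}
    (h : β ^ 2 * algebraMap k[X] (RatFunc k) f = algebraMap k[X] (RatFunc k) c) :
    ∃ b : k[X], β = algebraMap k[X] (RatFunc k) b := by
  have hd0 : algebraMap k[X] (RatFunc k) β.denom ≠ 0 := RatFunc.algebraMap_ne_zero β.denom_ne_zero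
  have hβ : β = algebraMap k[X] (RatFunc k) β.num / algebraMap k[X] (RatFunc k) β.denom :=
    (RatFunc.num_div_denom β).symm
  have h1 : β.num ^ 2 * f = c * β.denom ^ 2 := by
    apply RatFunc.algebraMap_injective k
    rw [map_mul, map_mul, map_pow, map_pow, ← h]
    have h0 : β * algebraMap k[X] (RatFunc k) β.denom = algebraMap k[X] (RatFunc k) β.num := by
      rw [eq_comm, ← div_eq_iff hd0]
      exact RatFunc.num_div_denom β
    rw [← h0]
    ring
  have hcop : IsCoprime (β.denom ^ 2) (β.num ^ 2) :=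
    (RatFunc.isCoprime_num_denom β).symm.pow
  have hdvd : β.denom ^ 2 ∣ f := by
    have : β.denom ^ 2 ∣ β.num ^ 2 * f := ⟨c, by rw [h1]; ring⟩
    exact hcop.dvd_of_dvd_mul_left this
  have hunit : IsUnit β.denom := hf β.denom (by rw [← pow_two]; exact hdvd)
  have hone : β.denom = 1 := (RatFunc.monic_denom β).eq_one_of_isUnit hunit
  refine ⟨β.num, ?_⟩
  conv_lhs => rw [hβ, hone, map_one, _root_.div_one]

theorem algEquiv_mem_L (hK : IsFunctionField k K) (σ : K ≃ₐ[RatFunc k] K) {n : ℕ} {z : K}
    (hz : z ∈ L (n • poleDiv (k := k) (algebraMap (RatFunc k) K RatFunc.X))) :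
    σ z ∈ L (n • poleDiv (k := k) (algebraMap (RatFunc k) K RatFunc.X)) := by
  rw [mem_L_nsmul_poleDiv_iff hK] at hz ⊢
  intro P
  have := hz (placeComap σ P)
  rw [placeComap_val, placeComap_val, σ.commutes] at this
  exact this

theorem finrank_adjoin_algebraMap_X :
    Module.finrank k⟮algebraMap (RatFunc k) K RatFunc.X⟯ K = Module.finrank (RatFunc k) K := by
  rw [finrank_adjoin_map (k := k) (K' := K) (RatFunc.X : RatFunc k), RatFunc.adjoin_X,
    IntermediateField.finrank_top, one_mul]

/-- Elements of `L(n (x)_∞)` in a hyperelliptic field are `a(x) + b(x) y` with degree bounds. -/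
theorem hyper_exists_repr_of_mem_L (hK : IsFunctionField k K) (h2 : ringChar k ≠ 2)
    (hdeg : Module.finrank (RatFunc k) K = 2) {y : K} {f : k[X]} (hf : Squarefree f)
    (hd : 1 ≤ f.natDegree)
    (heq : y ^ 2 = algebraMap (RatFunc k) K (algebraMap k[X] (RatFunc k) f)) {n : ℕ} {z : K}
    (hz : z ∈ L (n • poleDiv (k := k) (algebraMap (RatFunc k) K RatFunc.X))) :
    ∃ a b : k[X], a.natDegree ≤ n ∧ (b = 0 ∨ 2 * b.natDegree + f.natDegree ≤ 2 * n) ∧
      z = aeval (algebraMap (RatFunc k) K RatFunc.X) a +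
        aeval (algebraMap (RatFunc k) K RatFunc.X) b * y := by
  haveI : FiniteDimensional (RatFunc k) K := Module.finite_of_finrank_pos (by rw [hdeg]; norm_num)
  set x : K := algebraMap (RatFunc k) K RatFunc.X with hx
  have hy := hyper_not_mem_range hf hd heq
  have htop := hyper_adjoin_eq_top hdeg hy
  obtain ⟨σ, hσ⟩ := hyper_exists_involution h2 hdeg hf hd heq
  obtain ⟨α, β, rfl⟩ := hyper_exists_repr heq htop z
  have hσz : σ (algebraMap _ K α + algebraMap _ K β * y) =
      algebraMap _ K α - algebraMap _ K β * y := by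
    rw [map_add, map_mul, σ.commutes, σ.commutes, hσ]; ring
  have h2k : (2 : k) ≠ 0 := Ring.two_ne_zero h2
  have hσL := algEquiv_mem_L hK σ hz
  rw [hσz] at hσL
  have hα : algebraMap (RatFunc k) K α ∈ L (n • poleDiv (k := k) x) := by
    have h1 := (L (n • poleDiv (k := k) x)).smul_mem ((2 : k)⁻¹) ((L _).add_mem hz hσL)
    have h3 : (2 : k)⁻¹ • (algebraMap _ K α + algebraMap _ K β * y +
        (algebraMap _ K α - algebraMap _ K β * y)) = algebraMap (RatFunc k) K α := by
      rw [Algebra.smul_def]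
      have : algebraMap k K (2 : k)⁻¹ * (2 : K) = 1 := by
        rw [← map_ofNat (algebraMap k K) 2, ← map_mul, inv_mul_cancel₀ h2k, map_one]
      linear_combination (algebraMap (RatFunc k) K α) * this
    rw [h3] at h1
    exact h1
  have hβy : algebraMap (RatFunc k) K β * y ∈ L (n • poleDiv (k := k) x) := by
    have h1 := (L (n • poleDiv (k := k) x)).sub_mem hz hα
    rwa [add_sub_cancel_left] at h1
  have hβ2 : algebraMap (RatFunc k) K (β ^ 2 * algebraMap k[X] (RatFunc k) f) ∈
      L ((2 * n) • poleDiv (k := k) x) := by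
    have h1 := mul_mem_L_add hβy hβy
    rw [← add_nsmul, ← two_mul] at h1
    have h3 : algebraMap (RatFunc k) K β * y * (algebraMap (RatFunc k) K β * y) =
        algebraMap (RatFunc k) K (β ^ 2 * algebraMap k[X] (RatFunc k) f) := by
      rw [map_mul, map_pow, ← heq]
      ring
    rwa [h3] at h1
  obtain ⟨a, ha, haα⟩ := exists_poly_of_algebraMap_mem_L hK hα
  obtain ⟨c, hc, hcβ⟩ := exists_poly_of_algebraMap_mem_L hK hβ2
  obtain ⟨b, hb⟩ := exists_poly_of_sq_mul_squarefree hf hcβ
  refine ⟨a, b, ha, ?_, by rw [haα, hb, algebraMap_poly, algebraMap_poly]⟩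
  by_cases hb0 : b = 0
  · exact Or.inl hb0
  · right
    have hf0 : f ≠ 0 := by
      rintro rfl
      simp at hd
    have hc' : c = b ^ 2 * f := by
      apply RatFunc.algebraMap_injective k
      rw [← hcβ, hb, map_mul, map_pow]
    rw [hc', natDegree_mul (pow_ne_zero 2 hb0) hf0, natDegree_pow] at hc
    exact hc

theorem hyper_mem_L (hK : IsFunctionField k K) {y : K} {f : k[X]}
    (heq : y ^ 2 = algebraMap (RatFunc k) K (algebraMap k[X] (RatFunc k) f)) {n : ℕ}
    {a b : k[X]} (ha : a.natDegree ≤ n) (hb : b = 0 ∨ 2 * b.natDegree + f.natDegree ≤ 2 * n) :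
    aeval (algebraMap (RatFunc k) K RatFunc.X) a +
        aeval (algebraMap (RatFunc k) K RatFunc.X) b * y ∈
      L (n • poleDiv (k := k) (algebraMap (RatFunc k) K RatFunc.X)) := by
  set x : K := algebraMap (RatFunc k) K RatFunc.X with hx
  refine (L _).add_mem ?_ ?_
  · rw [mem_L_nsmul_poleDiv_iff hK]
    intro P
    exact (val_aeval_le_max_pow P x a).trans (pow_le_pow_right' (le_max_left _ _) ha)
  · rcases hb with rfl | hb
    · rw [map_zero, zero_mul]
      exact (L _).zero_mem
    · rw [mem_L_nsmul_poleDiv_iff hK]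
      intro P
      have h1 : P.1 (aeval x b * y) ^ 2 ≤ ((max 1 (P.1 x)) ^ n) ^ 2 := by
        rw [← map_pow, mul_pow, heq, algebraMap_poly, map_mul, map_pow, ← pow_mul]
        have h3 := pow_le_pow_left' (val_aeval_le_max_pow P x b) 2
        have h4 := val_aeval_le_max_pow P x f
        calc P.1 (aeval x b) ^ 2 * P.1 (aeval x f)
            ≤ ((max 1 (P.1 x)) ^ b.natDegree) ^ 2 * (max 1 (P.1 x)) ^ f.natDegree :=
              mul_le_mul' h3 h4
          _ = (max 1 (P.1 x)) ^ (2 * b.natDegree + f.natDegree) := by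
              rw [← pow_mul, ← pow_add, mul_comm]
          _ ≤ (max 1 (P.1 x)) ^ (n * 2) :=
              pow_le_pow_right' (le_max_left _ _) (by omega)
      exact (pow_le_pow_iff_left₀ zero_le zero_le two_ne_zero).mp h1

theorem natDegree_le_of_mem_degreeLT {a : k[X]} {N : ℕ} (h : a ∈ degreeLT k (N + 1)) :
    a.natDegree ≤ N := by
  rcases eq_or_ne a 0 with rfl | h0
  · simp
  · have := (natDegree_lt_iff_degree_lt h0).mpr (mem_degreeLT.mp h)
    omega

theorem mem_degreeLT_of_natDegree_le {a : k[X]} {N : ℕ} (h : a.natDegree ≤ N) :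
    a ∈ degreeLT k (N + 1) := by
  rw [mem_degreeLT]
  exact lt_of_le_of_lt degree_le_natDegree (by exact_mod_cast Nat.lt_succ_of_le h)

theorem finrank_degreeLT (N : ℕ) : Module.finrank k (degreeLT k N) = N := by
  rw [(degreeLTEquiv k N).finrank_eq, Module.finrank_fin_fun]

theorem aeval_algebraMap_X_injective :
    Function.Injective (aeval (R := k) (algebraMap (RatFunc k) K RatFunc.X)) := by
  intro a b hab
  rw [← algebraMap_poly, ← algebraMap_poly] at hab
  exact RatFunc.algebraMap_injective k ((algebraMap (RatFunc k) K).injective hab)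

/-- `ℓ(n (x)_∞)` for a hyperelliptic field, `n = ⌈d/2⌉ + j`. -/
theorem hyper_ell (hK : IsFunctionField k K) (h2 : ringChar k ≠ 2)
    (hdeg : Module.finrank (RatFunc k) K = 2) {y : K} {f : k[X]} (hf : Squarefree f)
    (hd : 1 ≤ f.natDegree)
    (heq : y ^ 2 = algebraMap (RatFunc k) K (algebraMap k[X] (RatFunc k) f)) (j : ℕ) :
    ell (((f.natDegree + 1) / 2 + j) • poleDiv (k := k) (algebraMap (RatFunc k) K RatFunc.X)) =
      ((f.natDegree + 1) / 2 + j + 1) + (j + 1) := by
  classical
  set x : K := algebraMap (RatFunc k) K RatFunc.X with hx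
  set m := (f.natDegree + 1) / 2 with hm
  set n := m + j with hn
  set D : Divisor k K := n • poleDiv (k := k) x with hD
  have hy := hyper_not_mem_range hf hd heq
  let Φ₁ : degreeLT k (n + 1) →ₗ[k] K := (aeval x).toLinearMap.comp (Submodule.subtype _)
  let Φ₂ : degreeLT k (j + 1) →ₗ[k] K :=
    ((LinearMap.mulRight k y).comp (aeval x).toLinearMap).comp (Submodule.subtype _)
  let Φ₀ : (degreeLT k (n + 1) × degreeLT k (j + 1)) →ₗ[k] K := Φ₁.coprod Φ₂
  have hΦ₀ : ∀ ab, Φ₀ ab = aeval x (ab.1 : k[X]) + aeval x (ab.2 : k[X]) * y := fun ab => rfl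
  have hmemL : ∀ ab, Φ₀ ab ∈ L D := by
    intro ab
    rw [hΦ₀]
    refine hyper_mem_L hK heq (natDegree_le_of_mem_degreeLT ab.1.2) ?_
    by_cases hb0 : (ab.2 : k[X]) = 0
    · exact Or.inl hb0
    · right
      have := natDegree_le_of_mem_degreeLT ab.2.2
      omega
  let Φ : (degreeLT k (n + 1) × degreeLT k (j + 1)) →ₗ[k] L D := Φ₀.codRestrict (L D) hmemL
  have hinj : Function.Injective Φ := by
    rw [← LinearMap.ker_eq_bot, LinearMap.ker_eq_bot']
    intro ab hab
    have h0 : aeval x (ab.1 : k[X]) + aeval x (ab.2 : k[X]) * y = 0 := by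
      have := congrArg (fun w : L D => (w : K)) hab
      exact this
    have hb : (ab.2 : k[X]) = 0 := by
      by_contra hb0
      have hb1 : aeval x (ab.2 : k[X]) ≠ 0 := fun h =>
        hb0 (aeval_algebraMap_X_injective (by rw [h, map_zero]))
      apply hy
      refine ⟨-(algebraMap k[X] (RatFunc k) ab.1) / algebraMap k[X] (RatFunc k) ab.2, ?_⟩
      rw [map_div₀, map_neg, algebraMap_poly, algebraMap_poly, div_eq_iff hb1]
      linear_combination -h0
    rw [hb, map_zero, zero_mul, add_zero] at h0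
    have ha : (ab.1 : k[X]) = 0 := aeval_algebraMap_X_injective (by rw [h0, map_zero])
    exact Prod.ext (Subtype.ext ha) (Subtype.ext hb)
  have hsurj : Function.Surjective Φ := by
    rintro ⟨z, hz⟩
    obtain ⟨a, b, ha, hb, rfl⟩ := hyper_exists_repr_of_mem_L hK h2 hdeg hf hd heq hz
    have hb' : b ∈ degreeLT k (j + 1) := by
      rcases hb with rfl | hb
      · exact (degreeLT k (j + 1)).zero_mem
      · exact mem_degreeLT_of_natDegree_le (by omega)
    exact ⟨(⟨a, mem_degreeLT_of_natDegree_le ha⟩, ⟨b, hb'⟩), Subtype.ext rfl⟩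
  have e := LinearEquiv.ofBijective Φ ⟨hinj, hsurj⟩
  haveI : Module.Finite k (degreeLT k (n + 1)) := Module.Finite.equiv (degreeLTEquiv k (n + 1)).symm
  haveI : Module.Finite k (degreeLT k (j + 1)) := Module.Finite.equiv (degreeLTEquiv k (j + 1)).symm
  unfold ell
  rw [← e.finrank_eq, Module.finrank_prod, finrank_degreeLT, finrank_degreeLT]

/-- The genus of a hyperelliptic function field in characteristic not two. -/
theorem hyper_genus (hK : IsFunctionField k K) (h2 : ringChar k ≠ 2)
    (hdeg : Module.finrank (RatFunc k) K = 2) {y : K} {f : k[X]} (hf : Squarefree f)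
    (hd : 1 ≤ f.natDegree)
    (heq : y ^ 2 = algebraMap (RatFunc k) K (algebraMap k[X] (RatFunc k) f)) :
    genus k K = (f.natDegree - 1) / 2 := by
  set x : K := algebraMap (RatFunc k) K RatFunc.X with hx
  set g := genus k K with hg
  set m := (f.natDegree + 1) / 2 with hm
  have hell := hyper_ell hK h2 hdeg hf hd heq g
  have htr : Transcendental k x :=
    (transcendental_algebraMap_iff (algebraMap (RatFunc k) K).injective).mpr
      RatFunc.transcendental_X
  have hdegD : ((m + g) • poleDiv (k := k) x).deg = 2 * ((m + g : ℕ) : ℤ) := by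
    rw [deg_nsmul, deg_poleDiv_eq hK htr, finrank_adjoin_algebraMap_X, hdeg]
    push_cast
    ring
  have h3 := ell_eq_of_deg_ge hK ((m + g) • poleDiv (k := k) x) (by rw [hdegD]; push_cast; omega)
  rw [hdegD, hell] at h3
  push_cast at h3
  omega

end hyper

end Groth.Agent.Lib.Helper24.FFExt
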