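import Groth.Agent.Lib.Helper24.FFExt.Conorm
import Groth.Agent.Lib.Helper24.FFExt.Under
import Groth.Agent.Lib.Helper18.FF.MapDiv

/-! # The divisor of a projective map under a finite extension (helper24) -/

set_option autoImplicit false

namespace Groth.Agent.Lib.Helper24.FFExt

open FunFld Groth.Agent.Lib.Helper18.FF

variable {k K K' : Type*} [Field k] [Field K] [Field K'] [Algebra k K] [Algebra K K'] [Algebra k K']
  [IsScalarTower k K K']

theorem mapDiv_algebraMap_eq_conorm [FiniteDimensional K K'] (hK : IsFunctionField k K)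
    (hK' : IsFunctionField k K') {ι : Type*} [Fintype ι] [Nonempty ι] (φ : ι → K) :
    mapDiv k (fun i => algebraMap K K' (φ i)) = conorm K' (mapDiv k φ) := by
  ext Q
  obtain ⟨P, hP⟩ := exists_isOver hK Q
  have he := isOver_isOverWith_ramIdx hP
  rw [mapDiv_apply hK', conorm_apply hK _ hP, mapDiv_apply hK]
  have h1 : (fun i => Q.ord (algebraMap K K' (φ i))) =
      (fun z : ℤ => (ramIdx Q P : ℤ) * z) ∘ (fun i => P.ord (φ i)) := by
    funext i
    exact isOverWith_ord_eq he (φ i)
  rw [h1, ← Finset.apply_inf'_eq_inf'_comp Finset.univ_nonempty (fun z : ℤ => (ramIdx Q P : ℤ) * z)]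
  · ring
  · intro a b
    exact (mul_min_of_nonneg a b (Nat.cast_nonneg _))

end Groth.Agent.Lib.Helper24.FFExt
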