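import Groth.Agent.Lib.Helper24.FFExt.TraceDual
import Groth.Agent.Lib.Helper24.FFExt.Nonsing
import Mathlib.RingTheory.TensorProduct.Free

/-! # Nonsingular places in a tower of constant field extensions (helper24) -/

set_option autoImplicit false

namespace Groth.Agent.Lib.Helper24.FFExt

open FunFld WithZero Polynomial Groth.Agent.Lib.Helper18.FF

open scoped TensorProduct

universe u v

section Integral

variable {k : Type u} {K L : Type v} [Field k] [Field K] [Field L] [Algebra k K]
  [Algebra K L] [Algebra k L] [IsScalarTower k K L]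

/-- Weak-base version of `isIntegral_of_forall_isOver`. -/
theorem isIntegral_of_forall_isOver_weak [FiniteDimensional K L] (hW : WeakFF k K)
    (P : Place k K) [Algebra P.O L] [IsScalarTower P.O K L] {z : L}
    (hz : ∀ Q : Place k L, IsOver Q P → Q.1 z ≤ 1) : IsIntegral P.O z := by
  by_contra hni
  have hzR : z ∉ (integralClosure P.O L).toSubring := hni
  obtain ⟨V, hRV, hzV⟩ := Subring.exists_le_valuationSubring_of_isIntegrallyClosedIn hzR
  have hW' : WeakFF k L := hW.of_finite
  have hKc := hW'.isFunctionField_kc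
  haveI : IsScalarTower k P.O L := IsScalarTower.of_algebraMap_eq fun c => by
    rw [IsScalarTower.algebraMap_apply P.O K L, IsScalarTower.algebraMap_apply k K L]
    rfl
  have hkcV : ∀ c : algebraicClosure k L, algebraMap (algebraicClosure k L) L c ∈ V := by
    intro c
    apply hRV
    show IsIntegral P.O (c : L)
    have h1 : IsIntegral k (c : L) := (mem_algebraicClosure_iff.mp c.2).isIntegral
    exact h1.tower_top
  have hz0 : z ≠ 0 := fun h0 => hzV (h0 ▸ V.zero_mem)
  have hzinv : V.valuation z⁻¹ < 1 := by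
    have h1 : ¬ V.valuation z ≤ 1 := fun hle => hzV ((V.valuation_le_one_iff z).mp hle)
    push Not at h1
    rw [map_inv₀]
    exact (inv_lt_one₀ (zero_lt_iff.mpr ((Valuation.ne_zero_iff _).mpr hz0))).mpr h1
  obtain ⟨Q', hQ'le, hQ'lt⟩ := exists_place_of_valuationSubring hKc V hkcV (inv_ne_zero hz0) hzinv
  set Q : Place k L := ofAlg (algebraicClosure k L) Q' with hQ
  have hQz : 1 < Q.1 z := by
    have h1 : Q.1 z⁻¹ < 1 := hQ'lt _ hzinv
    rw [map_inv₀] at h1
    exact (inv_lt_one₀ (zero_lt_iff.mpr ((Valuation.ne_zero_iff _).mpr hz0))).mp h1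
  obtain ⟨P', hP'⟩ := hW.exists_isOver Q
  have hPP' : P = P' := by
    apply place_eq_of_le
    intro x hx
    rw [← isOver_le_one_iff hP']
    apply hQ'le
    apply hRV
    have : algebraMap K L x = algebraMap P.O L ⟨x, hx⟩ := by
      rw [IsScalarTower.algebraMap_apply P.O K L]; rfl
    rw [this]
    exact Subalgebra.algebraMap_mem (integralClosure P.O L) _
  subst hPP'
  exact absurd (hz Q hP') (not_le.mpr hQz)

/-- Integrality over `O_P` transfers to the image subring. -/
theorem isIntegral_map_of_isIntegral {P : Place k K} [Algebra P.O L] [IsScalarTower P.O K L] {z : L}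
    (hz : IsIntegral P.O z) : IsIntegral (P.O.toSubring.map (algebraMap K L)) z := by
  obtain ⟨p, hp, hpz⟩ := hz
  let f : P.O →+* (P.O.toSubring.map (algebraMap K L)) :=
    ((algebraMap K L).comp P.O.subtype).codRestrict _ (fun c => ⟨c.1, c.2, rfl⟩)
  refine ⟨p.map f, hp.map f, ?_⟩
  rw [Polynomial.eval₂_map]
  have : (algebraMap (P.O.toSubring.map (algebraMap K L)) L).comp f = algebraMap P.O L := by
    ext c
    rw [IsScalarTower.algebraMap_apply P.O K L]
    rfl
  rw [this]
  exact hpz

theorem isIntegral_imO_iff [FiniteDimensional K L] (hW : WeakFF k K) (P : Place k K)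
    [Algebra P.O L] [IsScalarTower P.O K L] (z : L) :
    IsIntegral (P.O.toSubring.map (algebraMap K L)) z ↔
      ∀ Q : Place k L, IsOver Q P → Q.1 z ≤ 1 := by
  constructor
  · intro hz Q hQ
    refine val_le_one_of_isIntegral_ring (R := P.O.toSubring.map (algebraMap K L)) Q.1
      (fun y => ?_) hz
    obtain ⟨c, hc, hcy⟩ := y.2
    have : algebraMap (P.O.toSubring.map (algebraMap K L)) L y = algebraMap K L c := hcy.symm
    rw [this, isOver_le_one_iff hQ]
    exact hc
  · intro hz
    exact isIntegral_map_of_isIntegral (isIntegral_of_forall_isOver_weak hW P hz)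

/-- Constants (algebraic over `k`) are integral at every place. -/
theorem val_algebraMap_const_le_one {ℓ : Type*} [Field ℓ] [Algebra ℓ L] [Algebra k ℓ]
    [IsScalarTower k ℓ L] [Algebra.IsIntegral k ℓ] (Q : Place k L) (a : ℓ) :
    Q.1 (algebraMap ℓ L a) ≤ 1 := by
  have h1 : IsIntegral k a := Algebra.IsIntegral.isIntegral a
  have h2 : IsIntegral k (algebraMap ℓ L a) := h1.map (IsScalarTower.toAlgHom k ℓ L)
  exact val_le_one_of_isIntegral_ring (R := k) Q.1 Q.2.1 h2

/-- Set-level form of nonsingularity. -/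
theorem nonsing_iff [FiniteDimensional K L] (hW : WeakFF k K) (P : Place k K)
    [Algebra P.O L] [IsScalarTower P.O K L]
    {ℓ : Type*} [Field ℓ] [Algebra ℓ L] [Algebra k ℓ]
    [IsScalarTower k ℓ L] [Algebra.IsIntegral k ℓ] :
    integralClosure (P.O.toSubring.map (algebraMap K L)) L =
        Algebra.adjoin (P.O.toSubring.map (algebraMap K L)) (Set.range (algebraMap ℓ L)) ↔
      ∀ z : L, (∀ Q : Place k L, IsOver Q P → Q.1 z ≤ 1) →
        z ∈ Algebra.adjoin (P.O.toSubring.map (algebraMap K L)) (Set.range (algebraMap ℓ L)) := by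
  constructor
  · intro h z hz
    rw [← h]
    exact (isIntegral_imO_iff hW P z).mpr hz
  · intro h
    apply le_antisymm
    · intro z hz
      exact h z ((isIntegral_imO_iff hW P z).mp hz)
    · refine Algebra.adjoin_le ?_
      rintro _ ⟨a, rfl⟩
      exact (isIntegral_imO_iff hW P _).mpr fun Q _ => val_algebraMap_const_le_one Q a

end Integral

section Coord

variable {k' k'' : Type u} {K' K'' : Type v} [Field k'] [Field k''] [Field K'] [Field K'']
  [Algebra k' k''] [Algebra k' K'] [Algebra K' K''] [Algebra k'' K''] [Algebra k' K'']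
  [IsScalarTower k' k'' K''] [IsScalarTower k' K' K'']

/-- The `K'`-algebra map `K' ⊗[k'] k'' → K''`. -/
noncomputable def tensorMap : K' ⊗[k'] k'' →ₐ[K'] K'' :=
  Algebra.TensorProduct.productLeftAlgHom (Algebra.ofId K' K'') (IsScalarTower.toAlgHom k' k'' K'')

theorem tensorMap_tmul (a : K') (b : k'') :
    tensorMap (a ⊗ₜ[k'] b) = algebraMap K' K'' a * algebraMap k'' K'' b := by
  simp [tensorMap]

theorem tensorMap_bijective (h2 : Function.Bijective (Algebra.TensorProduct.productMap
      (IsScalarTower.toAlgHom k' k'' K'') (IsScalarTower.toAlgHom k' K' K''))) :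
    Function.Bijective (tensorMap (k' := k') (k'' := k'') (K' := K') (K'' := K'')) := by
  have : ⇑(tensorMap (k' := k') (k'' := k'') (K' := K') (K'' := K'')) =
      ⇑(Algebra.TensorProduct.productMap
        (IsScalarTower.toAlgHom k' k'' K'') (IsScalarTower.toAlgHom k' K' K'')) ∘
      ⇑(Algebra.TensorProduct.comm k' K' k'') := by
    funext x
    induction x using TensorProduct.induction_on with
    | zero => simp
    | tmul a b =>
      rw [tensorMap_tmul, Function.comp_apply, Algebra.TensorProduct.comm_tmul,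
        Algebra.TensorProduct.productMap_apply_tmul]
      simp [mul_comm]
    | add x y hx hy =>
      simp only [map_add, Function.comp_apply] at *
      rw [hx, hy]
  rw [this]
  exact h2.comp (AlgEquiv.bijective _)

/-- A `k'`-basis of `k''` gives a `K'`-basis of `K''`. -/
noncomputable def towerBasis (h2 : Function.Bijective (Algebra.TensorProduct.productMap
      (IsScalarTower.toAlgHom k' k'' K'') (IsScalarTower.toAlgHom k' K' K'')))
    {ι : Type*} (ω : Module.Basis ι k' k'') : Module.Basis ι K' K'' :=
  (Algebra.TensorProduct.basis K' ω).map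
    (LinearEquiv.ofBijective (tensorMap (k' := k') (k'' := k'') (K' := K') (K'' := K'')).toLinearMap
      (tensorMap_bijective h2))

theorem towerBasis_apply (h2 : Function.Bijective (Algebra.TensorProduct.productMap
      (IsScalarTower.toAlgHom k' k'' K'') (IsScalarTower.toAlgHom k' K' K'')))
    {ι : Type*} (ω : Module.Basis ι k' k'') (i : ι) :
    towerBasis h2 ω i = algebraMap k'' K'' (ω i) := by
  simp [towerBasis, tensorMap_tmul, Algebra.TensorProduct.basis_apply]

theorem towerBasis_repr_algebraMap (h2 : Function.Bijective (Algebra.TensorProduct.productMap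
      (IsScalarTower.toAlgHom k' k'' K'') (IsScalarTower.toAlgHom k' K' K'')))
    {ι : Type*} [Fintype ι] (ω : Module.Basis ι k' k'') (a : k'') (i : ι) :
    (towerBasis h2 ω).repr (algebraMap k'' K'' a) i = algebraMap k' K' (ω.repr a i) := by
  have h1 : algebraMap k'' K'' a =
      ∑ j, (algebraMap k' K' (ω.repr a j)) • towerBasis h2 ω j := by
    conv_lhs => rw [← ω.sum_repr a]
    rw [map_sum]
    refine Finset.sum_congr rfl fun j _ => ?_
    rw [towerBasis_apply, Algebra.smul_def, Algebra.smul_def, map_mul,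
      ← IsScalarTower.algebraMap_apply k' k'' K'', ← IsScalarTower.algebraMap_apply k' K' K'']
  rw [h1, Module.Basis.repr_sum_self]

/-- Coordinates criterion for membership in `S[k'']`. -/
theorem mem_adjoin_iff_repr_mem (h2 : Function.Bijective (Algebra.TensorProduct.productMap
      (IsScalarTower.toAlgHom k' k'' K'') (IsScalarTower.toAlgHom k' K' K'')))
    {ι : Type*} [Fintype ι] (ω : Module.Basis ι k' k'') (S : Subring K'') (T : Subring K')
    (ha : ∀ s ∈ S, ∃ c ∈ T, s = algebraMap K' K'' c)
    (hb : ∀ a : k', algebraMap k' K' a ∈ T)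
    (hc : ∀ c ∈ T, algebraMap K' K'' c ∈ Algebra.adjoin S (Set.range (algebraMap k'' K'')))
    (z : K'') :
    z ∈ Algebra.adjoin S (Set.range (algebraMap k'' K'')) ↔
      ∀ i, (towerBasis h2 ω).repr z i ∈ T := by
  constructor
  · intro hz
    have hz' : z ∈ Subalgebra.toSubmodule (Algebra.adjoin S (Set.range (algebraMap k'' K''))) := hz
    rw [Algebra.adjoin_eq_span] at hz'
    have hcl : Submonoid.closure (Set.range (algebraMap k'' K'')) =
        MonoidHom.mrange (algebraMap k'' K'') := by
      rw [← MonoidHom.coe_mrange, Submonoid.closure_eq]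
    rw [hcl] at hz'
    clear hz
    induction hz' using Submodule.span_induction with
    | mem x hx =>
      obtain ⟨a, rfl⟩ := hx
      intro i
      show (towerBasis h2 ω).repr (algebraMap k'' K'' a) i ∈ T
      rw [towerBasis_repr_algebraMap]; exact hb _
    | zero => intro i; simp [T.zero_mem]
    | add x y _ _ hx hy =>
      intro i; rw [map_add, Finsupp.add_apply]; exact T.add_mem (hx i) (hy i)
    | smul s x _ hx =>
      intro i
      obtain ⟨c, hcT, hsc⟩ := ha s.1 s.2
      have : s • x = c • x := by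
        rw [Algebra.smul_def c x, ← hsc]; rfl
      rw [this, map_smul, Finsupp.smul_apply, smul_eq_mul]
      exact T.mul_mem hcT (hx i)
  · intro h
    rw [← (towerBasis h2 ω).sum_repr z]
    refine Subalgebra.sum_mem _ fun i _ => ?_
    rw [Algebra.smul_def, towerBasis_apply]
    exact mul_mem (hc _ (h i)) (Algebra.subset_adjoin ⟨_, rfl⟩)

end Coord

section Approx

variable {k : Type u} {K K' : Type v} [Field k] [Field K] [Field K'] [Algebra k K]
  [Algebra K K'] [Algebra k K'] [IsScalarTower k K K']

/-- A unit at `Q` making finitely many elements integral at the other places above `P`. -/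
theorem exists_unit_mul_le_one [FiniteDimensional K K'] (hW : WeakFF k K) (P : Place k K)
    (Q : Place k K') {ι : Type*} [Fintype ι] (y : ι → K') :
    ∃ w : K', Q.1 w = 1 ∧
      ∀ Q₂ : Place k K', IsOver Q₂ P → Q₂ ≠ Q → ∀ i, Q₂.1 (w * y i) ≤ 1 := by
  classical
  have hfin := hW.finite_isOver (K' := K') P
  set S := hfin.toFinset.erase Q with hS
  have hQS : Q ∉ S := Finset.notMem_erase _ _
  let c : Place k K' → ι → ℤᵐ⁰ := fun Q' i => if Q'.1 (y i) ≤ 1 then 1 else (Q'.1 (y i))⁻¹
  have hc0 : ∀ Q' i, c Q' i ≠ 0 := by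
    intro Q' i
    by_cases h : Q'.1 (y i) ≤ 1
    · simp [c, h]
    · simp only [c, h, if_false]
      have : Q'.1 (y i) ≠ 0 := by
        intro h0; apply h; rw [h0]; exact zero_le'
      exact inv_ne_zero this
  have hc1 : ∀ Q' i, c Q' i ≤ 1 := by
    intro Q' i
    by_cases h : Q'.1 (y i) ≤ 1
    · simp [c, h]
    · simp only [c, h, if_false]
      push Not at h
      exact (inv_le_one₀ (zero_lt_one.trans h)).mpr h.le
  have hcy : ∀ Q' i, c Q' i * Q'.1 (y i) ≤ 1 := by
    intro Q' i
    by_cases h : Q'.1 (y i) ≤ 1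
    · simp only [c, h, if_true, one_mul]
    · simp only [c, h, if_false]
      have : Q'.1 (y i) ≠ 0 := by
        intro h0; apply h; rw [h0]; exact zero_le'
      rw [inv_mul_cancel₀ this]
  let b : Place k K' → ℤᵐ⁰ := fun Q' => ∏ i, c Q' i
  have hb : ∀ Q' ∈ S, b Q' ≠ 0 := fun Q' _ => Finset.prod_ne_zero_iff.mpr fun i _ => hc0 Q' i
  have hbc : ∀ Q' i, b Q' ≤ c Q' i := by
    intro Q' i
    show ∏ j, c Q' j ≤ c Q' i
    rw [← Finset.mul_prod_erase _ _ (Finset.mem_univ i)]
    calc c Q' i * ∏ j ∈ Finset.univ.erase i, c Q' j ≤ c Q' i * 1 :=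
          mul_le_mul_right (Finset.prod_le_one' fun j _ => hc1 Q' j) _
      _ = c Q' i := mul_one _
  obtain ⟨d, hd0, hd⟩ := zm0_exists_ne_zero_forall_le S b hb
  have hd'0 : min d 1 ≠ 0 := by
    rw [Ne, min_eq_iff]
    rintro (⟨h, -⟩ | ⟨h, -⟩)
    · exact hd0 h
    · exact one_ne_zero h
  obtain ⟨w, hwQ, hwS⟩ := exists_approx_one Q S hQS hd'0
  have hwQ1 : Q.1 (w - 1) < 1 := lt_of_lt_of_le hwQ (min_le_right _ _)
  have hw1 : Q.1 w = 1 := by
    have : w = (w - 1) + 1 := by ring
    rw [this, Valuation.map_add_eq_of_lt_right Q.1 (by rw [map_one]; exact hwQ1), map_one]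
  refine ⟨w, hw1, ?_⟩
  intro Q₂ hQ₂ hne i
  have hmem : Q₂ ∈ S := Finset.mem_erase.mpr ⟨hne, hfin.mem_toFinset.mpr hQ₂⟩
  have h1 : Q₂.1 w ≤ c Q₂ i :=
    ((hwS Q₂ hmem).le.trans (min_le_left _ _)).trans ((hd Q₂ hmem).trans (hbc Q₂ i))
  rw [map_mul]
  exact (mul_le_mul_left h1 _).trans (hcy Q₂ i)

end Approx

section Main

variable {k k' k'' : Type u} {K K' K'' : Type v} [Field k] [Field k'] [Field k''] [Field K]
    [Field K'] [Field K'']
    [Algebra k k'] [Algebra k' k''] [Algebra k k''] [IsScalarTower k k' k'']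
    [FiniteDimensional k k'] [FiniteDimensional k' k'']
    [Algebra k K] [Algebra K K'] [Algebra k' K'] [Algebra k K'] [IsScalarTower k k' K']
    [IsScalarTower k K K']
    [Algebra K' K''] [Algebra k'' K''] [Algebra k' K''] [Algebra k K''] [Algebra K K'']
    [IsScalarTower k' k'' K''] [IsScalarTower k' K' K''] [IsScalarTower K K' K'']
    [IsScalarTower k K K'']

/-- **S12534.** -/
theorem nonsingular_scalar_tower_iff
    (h1 : Function.Bijective (Algebra.TensorProduct.productMap
      (IsScalarTower.toAlgHom k k' K') (IsScalarTower.toAlgHom k K K')))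
    (h2 : Function.Bijective (Algebra.TensorProduct.productMap
      (IsScalarTower.toAlgHom k' k'' K'') (IsScalarTower.toAlgHom k' K' K'')))
    (hK : IsFunctionField k K) (P : Place k K) :
    (integralClosure (P.O.toSubring.map (algebraMap K K'')) K'' =
        Algebra.adjoin (P.O.toSubring.map (algebraMap K K'')) (Set.range (algebraMap k'' K''))) ↔
      (integralClosure (P.O.toSubring.map (algebraMap K K')) K' =
          Algebra.adjoin (P.O.toSubring.map (algebraMap K K')) (Set.range (algebraMap k' K')) ∧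
        ∀ Q : Place k K', IsOver Q P →
          integralClosure (Q.O.toSubring.map (algebraMap K' K'')) K'' =
            Algebra.adjoin (Q.O.toSubring.map (algebraMap K' K''))
              (Set.range (algebraMap k'' K''))) := by
  classical
  haveI : IsScalarTower k K' K'' := IsScalarTower.of_algebraMap_eq fun c => by
    rw [IsScalarTower.algebraMap_apply k K K'', IsScalarTower.algebraMap_apply K K' K'',
      ← IsScalarTower.algebraMap_apply k K K']
  haveI : IsScalarTower k k'' K'' := IsScalarTower.of_algebraMap_eq fun c => by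
    rw [IsScalarTower.algebraMap_apply k K' K'', IsScalarTower.algebraMap_apply k k' K',
      ← IsScalarTower.algebraMap_apply k' K' K'', IsScalarTower.algebraMap_apply k' k'' K'',
      ← IsScalarTower.algebraMap_apply k k' k'']
  haveI : FiniteDimensional k k'' := FiniteDimensional.trans k k' k''
  set ω' := Module.finBasis k k' with hω'
  set ω := Module.finBasis k' k'' with hω
  haveI : FiniteDimensional K K' := Module.Finite.of_basis (towerBasis h1 ω')
  haveI : FiniteDimensional K' K'' := Module.Finite.of_basis (towerBasis h2 ω)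
  haveI : FiniteDimensional K K'' := FiniteDimensional.trans K K' K''
  have hW : WeakFF k K := IsFunctionField.weakFF hK
  have hW' : WeakFF k K' := hW.of_finite
  set B := towerBasis h2 ω with hB
  set S'' := P.O.toSubring.map (algebraMap K K'') with hS''
  set S' := P.O.toSubring.map (algebraMap K K') with hS'
  set A'' := Algebra.adjoin S'' (Set.range (algebraMap k'' K'')) with hA''
  set A' := Algebra.adjoin S' (Set.range (algebraMap k' K')) with hA'
  -- coordinates at the `P`-level
  have coordP : ∀ z : K'', z ∈ A'' ↔ ∀ i, B.repr z i ∈ A'.toSubring := by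
    intro z
    refine mem_adjoin_iff_repr_mem h2 ω S'' A'.toSubring ?_ ?_ ?_ z
    · rintro s ⟨c₀, hc₀, rfl⟩
      refine ⟨algebraMap K K' c₀, ?_, IsScalarTower.algebraMap_apply K K' K'' c₀⟩
      exact Subalgebra.algebraMap_mem A' (⟨algebraMap K K' c₀, ⟨c₀, hc₀, rfl⟩⟩ : S')
    · intro a
      exact Algebra.subset_adjoin ⟨a, rfl⟩
    · intro c hc
      have hc' : c ∈ A' := hc
      induction hc' using Algebra.adjoin_induction with
      | mem x hx =>
        obtain ⟨a, rfl⟩ := hx
        have : algebraMap K' K'' (algebraMap k' K' a) = algebraMap k'' K'' (algebraMap k' k'' a) := by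
          rw [← IsScalarTower.algebraMap_apply k' K' K'', ← IsScalarTower.algebraMap_apply k' k'' K'']
        rw [this]
        exact Algebra.subset_adjoin ⟨_, rfl⟩
      | algebraMap r =>
        obtain ⟨c₀, hc₀, hr⟩ := r.2
        have : algebraMap K' K'' (algebraMap S' K' r) = algebraMap K K'' c₀ := by
          rw [IsScalarTower.algebraMap_apply K K' K'', hr]; rfl
        rw [this]
        exact Subalgebra.algebraMap_mem A'' (⟨algebraMap K K'' c₀, ⟨c₀, hc₀, rfl⟩⟩ : S'')
      | add x y _ _ hx hy => rw [map_add]; exact add_mem (hx (by assumption)) (hy (by assumption))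
      | mul x y _ _ hx hy => rw [map_mul]; exact mul_mem (hx (by assumption)) (hy (by assumption))
  -- coordinates at the `Q`-level
  have coordQ : ∀ (Q : Place k K') (z : K''),
      z ∈ Algebra.adjoin (Q.O.toSubring.map (algebraMap K' K'')) (Set.range (algebraMap k'' K'')) ↔
        ∀ i, Q.1 (B.repr z i) ≤ 1 := by
    intro Q z
    refine mem_adjoin_iff_repr_mem h2 ω (Q.O.toSubring.map (algebraMap K' K'')) Q.O.toSubring
      ?_ ?_ ?_ z
    · rintro s ⟨c, hc, rfl⟩
      exact ⟨c, hc, rfl⟩
    · intro a
      exact val_algebraMap_const_le_one Q a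
    · intro c hc
      exact Subalgebra.algebraMap_mem _
        (⟨algebraMap K' K'' c, ⟨c, hc, rfl⟩⟩ : Q.O.toSubring.map (algebraMap K' K''))
  -- elements of `A'` are integral above `P`
  have hA'le : ∀ x ∈ A', ∀ Q : Place k K', IsOver Q P → Q.1 x ≤ 1 := by
    intro x hx
    have hle : A' ≤ integralClosure S' K' := by
      refine Algebra.adjoin_le ?_
      rintro _ ⟨a, rfl⟩
      exact (isIntegral_imO_iff hW P _).mpr fun Q _ => val_algebraMap_const_le_one Q a
    exact (isIntegral_imO_iff hW P x).mp (hle hx)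
  rw [nonsing_iff hW P (ℓ := k''), nonsing_iff hW P (ℓ := k')]
  constructor
  · intro h''
    have part1 : ∀ z : K', (∀ Q : Place k K', IsOver Q P → Q.1 z ≤ 1) → z ∈ A' := by
      intro z hz
      have hz'' : algebraMap K' K'' z ∈ A'' := by
        apply h''
        intro Q'' hQ''
        obtain ⟨Q, hQ''Q⟩ := hW'.exists_isOver Q''
        have hQP : IsOver Q P := isOver_of_isOver_of_isOver hQ'' hQ''Q
        exact (isOver_le_one_iff hQ''Q z).mpr (hz Q hQP)
      rw [coordP] at hz''
      have hone : ∃ i, ω.repr 1 i ≠ 0 := by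
        by_contra hcon
        push Not at hcon
        have : ω.repr 1 = 0 := Finsupp.ext hcon
        rw [map_eq_zero_iff _ ω.repr.injective] at this
        exact one_ne_zero this
      obtain ⟨i, hi⟩ := hone
      have hrepr : B.repr (algebraMap K' K'' z) i = z * algebraMap k' K' (ω.repr 1 i) := by
        have : algebraMap K' K'' z = z • (algebraMap k'' K'' 1) := by
          rw [Algebra.smul_def, map_one, mul_one]
        rw [this, map_smul, Finsupp.smul_apply, smul_eq_mul, hB, towerBasis_repr_algebraMap]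
      have h3 := hz'' i
      rw [hrepr] at h3
      have h4 : algebraMap k' K' (ω.repr 1 i)⁻¹ ∈ A' := Algebra.subset_adjoin ⟨_, rfl⟩
      have h5 : z = z * algebraMap k' K' (ω.repr 1 i) * algebraMap k' K' (ω.repr 1 i)⁻¹ := by
        rw [mul_assoc, ← map_mul, mul_inv_cancel₀ hi, map_one, mul_one]
      rw [h5]
      exact mul_mem h3 h4
    refine ⟨part1, ?_⟩
    intro Q hQP
    rw [nonsing_iff hW' Q (ℓ := k'')]
    intro z hz
    rw [coordQ]
    obtain ⟨w, hw1, hw⟩ := exists_unit_mul_le_one hW P Q (fun i => B.repr z i)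
    have hwz : algebraMap K' K'' w * z ∈ A'' := by
      apply h''
      intro Q'' hQ''
      obtain ⟨Q₂, hQ''Q₂⟩ := hW'.exists_isOver Q''
      have hQ₂P : IsOver Q₂ P := isOver_of_isOver_of_isOver hQ'' hQ''Q₂
      by_cases hQQ : Q₂ = Q
      · rw [hQQ] at hQ''Q₂
        rw [map_mul]
        have h1 : Q''.1 (algebraMap K' K'' w) ≤ 1 := (isOver_le_one_iff hQ''Q₂ w).mpr hw1.le
        exact (mul_le_mul' h1 (hz Q'' hQ''Q₂)).trans_eq (one_mul 1)
      · have hsum : algebraMap K' K'' w * z = ∑ i, (w * B.repr z i) • B i := by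
          conv_lhs => rw [← B.sum_repr z]
          rw [Finset.mul_sum]
          refine Finset.sum_congr rfl fun i _ => ?_
          rw [Algebra.smul_def, Algebra.smul_def, map_mul]; ring
        rw [hsum]
        refine Valuation.map_sum_le Q''.1 fun i _ => ?_
        rw [Algebra.smul_def, map_mul, hB, towerBasis_apply]
        have h1 : Q''.1 (algebraMap K' K'' (w * (towerBasis h2 ω).repr z i)) ≤ 1 :=
          (isOver_le_one_iff hQ''Q₂ _).mpr (hw Q₂ hQ₂P hQQ i)
        have h2' : Q''.1 (algebraMap k'' K'' (ω i)) ≤ 1 := val_algebraMap_const_le_one Q'' (ω i)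
        exact (mul_le_mul' h1 h2').trans_eq (one_mul 1)
    rw [coordP] at hwz
    intro i
    have h1 := hA'le _ (hwz i) Q hQP
    have : algebraMap K' K'' w * z = w • z := (Algebra.smul_def _ _).symm
    rw [this, map_smul, Finsupp.smul_apply, smul_eq_mul, map_mul, hw1, one_mul] at h1
    exact h1
  · rintro ⟨hP', hQ⟩ z hz
    rw [coordP]
    intro i
    apply hP'
    intro Q hQP
    have h3 := hQ Q hQP
    rw [nonsing_iff hW' Q (ℓ := k'')] at h3
    exact (coordQ Q z).mp (h3 z fun Q'' hQ'' => hz Q'' (isOver_trans hQ'' hQP)) i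

end Main

end Groth.Agent.Lib.Helper24.FFExt
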