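import Groth.Agent.Lib.Helper24.FFExt.Kaehler
import Groth.Agent.Lib.Helper24.FFExt.SepConst
import Mathlib.GroupTheory.CosetCover
import Mathlib.FieldTheory.PrimitiveElement

/-! # Separating variables and generators inside a generating subspace (helper24) -/

set_option autoImplicit false

namespace Groth.Agent.Lib.Helper24.FFExt

open FunFld IntermediateField Polynomial Groth.Agent.Lib.Helper18.FF

universe u v

variable {k : Type u} {K : Type v} [Field k] [Field K] [Algebra k K]

/-- If `d` vanishes on a set generating `K`, it vanishes identically. -/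
theorem D_eq_zero_of_adjoin_eq_top {S : Set K} (hS : IntermediateField.adjoin k S = ⊤)
    (h : ∀ y ∈ S, KaehlerDifferential.D k K y = 0) (z : K) : KaehlerDifferential.D k K z = 0 := by
  have hz : z ∈ IntermediateField.adjoin k S := hS ▸ IntermediateField.mem_top
  induction hz using IntermediateField.adjoin_induction with
  | mem y hy => exact h y hy
  | algebraMap c => exact Derivation.map_algebraMap _ c
  | add a b _ _ ha hb => rw [map_add, ha, hb, add_zero]
  | inv a _ ha => rw [Derivation.leibniz_inv, ha, smul_zero]
  | mul a b _ _ ha hb => rw [Derivation.leibniz, ha, hb, smul_zero, smul_zero, add_zero]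

/-- A generating set of a geometric function field contains a separating variable. -/
theorem exists_separating_mem (hK : IsFunctionField k K) (hg : IsGeometric k K) {S : Set K}
    (hS : IntermediateField.adjoin k S = ⊤) :
    ∃ x ∈ S, Algebra.IsSeparable k⟮x⟯ K := by
  by_contra hcon
  push Not at hcon
  obtain ⟨t, ht, -, hsep⟩ := exists_separating hK hg
  refine D_ne_zero_of_separating ht (D_eq_zero_of_adjoin_eq_top hS (fun y hy => ?_) t)
  by_contra hD
  exact hcon y hy (isSeparable_of_D_ne_zero' hK hg hD).2.2

/-- Given a separating `x`, a generating subspace over an infinite field contains `y` with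
`K = k(x, y)`. -/
theorem exists_generator_mem [Infinite k] (W : Submodule k K)
    (hW : IntermediateField.adjoin k (W : Set K) = ⊤) {x : K} [FiniteDimensional k⟮x⟯ K]
    [Algebra.IsSeparable k⟮x⟯ K] :
    ∃ y ∈ W, IntermediateField.adjoin k ({x, y} : Set K) = ⊤ := by
  classical
  haveI : Finite (IntermediateField k⟮x⟯ K) :=
    Field.finite_intermediateField_of_exists_primitive_element k⟮x⟯ K
      (Field.exists_primitive_element k⟮x⟯ K)
  by_contra hcon
  push Not at hcon
  have hne : ∀ y ∈ W, IntermediateField.adjoin k⟮x⟯ ({y} : Set K) ≠ ⊤ := by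
    intro y hy htop
    apply hcon y hy
    have h1 := IntermediateField.adjoin_adjoin_left k ({x} : Set K) ({y} : Set K)
    rw [htop, IntermediateField.restrictScalars_top] at h1
    rw [h1, Set.singleton_union]
  let ι := {M : IntermediateField k⟮x⟯ K // M ≠ ⊤}
  let p : ι → Subspace k W := fun M =>
    Submodule.comap W.subtype (M.1.restrictScalars k).toSubalgebra.toSubmodule
  have hcov : ⋃ i, (p i : Set W) = Set.univ := by
    apply Set.eq_univ_of_forall
    intro y
    rw [Set.mem_iUnion]
    refine ⟨⟨IntermediateField.adjoin k⟮x⟯ ({y.1} : Set K), hne y.1 y.2⟩, ?_⟩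
    show y.1 ∈ IntermediateField.adjoin k⟮x⟯ ({y.1} : Set K)
    exact IntermediateField.mem_adjoin_simple_self _ _
  obtain ⟨M, hM⟩ := Subspace.exists_eq_top_of_iUnion_eq_univ hcov
  apply M.2
  have hWM : (W : Set K) ⊆ (M.1.restrictScalars k : Set K) := by
    intro y hy
    have : (⟨y, hy⟩ : W) ∈ p M := hM ▸ Submodule.mem_top
    exact this
  have hle : IntermediateField.adjoin k (W : Set K) ≤ M.1.restrictScalars k :=
    IntermediateField.adjoin_le_iff.mpr hWM
  rw [hW] at hle
  apply IntermediateField.restrictScalars_injective k
  rw [IntermediateField.restrictScalars_top]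
  exact top_le_iff.mp hle

/-- Over an algebraically closed constant field, a finite-dimensional generating subspace contains
a separating variable, and for each such `x` some `y` in it gives `K = k(x, y)`. -/
theorem exists_separating_mem_and_generator [IsAlgClosed k] (hK : IsFunctionField k K)
    (W : Submodule k K) (hW : IntermediateField.adjoin k (W : Set K) = ⊤) :
    (∃ x ∈ W, Algebra.IsSeparable (IntermediateField.adjoin k ({x} : Set K)) K) ∧
    ∀ x ∈ W, Algebra.IsSeparable (IntermediateField.adjoin k ({x} : Set K)) K →
      ∃ y ∈ W, IntermediateField.adjoin k ({x, y} : Set K) = ⊤ := by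
  have hg : IsGeometric k K := isGeometric_of_perfectField hK
  refine ⟨exists_separating_mem hK hg hW, ?_⟩
  intro x _ hsep
  have hx : Transcendental k x := by
    intro halg
    obtain ⟨t, ht, -⟩ := hK.1
    haveI : Algebra.IsAlgebraic k k⟮x⟯ := IntermediateField.isAlgebraic_adjoin_simple halg.isIntegral
    haveI : Algebra.IsAlgebraic k⟮x⟯ K := Algebra.IsSeparable.isAlgebraic _ _
    haveI : Algebra.IsAlgebraic k K := Algebra.IsAlgebraic.trans k k⟮x⟯ K
    exact ht (Algebra.IsAlgebraic.isAlgebraic t)
  haveI := finiteDimensional_adjoin_of_transcendental hK hx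
  exact exists_generator_mem W hW

end Groth.Agent.Lib.Helper24.FFExt
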