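import Groth.Agent.Lib.Helper24.FFExt.UnifSpan
import Groth.Agent.Lib.Helper18.FF.Exists

/-! # `k[x, y] = ⋂_P O_P[y]` over the finite places of `k(x)` (helper24) -/

set_option autoImplicit false

namespace Groth.Agent.Lib.Helper24.FFExt

open FunFld IntermediateField WithZero Polynomial Groth.Agent.Lib.Helper18.FF

universe u v

variable {k : Type u} {K : Type v} [Field k] [Field K] [Algebra k K]

theorem val_aeval_le_one_of_le_one (P : Place k K) {t : K} (ht : P.1 t ≤ 1) (f : k[X]) :
    P.1 (aeval t f) ≤ 1 := by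
  rw [aeval_eq_sum_range]
  refine P.1.map_sum_le fun i _ => ?_
  rw [Algebra.smul_def, map_mul, map_pow]
  exact (mul_le_mul' (P.2.1 _) (pow_le_one' ht i)).trans_eq (one_mul 1)

theorem val_le_one_of_sub_const_lt_one (P : Place k K) {t : K} {c : k}
    (htc : P.1 (t - algebraMap k K c) < 1) : P.1 t ≤ 1 := by
  have : t = (t - algebraMap k K c) + algebraMap k K c := by ring
  rw [this]
  exact (P.1.map_add _ _).trans (max_le htc.le (P.2.1 c))

theorem aeval_eq_eval_add (t : K) (c : k) (f : k[X]) :
    aeval t f = algebraMap k K (f.eval c) + (t - algebraMap k K c) * aeval t (f /ₘ (X - C c)) := by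
  conv_lhs => rw [← modByMonic_add_div f (X - C c), modByMonic_X_sub_C_eq_C_eval]
  simp

theorem val_aeval_lt_one_iff (P : Place k K) {t : K} {c : k}
    (htc : P.1 (t - algebraMap k K c) < 1) (f : k[X]) :
    P.1 (aeval t f) < 1 ↔ f.eval c = 0 := by
  have ht := val_le_one_of_sub_const_lt_one P htc
  have hrest : P.1 ((t - algebraMap k K c) * aeval t (f /ₘ (X - C c))) < 1 := by
    rw [map_mul]
    calc P.1 (t - algebraMap k K c) * P.1 (aeval t (f /ₘ (X - C c)))
        ≤ P.1 (t - algebraMap k K c) * 1 := mul_le_mul' le_rfl (val_aeval_le_one_of_le_one P ht _)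
      _ < 1 := by rwa [mul_one]
  rw [aeval_eq_eval_add t c f]
  constructor
  · intro h
    by_contra hne
    have h1 : P.1 (algebraMap k K (f.eval c)) = 1 := val_algebraMap P hne
    rw [Valuation.map_add_eq_of_lt_left P.1 (by rw [h1]; exact hrest), h1] at h
    exact lt_irrefl _ h
  · intro h
    rw [h, map_zero, zero_add]
    exact hrest

theorem val_aeval_eq_one_iff (P : Place k K) {t : K} {c : k}
    (htc : P.1 (t - algebraMap k K c) < 1) (f : k[X]) :
    P.1 (aeval t f) = 1 ↔ f.eval c ≠ 0 := by
  rw [← not_iff_not, not_not, ← val_aeval_lt_one_iff P htc f]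
  have := val_aeval_le_one_of_le_one P (val_le_one_of_sub_const_lt_one P htc) f
  constructor
  · intro h; exact lt_of_le_of_ne this h
  · intro h; exact h.ne

/-- An element `r(t)/s(t)` integral at a place where `t - c` vanishes can be written with a
denominator which is a unit at the place. -/
theorem exists_repr_of_val_le_one (P : Place k K) {t : K} {c : k}
    (htc : P.1 (t - algebraMap k K c) < 1) :
    ∀ (n : ℕ) (r s : k[X]), s.natDegree = n → aeval t s ≠ 0 → P.1 (aeval t r / aeval t s) ≤ 1 →
      ∃ f g : k[X], P.1 (aeval t g) = 1 ∧ aeval t r / aeval t s * aeval t g = aeval t f := by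
  intro n
  induction n using Nat.strong_induction_on with
  | _ n ih =>
    intro r s hn hs hb
    by_cases hsc : s.eval c = 0
    · have hs0 : s ≠ 0 := by rintro rfl; simp at hs
      have hsdiv : (X - C c) * (s /ₘ (X - C c)) = s := mul_divByMonic_eq_iff_isRoot.mpr hsc
      have hslt : P.1 (aeval t s) < 1 := (val_aeval_lt_one_iff P htc s).mpr hsc
      have hr : P.1 (aeval t r) < 1 := by
        have : aeval t r = aeval t r / aeval t s * aeval t s := by field_simp
        rw [this, map_mul]
        calc P.1 (aeval t r / aeval t s) * P.1 (aeval t s) ≤ 1 * P.1 (aeval t s) :=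
              mul_le_mul' hb le_rfl
          _ < 1 := by rwa [one_mul]
      have hrc : r.eval c = 0 := (val_aeval_lt_one_iff P htc r).mp hr
      have hrdiv : (X - C c) * (r /ₘ (X - C c)) = r := mul_divByMonic_eq_iff_isRoot.mpr hrc
      set s' := s /ₘ (X - C c) with hs'
      set r' := r /ₘ (X - C c) with hr'
      have hs'0 : s' ≠ 0 := by
        rintro h0; rw [h0, mul_zero] at hsdiv; exact hs0 hsdiv.symm
      have e1 : aeval t s = (t - algebraMap k K c) * aeval t s' := by
        conv_lhs => rw [← hsdiv]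
        simp
      have e2 : aeval t r = (t - algebraMap k K c) * aeval t r' := by
        conv_lhs => rw [← hrdiv]
        simp
      have htc0 : t - algebraMap k K c ≠ 0 := by
        intro h0; rw [e1, h0, zero_mul] at hs; exact hs rfl
      have hs'ne : aeval t s' ≠ 0 := by
        intro h0; rw [e1, h0, mul_zero] at hs; exact hs rfl
      have e3 : aeval t r / aeval t s = aeval t r' / aeval t s' := by
        rw [e1, e2, mul_div_mul_left _ _ htc0]
      have hdeg : s'.natDegree < n := by
        rw [← hn, ← hsdiv, natDegree_mul (X_sub_C_ne_zero c) hs'0, natDegree_X_sub_C]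
        omega
      rw [e3] at hb ⊢
      exact ih _ hdeg r' s' rfl hs'ne hb
    · refine ⟨r, s, (val_aeval_eq_one_iff P htc s).mpr hsc, ?_⟩
      field_simp

/-- **S11067.** `k[x, y]` is the intersection of the rings `O_P[y]` over the finite places of `k(x)`. -/
theorem adjoin_pair_eq_iInter [IsAlgClosed k] (hK : IsFunctionField k K) (x y : K)
    (hx : Transcendental k x) :
    (Algebra.adjoin k ({x, y} : Set K) : Set K) =
      ⋂ (P : Place k k⟮x⟯) (_ : P.1 ⟨x, mem_adjoin_simple_self k x⟩ ≤ 1),
        (Subring.closure ((algebraMap k⟮x⟯ K '' (P.O : Set _)) ∪ {y}) : Set K) := by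
  classical
  set x₀ : k⟮x⟯ := ⟨x, mem_adjoin_simple_self k x⟩ with hx₀
  have hK₀ : IsFunctionField k k⟮x⟯ :=
    isFunctionField_intermediateField hK _ ⟨x, mem_adjoin_simple_self k x, hx⟩
  have hx₀t : Transcendental k x₀ :=
    (transcendental_algebraMap_iff (algebraMap k⟮x⟯ K).injective).mp hx
  set B := Algebra.adjoin k ({x, y} : Set K) with hB
  have hxB : x ∈ B := Algebra.subset_adjoin (by simp)
  have hyB : y ∈ B := Algebra.subset_adjoin (by simp)
  have haevalB : ∀ f : k[X], aeval x f ∈ B := fun f =>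
    Algebra.adjoin_mono (by simp) (aeval_mem_adjoin_singleton k x (p := f))
  have hcoe : ∀ f : k[X], algebraMap k⟮x⟯ K (aeval x₀ f) = aeval x f := fun f =>
    (aeval_algebraMap_apply K x₀ f).symm
  have hloc : ∀ P : Place k k⟮x⟯, P.1 x₀ ≤ 1 →
      ∀ z ∈ Subring.closure ((algebraMap k⟮x⟯ K '' (P.O : Set _)) ∪ {y}),
      ∃ s : k[X], P.1 (aeval x₀ s) = 1 ∧ aeval x s * z ∈ B := by
    intro P hP z hz
    obtain ⟨c, hc⟩ := exists_const_sub_lt_one hK₀ (deg_eq_one_of_isAlgClosed hK₀ P) hP
    induction hz using Subring.closure_induction with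
    | mem z hz =>
      rcases hz with ⟨b, hb, rfl⟩ | rfl
      · have hbv : P.1 b ≤ 1 := hb
        obtain ⟨r, s, hrs⟩ := (mem_adjoin_simple_iff k b.1).mp b.2
        have hb' : b = aeval x₀ r / aeval x₀ s := by
          apply (algebraMap k⟮x⟯ K).injective
          rw [map_div₀, hcoe, hcoe]; exact hrs
        by_cases hs0 : aeval x₀ s = 0
        · refine ⟨1, by simp, ?_⟩
          rw [hb', hs0, div_zero, map_zero, mul_zero]; exact B.zero_mem
        · rw [hb'] at hbv
          obtain ⟨f, g, hg1, hfg⟩ := exists_repr_of_val_le_one P hc _ r s rfl hs0 hbv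
          refine ⟨g, hg1, ?_⟩
          rw [hb', mul_comm, ← hcoe g, ← map_mul, hfg, hcoe]
          exact haevalB f
      · exact ⟨1, by simp, by simpa using hyB⟩
    | zero => exact ⟨1, by simp, by simp⟩
    | one => exact ⟨1, by simp, by simp⟩
    | add a b _ _ ha hb =>
      obtain ⟨s₁, h1, h1B⟩ := ha
      obtain ⟨s₂, h2, h2B⟩ := hb
      refine ⟨s₁ * s₂, by rw [map_mul, map_mul, h1, h2, one_mul], ?_⟩
      have : aeval x (s₁ * s₂) * (a + b) =
          aeval x s₂ * (aeval x s₁ * a) + aeval x s₁ * (aeval x s₂ * b) := by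
        rw [map_mul]; ring
      rw [this]
      exact B.add_mem (B.mul_mem (haevalB _) h1B) (B.mul_mem (haevalB _) h2B)
    | neg a _ ha =>
      obtain ⟨s, h1, h1B⟩ := ha
      exact ⟨s, h1, by rw [mul_neg]; exact B.neg_mem h1B⟩
    | mul a b _ _ ha hb =>
      obtain ⟨s₁, h1, h1B⟩ := ha
      obtain ⟨s₂, h2, h2B⟩ := hb
      refine ⟨s₁ * s₂, by rw [map_mul, map_mul, h1, h2, one_mul], ?_⟩
      have : aeval x (s₁ * s₂) * (a * b) = (aeval x s₁ * a) * (aeval x s₂ * b) := by
        rw [map_mul]; ring
      rw [this]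
      exact B.mul_mem h1B h2B
  -- places at the points `c`
  have hplace : ∀ c : k, ∃ P : Place k k⟮x⟯, P.1 (x₀ - algebraMap k k⟮x⟯ c) < 1 := by
    intro c
    apply exists_zero hK₀
    rintro ⟨d, hd⟩
    apply hx₀t
    have : x₀ = algebraMap k k⟮x⟯ (d + c) := by rw [map_add, hd]; ring
    rw [this]
    exact isAlgebraic_algebraMap _
  ext z
  simp only [SetLike.mem_coe, Set.mem_iInter]
  constructor
  · intro hz P hP
    induction hz using Algebra.adjoin_induction with
    | mem w hw =>
      rcases hw with rfl | rfl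
      · exact Subring.subset_closure (Or.inl ⟨x₀, hP, rfl⟩)
      · exact Subring.subset_closure (Or.inr rfl)
    | algebraMap c =>
      refine Subring.subset_closure (Or.inl ⟨algebraMap k k⟮x⟯ c, P.2.1 c, ?_⟩)
      exact (IsScalarTower.algebraMap_apply k k⟮x⟯ K c).symm
    | add a b _ _ ha hb => exact add_mem ha hb
    | mul a b _ _ ha hb => exact mul_mem ha hb
  · intro hz
    -- the ideal of denominators
    let I : Ideal k[X] :=
      { carrier := {f | aeval x f * z ∈ B}
        add_mem' := fun {f g} hf hg => by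
          show aeval x (f + g) * z ∈ B
          rw [map_add, add_mul]; exact B.add_mem hf hg
        zero_mem' := by
          show aeval x (0 : k[X]) * z ∈ B
          rw [map_zero, zero_mul]; exact B.zero_mem
        smul_mem' := fun g f hf => by
          show aeval x (g • f) * z ∈ B
          rw [smul_eq_mul, map_mul, mul_assoc]; exact B.mul_mem (haevalB g) hf }
    have hImem : ∀ f : k[X], f ∈ I ↔ aeval x f * z ∈ B := fun f => Iff.rfl
    have hIc : ∀ c : k, ∃ s ∈ I, s.eval c ≠ 0 := by
      intro c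
      obtain ⟨P, hPc⟩ := hplace c
      have hP : P.1 x₀ ≤ 1 := val_le_one_of_sub_const_lt_one P hPc
      obtain ⟨s, hs1, hsB⟩ := hloc P hP z (hz P hP)
      exact ⟨s, hsB, (val_aeval_eq_one_iff P hPc s).mp hs1⟩
    set g := Submodule.IsPrincipal.generator I with hg
    have hgI : g ∈ I := Submodule.IsPrincipal.generator_mem I
    have hg0 : g ≠ 0 := by
      intro h0
      obtain ⟨s, hsI, hsc⟩ := hIc 0
      have : I = ⊥ := (Submodule.IsPrincipal.eq_bot_iff_generator_eq_zero I).mpr h0
      rw [this, Ideal.mem_bot] at hsI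
      rw [hsI, eval_zero] at hsc
      exact hsc rfl
    have hgdeg : g.degree = 0 := by
      by_contra hdeg
      obtain ⟨c, hc⟩ := IsAlgClosed.exists_root g hdeg
      obtain ⟨s, hsI, hsc⟩ := hIc c
      obtain ⟨w, hw⟩ := (Submodule.IsPrincipal.mem_iff_eq_smul_generator I).mp hsI
      apply hsc
      rw [hw, smul_eq_mul, eval_mul, ← hg, hc.eq_zero, mul_zero]
    obtain ⟨a, ha⟩ : ∃ a : k, g = C a := ⟨g.coeff 0, eq_C_of_degree_eq_zero hgdeg⟩
    have ha0 : a ≠ 0 := by
      rintro rfl; rw [map_zero] at ha; exact hg0 ha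
    have h1I : (1 : k[X]) ∈ I := by
      have : (1 : k[X]) = C a⁻¹ * g := by rw [ha, ← C_mul, inv_mul_cancel₀ ha0, C_1]
      rw [this]
      exact I.mul_mem_left _ hgI
    have := (hImem 1).mp h1I
    rwa [map_one, one_mul] at this

end Groth.Agent.Lib.Helper24.FFExt
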