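import Groth.Agent.Lib.Helper24.FFExt.Kaehler
import Mathlib.FieldTheory.PurelyInseparable.PerfectClosure

/-! # The subfield `kK^p` of a geometric function field (helper24) -/

set_option autoImplicit false

namespace Groth.Agent.Lib.Helper24.FFExt

open FunFld IntermediateField Polynomial Groth.Agent.Lib.Helper18.FF

universe u v

variable {k : Type u} {K : Type v} [Field k] [Field K] [Algebra k K]

theorem expChar_intermediateField {F : Type*} [Field F] [Algebra F K] (p : ℕ) [ExpChar K p]
    (L : IntermediateField F K) : ExpChar L p :=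
  (algebraMap L K).expChar (algebraMap L K).injective p

/-- Differentials vanish on `kK^p`. -/
theorem D_eq_zero_of_mem_kKp (p : ℕ) [CharP K p] {z : K}
    (hz : z ∈ IntermediateField.adjoin k (Set.range fun y : K => y ^ p)) :
    KaehlerDifferential.D k K z = 0 := by
  induction hz using IntermediateField.adjoin_induction with
  | mem x hx =>
    obtain ⟨y, rfl⟩ := hx
    rw [Derivation.leibniz_pow, ← Nat.cast_smul_eq_nsmul K, CharP.cast_eq_zero, zero_smul]
  | algebraMap c => exact Derivation.map_algebraMap _ c
  | add x y _ _ hx hy => rw [map_add, hx, hy, add_zero]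
  | inv x _ hx => rw [Derivation.leibniz_inv, hx, smul_zero]
  | mul x y _ _ hx hy => rw [Derivation.leibniz, hx, hy, smul_zero, smul_zero, add_zero]

/-- `K/kK^p` is purely inseparable. -/
theorem isPurelyInseparable_kKp (p : ℕ) [hp : Fact p.Prime] [CharP K p] :
    IsPurelyInseparable (IntermediateField.adjoin k (Set.range fun y : K => y ^ p)) K := by
  haveI : ExpChar K p := ExpChar.prime hp.out
  haveI : ExpChar (IntermediateField.adjoin k (Set.range fun y : K => y ^ p)) p :=
    expChar_intermediateField p _
  rw [isPurelyInseparable_iff_pow_mem _ p]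
  intro y
  exact ⟨1, ⟨y ^ p, IntermediateField.subset_adjoin _ _ ⟨y, rfl⟩⟩, by simp⟩

/-- If `x` is a separating element then `K = kK^p(x)`. -/
theorem adjoin_kKp_eq_top (p : ℕ) [hp : Fact p.Prime] [CharP K p] {x : K}
    [Algebra.IsSeparable k⟮x⟯ K] :
    IntermediateField.adjoin (IntermediateField.adjoin k (Set.range fun y : K => y ^ p)) {x} = ⊤ := by
  haveI : ExpChar K p := ExpChar.prime hp.out
  haveI : ExpChar k⟮x⟯ p := expChar_intermediateField p _
  have h1 := IntermediateField.adjoin_eq_adjoin_pow_expChar_of_isSeparable' k⟮x⟯ K Set.univ p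
  rw [IntermediateField.adjoin_univ, Set.image_univ] at h1
  apply IntermediateField.restrictScalars_injective k
  rw [IntermediateField.adjoin_adjoin_left, IntermediateField.restrictScalars_top, Set.union_comm,
    ← IntermediateField.adjoin_adjoin_left, ← h1, IntermediateField.restrictScalars_top]

/-- `[K : kK^p] = p` for a geometric function field of characteristic `p`. -/
theorem finrank_kKp (hK : IsFunctionField k K) (hg : IsGeometric k K) (p : ℕ) [hp : Fact p.Prime]
    [CharP K p] :
    Module.finrank (IntermediateField.adjoin k (Set.range fun y : K => y ^ p)) K = p := by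
  set L := IntermediateField.adjoin k (Set.range fun y : K => y ^ p) with hL
  haveI : ExpChar K p := ExpChar.prime hp.out
  haveI : ExpChar L p := expChar_intermediateField p _
  haveI : IsPurelyInseparable L K := isPurelyInseparable_kKp p
  obtain ⟨x, hx, hfin, hsep⟩ := exists_separating hK hg
  have hdx : KaehlerDifferential.D k K x ≠ 0 := D_ne_zero_of_separating hx
  have hxL : x ∉ L := fun h => hdx (D_eq_zero_of_mem_kKp p h)
  have htop : L⟮x⟯ = ⊤ := adjoin_kKp_eq_top p
  have hint : IsIntegral L x := IsPurelyInseparable.isIntegral' L x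
  have h1 : Module.finrank L K = (minpoly L x).natDegree := by
    rw [← IntermediateField.adjoin.finrank hint, htop, IntermediateField.finrank_top']
  haveI : FiniteDimensional L K := by
    have : FiniteDimensional L L⟮x⟯ := IntermediateField.adjoin.finiteDimensional hint
    rw [htop] at this
    exact Module.Finite.equiv (IntermediateField.topEquiv (F := L) (E := K)).toLinearEquiv
  have hle : (minpoly L x).natDegree ≤ p := by
    have hroot : Polynomial.aeval x (X ^ p - C (⟨x ^ p, IntermediateField.subset_adjoin _ _ ⟨x, rfl⟩⟩ : L)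
        : L[X]) = 0 := by
      simp
    have hne : (X ^ p - C (⟨x ^ p, IntermediateField.subset_adjoin _ _ ⟨x, rfl⟩⟩ : L) : L[X]) ≠ 0 :=
      Polynomial.X_pow_sub_C_ne_zero hp.out.pos _
    exact (Polynomial.natDegree_le_of_dvd (minpoly.dvd L x hroot) hne).trans
      (Polynomial.natDegree_X_pow_sub_C (n := p)).le
  have hgt : 1 < (minpoly L x).natDegree := by
    by_contra hcon
    have hpos := minpoly.natDegree_pos hint
    have h2 : (minpoly L x).natDegree = 1 := by omega
    obtain ⟨y, hy⟩ := minpoly.natDegree_eq_one_iff.mp h2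
    exact hxL (hy ▸ y.2)
  obtain ⟨n, hn⟩ := IsPurelyInseparable.finrank_eq_pow (F := L) K p
  rw [h1] at hn
  rw [h1]
  rcases n with _ | _ | n
  · rw [hn] at hgt; simp at hgt
  · rw [hn]; simp
  · exfalso
    rw [hn] at hle
    have h2 : p ^ 2 ≤ p ^ (n + 1 + 1) := Nat.pow_le_pow_right hp.out.pos (by omega)
    have h3 : p < p ^ 2 := by
      have := hp.out.two_le
      nlinarith
    omega

/-- In a geometric function field of characteristic `p`, `dt = 0` forces `t ∈ kK^p`. -/
theorem mem_kKp_of_D_eq_zero (hK : IsFunctionField k K) (hg : IsGeometric k K) (p : ℕ)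
    [hp : Fact p.Prime] [CharP K p] {t : K} (h : KaehlerDifferential.D k K t = 0) :
    t ∈ IntermediateField.adjoin k (Set.range fun y : K => y ^ p) := by
  set L := IntermediateField.adjoin k (Set.range fun y : K => y ^ p) with hL
  by_contra htL
  have hfr := finrank_kKp hK hg p
  haveI : IsSimpleOrder (IntermediateField L K) :=
    IntermediateField.isSimpleOrder_of_finrank_prime L K (hfr.symm ▸ hp.out)
  have htop : L⟮t⟯ = ⊤ := by
    rcases eq_bot_or_eq_top L⟮t⟯ with h' | h'
    · exfalso
      have hmem := IntermediateField.mem_adjoin_simple_self L t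
      rw [h', IntermediateField.mem_bot] at hmem
      obtain ⟨y, hy⟩ := hmem
      exact htL (hy ▸ y.2)
    · exact h'
  have key : ∀ z ∈ L⟮t⟯, KaehlerDifferential.D k K z = 0 := by
    intro z hz
    induction hz using IntermediateField.adjoin_induction with
    | mem y hy => rw [Set.mem_singleton_iff.mp hy]; exact h
    | algebraMap c => exact D_eq_zero_of_mem_kKp p c.2
    | add a b _ _ ha hb => rw [map_add, ha, hb, add_zero]
    | inv a _ ha => rw [Derivation.leibniz_inv, ha, smul_zero]
    | mul a b _ _ ha hb => rw [Derivation.leibniz, ha, hb, smul_zero, smul_zero, add_zero]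
  obtain ⟨x, hx, hfin, hsep⟩ := exists_separating hK hg
  exact D_ne_zero_of_separating hx (key x (htop ▸ IntermediateField.mem_top))

/-- If `K/k(x)` is separable algebraic in a function field then `x` is transcendental. -/
theorem transcendental_of_isSeparable_adjoin (hK : IsFunctionField k K) {x : K}
    [Algebra.IsSeparable k⟮x⟯ K] : Transcendental k x := by
  intro halg
  obtain ⟨t, ht, -⟩ := hK.1
  haveI : Algebra.IsAlgebraic k k⟮x⟯ := IntermediateField.isAlgebraic_adjoin_simple halg.isIntegral
  haveI : Algebra.IsAlgebraic k⟮x⟯ K := Algebra.IsSeparable.isAlgebraic _ _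
  haveI : Algebra.IsAlgebraic k K := Algebra.IsAlgebraic.trans k k⟮x⟯ K
  exact ht (Algebra.IsAlgebraic.isAlgebraic t)

/-- `x ∈ kK^p ↔ dx = 0 ↔ x` is not separating. -/
theorem mem_kKp_iff (hK : IsFunctionField k K) (hg : IsGeometric k K) (p : ℕ)
    [hp : Fact p.Prime] [CharP K p] (x : K) :
    (x ∈ IntermediateField.adjoin k (Set.range fun y : K => y ^ p) ↔
      KaehlerDifferential.D k K x = 0) ∧
    (x ∈ IntermediateField.adjoin k (Set.range fun y : K => y ^ p) ↔
      ¬ Algebra.IsSeparable (IntermediateField.adjoin k ({x} : Set K)) K) := by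
  refine ⟨⟨D_eq_zero_of_mem_kKp p, mem_kKp_of_D_eq_zero hK hg p⟩, ?_, ?_⟩
  · intro hx hsep
    have hD := D_eq_zero_of_mem_kKp (k := k) p hx
    have htr : Transcendental k x := transcendental_of_isSeparable_adjoin hK
    exact D_ne_zero_of_separating htr hD
  · intro hns
    by_contra hx
    have hD : KaehlerDifferential.D k K x ≠ 0 := fun h => hx (mem_kKp_of_D_eq_zero hK hg p h)
    exact hns (isSeparable_of_D_ne_zero' hK hg hD).2.2

/-- The map `Ω_{K₀/k₀} → Ω_{K/k}` vanishes if `K₀ ⊆ kK^p` and is injective otherwise. -/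
theorem kaehler_map_zero_or_injective {k₀ : Type u} {K₀ : Type v} [Field k₀] [Field K₀]
    [Algebra k₀ k] [Algebra k₀ K₀] [Algebra k₀ K] [Algebra K₀ K]
    [IsScalarTower k₀ k K] [IsScalarTower k₀ K₀ K]
    (p : ℕ) [hp : Fact p.Prime] [CharP K p]
    (hK : IsFunctionField k K) (hg : IsGeometric k K)
    (hK₀ : IsFunctionField k₀ K₀) (hg₀ : IsGeometric k₀ K₀) :
    (Set.range (algebraMap K₀ K) ⊆ ↑(IntermediateField.adjoin k (Set.range fun y : K => y ^ p)) →
      KaehlerDifferential.map k₀ k K₀ K = 0) ∧
    (¬ Set.range (algebraMap K₀ K) ⊆ ↑(IntermediateField.adjoin k (Set.range fun y : K => y ^ p)) →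
      Function.Injective (KaehlerDifferential.map k₀ k K₀ K)) := by
  constructor
  · intro hsub
    apply Derivation.liftKaehlerDifferential_unique
    ext y
    show KaehlerDifferential.map k₀ k K₀ K (KaehlerDifferential.D k₀ K₀ y) =
      (0 : KaehlerDifferential k₀ K₀ →ₗ[K₀] KaehlerDifferential k K) (KaehlerDifferential.D k₀ K₀ y)
    rw [KaehlerDifferential.map_D, LinearMap.zero_apply]
    exact D_eq_zero_of_mem_kKp p (hsub ⟨y, rfl⟩)
  · intro hns
    rw [Set.not_subset] at hns
    obtain ⟨_, ⟨y₀, rfl⟩, hy₀⟩ := hns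
    have hD : KaehlerDifferential.D k K (algebraMap K₀ K y₀) ≠ 0 :=
      fun h => hy₀ (mem_kKp_of_D_eq_zero hK hg p h)
    have hmap : KaehlerDifferential.map k₀ k K₀ K (KaehlerDifferential.D k₀ K₀ y₀) ≠ 0 := by
      rw [KaehlerDifferential.map_D]; exact hD
    have hD₀ : KaehlerDifferential.D k₀ K₀ y₀ ≠ 0 := by
      intro h; rw [h, map_zero] at hmap; exact hmap rfl
    have hall := (finrank_eq_one_iff_of_nonzero' _ hD₀).mp (finrank_kaehler hK₀ hg₀)
    rw [injective_iff_map_eq_zero]
    intro ω hω
    obtain ⟨c, rfl⟩ := hall ω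
    rw [map_smul] at hω
    rcases eq_or_ne c 0 with rfl | hc
    · rw [zero_smul]
    · exfalso
      apply hmap
      have := congrArg (fun z => c⁻¹ • z) hω
      simpa [smul_smul, inv_mul_cancel₀ hc] using this

/-- `kK^p` is the unique intermediate field over which `K` is purely inseparable of degree `p`. -/
theorem purelyInseparable_degree_char_iff (hK : IsFunctionField k K) (hg : IsGeometric k K)
    (p : ℕ) [hp : Fact p.Prime] [CharP K p] (K₀ : IntermediateField k K) :
    (IsPurelyInseparable K₀ K ∧ Module.finrank K₀ K = p) ↔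
      K₀ = IntermediateField.adjoin k (Set.range fun y : K => y ^ p) := by
  haveI : ExpChar K p := ExpChar.prime hp.out
  constructor
  · rintro ⟨hpi, hfr⟩
    haveI : ExpChar K₀ p := expChar_intermediateField p _
    haveI : FiniteDimensional K₀ K := Module.finite_of_finrank_pos (by rw [hfr]; exact hp.out.pos)
    have hle : IntermediateField.adjoin k (Set.range fun y : K => y ^ p) ≤ K₀ := by
      rw [IntermediateField.adjoin_le_iff]
      rintro _ ⟨y, rfl⟩
      obtain ⟨n, a, hmin⟩ := IsPurelyInseparable.minpoly_eq_X_pow_sub_C K₀ p y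
      have hdeg : (minpoly K₀ y).natDegree ≤ p := hfr ▸ minpoly.natDegree_le y
      rw [hmin, Polynomial.natDegree_X_pow_sub_C] at hdeg
      have hroot : Polynomial.aeval y (minpoly K₀ y) = 0 := minpoly.aeval K₀ y
      rw [hmin] at hroot
      simp only [map_sub, map_pow, aeval_X, aeval_C] at hroot
      have hyn : y ^ p ^ n ∈ K₀ := by
        rw [sub_eq_zero.mp hroot]; exact a.2
      rcases n with _ | _ | n
      · simp only [pow_zero, pow_one] at hyn
        exact pow_mem hyn p
      · simpa using hyn
      · exfalso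
        have h2 : p ^ 2 ≤ p ^ (n + 1 + 1) := Nat.pow_le_pow_right hp.out.pos (by omega)
        have h3 : p < p ^ 2 := by
          have := hp.out.two_le
          nlinarith
        omega
    symm
    haveI : FiniteDimensional (IntermediateField.adjoin k (Set.range fun y : K => y ^ p)) K :=
      Module.finite_of_finrank_pos (by rw [finrank_kKp hK hg p]; exact hp.out.pos)
    apply IntermediateField.eq_of_le_of_finrank_eq' hle
    rw [finrank_kKp hK hg p, hfr]
  · rintro rfl
    exact ⟨isPurelyInseparable_kKp p, finrank_kKp hK hg p⟩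

end Groth.Agent.Lib.Helper24.FFExt
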