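import Groth.Agent.Lib.Helper24.FFExt.Basic
import Mathlib.LinearAlgebra.Dimension.Constructions
import Mathlib.LinearAlgebra.FiniteDimensional.Lemmas

/-! # Totally ramified places: powers of a uniformizer form an integral basis (helper24) -/

set_option autoImplicit false

namespace Groth.Agent.Lib.Helper24.FFExt

open FunFld WithZero Groth.Agent.Lib.Helper18.FF

/-- A sum whose nonzero terms have pairwise distinct values has the value of its largest term. -/
theorem val_sum_eq_of_distinct {R Γ ι : Type*} [Ring R] [LinearOrderedCommGroupWithZero Γ]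
    (v : Valuation R Γ) (s : Finset ι) (hs : s.Nonempty) (f : ι → R)
    (hd : ∀ i ∈ s, ∀ j ∈ s, i ≠ j → v (f i) = v (f j) → f i = 0) :
    ∃ i ∈ s, v (∑ l ∈ s, f l) = v (f i) ∧ ∀ j ∈ s, v (f j) ≤ v (f i) := by
  classical
  induction hs using Finset.Nonempty.cons_induction with
  | singleton a =>
    exact ⟨a, Finset.mem_singleton_self a, by rw [Finset.sum_singleton],
      fun j hj => by rw [Finset.mem_singleton.mp hj]⟩
  | cons a s ha hs ih =>
    have hd' : ∀ i ∈ s, ∀ j ∈ s, i ≠ j → v (f i) = v (f j) → f i = 0 :=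
      fun i hi j hj => hd i (Finset.mem_cons_of_mem hi) j (Finset.mem_cons_of_mem hj)
    obtain ⟨i, his, hi1, hi2⟩ := ih hd'
    have hai : a ≠ i := fun h => ha (h ▸ his)
    rw [Finset.sum_cons]
    rcases lt_trichotomy (v (f a)) (v (f i)) with hlt | heq | hgt
    · refine ⟨i, Finset.mem_cons_of_mem his, ?_, ?_⟩
      · rw [Valuation.map_add_eq_of_lt_right v (by rw [hi1]; exact hlt), hi1]
      · intro j hj
        rcases Finset.mem_cons.mp hj with rfl | hj
        · exact hlt.le
        · exact hi2 j hj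
    · have h1 : f a = 0 := hd a (Finset.mem_cons_self a s) i (Finset.mem_cons_of_mem his) hai heq
      have h2 : f i = 0 := hd i (Finset.mem_cons_of_mem his) a (Finset.mem_cons_self a s)
        (Ne.symm hai) heq.symm
      refine ⟨i, Finset.mem_cons_of_mem his, ?_, ?_⟩
      · rw [h1, zero_add, hi1]
      · intro j hj
        rcases Finset.mem_cons.mp hj with rfl | hj
        · exact heq.le
        · exact hi2 j hj
    · refine ⟨a, Finset.mem_cons_self a s, ?_, ?_⟩
      · rw [Valuation.map_add_eq_of_lt_left v (by rw [hi1]; exact hgt)]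
      · intro j hj
        rcases Finset.mem_cons.mp hj with rfl | hj
        · exact le_rfl
        · exact (hi2 j hj).trans hgt.le

variable {k K K' : Type*} [Field k] [Field K] [Field K'] [Algebra k K] [Algebra K K'] [Algebra k K']

/-- Values of `a t^i`, `a ∈ K`, `i < e`, are pairwise distinct. -/
theorem totRam_distinct {Q : Place k K'} {P : Place k K} {e : ℕ} (he : IsOverWith Q P e) {t : K'}
    (ht : Q.1 t = exp (-1 : ℤ)) (a : ℕ → K) {i j : ℕ} (hi : i < e) (hj : j < e) (hij : i ≠ j)
    (h : Q.1 (algebraMap K K' (a i) * t ^ i) = Q.1 (algebraMap K K' (a j) * t ^ j)) :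
    algebraMap K K' (a i) * t ^ i = 0 := by
  by_contra hne
  have hai : a i ≠ 0 := by
    rintro h0
    rw [h0, map_zero, zero_mul] at hne
    exact hne rfl
  have haj : a j ≠ 0 := by
    rintro h0
    rw [h0, map_zero, zero_mul, map_zero] at h
    exact hne ((Valuation.zero_iff _).mp h)
  rw [map_mul, map_mul, map_pow, map_pow, ht, he, he, val_eq_exp_neg_ord P hai,
    val_eq_exp_neg_ord P haj, ← exp_nsmul, ← exp_nsmul, ← exp_nsmul, ← exp_nsmul, ← exp_add,
    ← exp_add, exp_inj] at h
  simp only [nsmul_eq_mul] at h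
  have h1 : (e : ℤ) * (P.ord (a j) - P.ord (a i)) = (i : ℤ) - j := by linarith
  have h2 : (e : ℤ) ∣ (i : ℤ) - j := ⟨_, h1.symm⟩
  have h3 : ((i : ℤ) - j).natAbs < e := by omega
  have h4 : (i : ℤ) - j = 0 := Int.eq_zero_of_abs_lt_dvd h2 (by
    rw [← Int.natCast_natAbs]
    exact_mod_cast h3)
  omega

/-- In a totally ramified extension (`e = [K' : K]`) every element is a `K`-combination of powers of a
uniformizer, with integral coefficients when the element is integral. -/
theorem totRam_exists_repr [FiniteDimensional K K'] {Q : Place k K'} {P : Place k K}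
    (he : IsOverWith Q P (Module.finrank K K')) {t : K'} (ht : Q.1 t = exp (-1 : ℤ)) (x : K') :
    ∃ a : ℕ → K, x = ∑ i ∈ Finset.range (Module.finrank K K'), algebraMap K K' (a i) * t ^ i ∧
      (Q.1 x ≤ 1 → ∀ i, i < Module.finrank K K' → P.1 (a i) ≤ 1) := by
  classical
  set n := Module.finrank K K' with hn
  have hnpos : 0 < n := Module.finrank_pos
  -- linear independence of the powers of `t`
  have hli : LinearIndependent K (fun i : Fin n => t ^ (i : ℕ)) := by
    rw [Fintype.linearIndependent_iff]
    intro g hg i₀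
    by_contra hne
    set a : ℕ → K := fun i => if h : i < n then g ⟨i, h⟩ else 0 with ha
    have hsum : ∑ i ∈ Finset.range n, algebraMap K K' (a i) * t ^ i = 0 := by
      rw [← hg, Finset.sum_range]
      refine Finset.sum_congr rfl fun i _ => ?_
      rw [ha]
      simp only [Fin.is_lt, dite_true, Fin.eta, Algebra.smul_def]
    obtain ⟨i, hi, hi1, hi2⟩ := val_sum_eq_of_distinct Q.1 (Finset.range n)
      (Finset.nonempty_range_iff.mpr hnpos.ne') (fun i => algebraMap K K' (a i) * t ^ i)
      (fun i hi j hj hij h => totRam_distinct he ht a (Finset.mem_range.mp hi)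
        (Finset.mem_range.mp hj) hij h)
    rw [hsum, map_zero] at hi1
    have h0 := hi2 i₀ (Finset.mem_range.mpr i₀.2)
    rw [← hi1] at h0
    have h1 : algebraMap K K' (a i₀) * t ^ (i₀ : ℕ) = 0 :=
      (Valuation.zero_iff _).mp (le_antisymm h0 zero_le)
    have ht0 : t ≠ 0 := by rintro rfl; rw [map_zero] at ht; exact exp_ne_zero ht.symm
    rcases mul_eq_zero.mp h1 with h2 | h2
    · apply hne
      have : a i₀ = g i₀ := by rw [ha]; simp
      rw [← this]
      exact (map_eq_zero _).mp h2
    · exact pow_ne_zero _ ht0 h2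
  have hcard : Fintype.card (Fin n) = Module.finrank K K' := by rw [Fintype.card_fin]
  haveI : Nonempty (Fin n) := ⟨⟨0, hnpos⟩⟩
  set b := basisOfLinearIndependentOfCardEqFinrank hli hcard with hb
  have hbi : ∀ i : Fin n, b i = t ^ (i : ℕ) := fun i => by
    rw [hb, coe_basisOfLinearIndependentOfCardEqFinrank]
  set a : ℕ → K := fun i => if h : i < n then b.repr x ⟨i, h⟩ else 0 with ha
  have hx : x = ∑ i ∈ Finset.range n, algebraMap K K' (a i) * t ^ i := by
    conv_lhs => rw [← b.sum_repr x]
    rw [Finset.sum_range]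
    refine Finset.sum_congr rfl fun i _ => ?_
    rw [ha, hbi]
    simp only [Fin.is_lt, dite_true, Fin.eta, Algebra.smul_def]
  refine ⟨a, hx, fun hle i hi => ?_⟩
  obtain ⟨i₁, hi₁, h1, h2⟩ := val_sum_eq_of_distinct Q.1 (Finset.range n)
    (Finset.nonempty_range_iff.mpr hnpos.ne') (fun i => algebraMap K K' (a i) * t ^ i)
    (fun i hi j hj hij h => totRam_distinct he ht a (Finset.mem_range.mp hi)
      (Finset.mem_range.mp hj) hij h)
  rw [← hx] at h1
  have h3 : Q.1 (algebraMap K K' (a i) * t ^ i) ≤ 1 :=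
    (h2 i (Finset.mem_range.mpr hi)).trans (h1 ▸ hle)
  by_contra hgt
  push Not at hgt
  have hai : a i ≠ 0 := by
    rintro h0
    rw [h0, map_zero] at hgt
    exact absurd hgt (by simp)
  have hord : P.ord (a i) < 0 := (one_lt_val_iff_ord_neg P hai).mp hgt
  rw [map_mul, map_pow, ht, he, val_eq_exp_neg_ord P hai, ← exp_nsmul, ← exp_nsmul, ← exp_add,
    ← exp_zero, exp_le_exp] at h3
  simp only [nsmul_eq_mul] at h3
  have : (n : ℤ) * 1 ≤ (n : ℤ) * (-P.ord (a i)) := by
    apply mul_le_mul_of_nonneg_left _ (by positivity)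
    omega
  have hi' : (i : ℤ) < n := by exact_mod_cast hi
  nlinarith

end Groth.Agent.Lib.Helper24.FFExt
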