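import Groth.Agent.Lib.Helper24.FFExt.Weak3
import Groth.Agent.Lib.Helper24.FFExt.TotRam
import Mathlib.Algebra.Ring.GeomSum

/-! # Higher ramification groups of a place in a Galois extension of function fields (helper24) -/

set_option autoImplicit false

namespace Groth.Agent.Lib.Helper24.FFExt

open FunFld WithZero IntermediateField Groth.Agent.Lib.Helper18.FF

open scoped Pointwise

variable {k K K' : Type*} [Field k] [Field K] [Field K'] [Algebra k K] [Algebra K K'] [Algebra k K']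
  [IsScalarTower k K K']

theorem exp_neg_one_lt_one : (exp (-1 : ℤ) : ℤᵐ⁰) < 1 := by
  rw [← exp_zero, exp_lt_exp]; norm_num

/-- An automorphism moving integral elements by elements of the maximal ideal fixes the place. -/
theorem placeComap_eq_of_sub_le {Q : Place k K'} {σ : K' ≃ₐ[K] K'}
    (hσ : ∀ x : K', Q.1 x ≤ 1 → Q.1 (σ x - x) ≤ exp (-(1 : ℤ))) : placeComap σ Q = Q := by
  have h1 : ∀ x : K', Q.1 x ≤ 1 → Q.1 (σ x) ≤ 1 := by
    intro x hx
    have : σ x = (σ x - x) + x := by ring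
    rw [this]
    exact (Q.1.map_add _ _).trans (max_le ((hσ x hx).trans exp_neg_one_lt_one.le) hx)
  have h2 : ∀ x : K', Q.1 x < 1 → Q.1 (σ x) < 1 := by
    intro x hx
    have : σ x = (σ x - x) + x := by ring
    rw [this]
    exact lt_of_le_of_lt (Q.1.map_add _ _)
      (max_lt (lt_of_le_of_lt (hσ x hx.le) exp_neg_one_lt_one) hx)
  apply place_eq_of_le_one_iff
  intro x
  rw [placeComap_val]
  refine ⟨fun hx => ?_, h1 x⟩
  by_contra hlt
  push Not at hlt
  have hx0 : x ≠ 0 := by rintro rfl; simp at hlt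
  have hQ0 : Q.1 x ≠ 0 := (Valuation.ne_zero_iff _).mpr hx0
  have h3 : Q.1 x⁻¹ < 1 := by
    rw [map_inv₀]; exact (inv_lt_one₀ (zero_lt_iff.mpr hQ0)).mpr hlt
  have h4 := h2 _ h3
  rw [map_inv₀, map_inv₀] at h4
  have hσ0 : Q.1 (σ x) ≠ 0 := (Valuation.ne_zero_iff _).mpr ((map_ne_zero _).mpr hx0)
  have := (inv_lt_one₀ (zero_lt_iff.mpr hσ0)).mp h4
  exact absurd hx (not_le.mpr this)

/-- Such an automorphism lies in the (image of the) inertia group. -/
theorem mem_inertia_of_sub_le {Q : Place k K'} {σ : K' ≃ₐ[K] K'}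
    (hσ : ∀ x : K', Q.1 x ≤ 1 → Q.1 (σ x - x) ≤ exp (-(1 : ℤ))) :
    σ ∈ ((Q.O).inertiaSubgroup K).map ((Q.O).decompositionSubgroup K).subtype := by
  have hpc := placeComap_eq_of_sub_le hσ
  refine ⟨⟨σ, (mem_decomposition_iff Q σ).mpr hpc⟩, ?_, rfl⟩
  show MulSemiringAction.toRingAut _ _ _ = 1
  ext y
  obtain ⟨x, rfl⟩ := IsLocalRing.residue_surjective y
  show (⟨σ, (mem_decomposition_iff Q σ).mpr hpc⟩ : (Q.O).decompositionSubgroup K) •
    IsLocalRing.residue Q.O x = IsLocalRing.residue Q.O x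
  rw [← IsLocalRing.ResidueField.residue_smul, ← sub_eq_zero, ← map_sub,
    IsLocalRing.residue_eq_zero_iff]
  refine (Valuation.mem_maximalIdeal_iff (v := Q.1)).mpr ?_
  exact lt_of_le_of_lt (hσ x.1 x.2) exp_neg_one_lt_one

/-- **Ramification groups are detected on a uniformizer.** -/
theorem sub_le_of_uniformizer [FiniteDimensional K K'] [IsGalois K K'] (hK : IsFunctionField k K)
    (Q : Place k K') [Algebra.IsSeparable k (IsLocalRing.ResidueField Q.O)] (σ : K' ≃ₐ[K] K')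
    (hσ : ∀ x : K', Q.1 x ≤ 1 → Q.1 (σ x - x) ≤ exp (-(1 : ℤ))) {t : K'}
    (ht : Q.1 t = exp (-1 : ℤ)) {γ : ℤᵐ⁰} (htj : Q.1 (σ t - t) ≤ γ) :
    ∀ x : K', Q.1 x ≤ 1 → Q.1 (σ x - x) ≤ γ := by
  classical
  set I' := ((Q.O).inertiaSubgroup K).map ((Q.O).decompositionSubgroup K).subtype with hI'
  set K₁ := IntermediateField.fixedField I' with hK₁
  have hσI : σ ∈ I' := mem_inertia_of_sub_le hσ
  have hfix : ∀ a : K₁, σ (algebraMap K₁ K' a) = algebraMap K₁ K' a := by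
    intro a
    exact a.2 ⟨σ, hσI⟩
  obtain ⟨Q₁, he₁⟩ := exists_isOverWith_inertiaField hK Q
  have hpc := placeComap_eq_of_sub_le hσ
  have htle : Q.1 t ≤ 1 := by rw [ht]; exact exp_neg_one_lt_one.le
  have hσt : Q.1 (σ t) ≤ 1 := by
    have : Q.1 (σ t) = (placeComap σ Q).1 t := rfl
    rw [this, hpc]; exact htle
  intro x hx
  obtain ⟨a, hxa, ha⟩ := totRam_exists_repr he₁ ht x
  have ha' := ha hx
  have hdiff : σ x - x = ∑ i ∈ Finset.range (Module.finrank K₁ K'),
      algebraMap K₁ K' (a i) * ((σ t) ^ i - t ^ i) := by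
    conv_lhs => rw [hxa]
    rw [map_sum, ← Finset.sum_sub_distrib]
    refine Finset.sum_congr rfl fun i _ => ?_
    rw [map_mul, map_pow, hfix]
    ring
  rw [hdiff]
  refine Valuation.map_sum_le _ fun i hi => ?_
  rw [map_mul]
  have h1 : Q.1 (algebraMap K₁ K' (a i)) ≤ 1 :=
    (isOverWith_le_one_iff he₁ (a i)).mpr (ha' i (Finset.mem_range.mp hi))
  have h2 : Q.1 ((σ t) ^ i - t ^ i) ≤ γ := by
    rw [← geom_sum₂_mul, map_mul]
    have h3 : Q.1 (∑ l ∈ Finset.range i, (σ t) ^ l * t ^ (i - 1 - l)) ≤ 1 := by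
      refine Valuation.map_sum_le _ fun l _ => ?_
      rw [map_mul, map_pow, map_pow]
      exact mul_le_one' (pow_le_one' hσt _) (pow_le_one' htle _)
    calc Q.1 (∑ l ∈ Finset.range i, (σ t) ^ l * t ^ (i - 1 - l)) * Q.1 (σ t - t)
        ≤ 1 * γ := mul_le_mul' h3 htj
      _ = γ := one_mul _
  calc Q.1 (algebraMap K₁ K' (a i)) * Q.1 ((σ t) ^ i - t ^ i) ≤ 1 * γ := mul_le_mul' h1 h2
    _ = γ := one_mul _

end Groth.Agent.Lib.Helper24.FFExt
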