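import Groth.Agent.Lib.Helper24.FFExt.RamGroup

/-! # Ramification groups as subgroups; the quotients `G_i/G_{i+1}` (helper24) -/

set_option autoImplicit false

namespace Groth.Agent.Lib.Helper24.FFExt

open FunFld WithZero IntermediateField Groth.Agent.Lib.Helper18.FF

variable {k K K' : Type*} [Field k] [Field K] [Field K'] [Algebra k K] [Algebra K K'] [Algebra k K']
  [IsScalarTower k K K']

theorem zm0_lt_exp_iff (γ : ℤᵐ⁰) (n : ℤ) : γ < exp n ↔ γ ≤ exp (n - 1) := by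
  induction γ using WithZero.expRecOn with
  | zero => simp
  | exp m => rw [exp_lt_exp, exp_le_exp]; omega

/-- Elements of the inertia group preserve the valuation. -/
theorem val_map_eq_of_sub_le {Q : Place k K'} {σ : K' ≃ₐ[K] K'}
    (hσ : ∀ x : K', Q.1 x ≤ 1 → Q.1 (σ x - x) ≤ exp (-(1 : ℤ))) (x : K') : Q.1 (σ x) = Q.1 x := by
  have := placeComap_eq_of_sub_le hσ
  rw [← placeComap_val, this]

/-- The ramification group `{σ | ∀ x ∈ O_Q, Q (σ x - x) ≤ γ}` for `γ ≤ exp (-1)`. -/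
def ramGroup (Q : Place k K') (γ : ℤᵐ⁰) (hγ : γ ≤ exp (-1 : ℤ)) : Subgroup (K' ≃ₐ[K] K') where
  carrier := {σ | ∀ x : K', Q.1 x ≤ 1 → Q.1 (σ x - x) ≤ γ}
  mul_mem' {σ τ} hσ hτ x hx := by
    have hσ1 : ∀ x : K', Q.1 x ≤ 1 → Q.1 (σ x - x) ≤ exp (-(1 : ℤ)) :=
      fun x hx => (hσ x hx).trans hγ
    have : (σ * τ) x - x = σ (τ x - x) + (σ x - x) := by
      rw [AlgEquiv.mul_apply, map_sub]; ring
    rw [this]
    refine (Q.1.map_add _ _).trans (max_le ?_ (hσ x hx))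
    rw [val_map_eq_of_sub_le hσ1]
    exact hτ x hx
  one_mem' x _ := by simp
  inv_mem' {σ} hσ x hx := by
    have hσ1 : ∀ x : K', Q.1 x ≤ 1 → Q.1 (σ x - x) ≤ exp (-(1 : ℤ)) :=
      fun x hx => (hσ x hx).trans hγ
    have h1 : Q.1 (σ⁻¹ x - x) = Q.1 (σ (σ⁻¹ x - x)) := (val_map_eq_of_sub_le hσ1 _).symm
    have h2 : σ (σ⁻¹ x - x) = -(σ x - x) := by
      rw [map_sub]
      have : σ (σ⁻¹ x) = x := by
        rw [← AlgEquiv.mul_apply, mul_inv_cancel, AlgEquiv.one_apply]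
      rw [this]; ring
    rw [h1, h2, Valuation.map_neg]
    exact hσ x hx

theorem mem_ramGroup {Q : Place k K'} {γ : ℤᵐ⁰} {hγ : γ ≤ exp (-1 : ℤ)} {σ : K' ≃ₐ[K] K'} :
    σ ∈ ramGroup Q γ hγ ↔ ∀ x : K', Q.1 x ≤ 1 → Q.1 (σ x - x) ≤ γ := Iff.rfl

theorem exp_neg_le_exp_neg_one {i : ℕ} (hi : 1 ≤ i) : (exp (-(i : ℤ)) : ℤᵐ⁰) ≤ exp (-1 : ℤ) := by
  rw [exp_le_exp]; omega

/-- For `σ ∈ G_i`, `i ≥ 2`, and `y ∈ 𝔪^i`: `σ y - y ∈ 𝔪^{i+1}`. -/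
theorem val_sub_le_of_val_le {Q : Place k K'} {σ : K' ≃ₐ[K] K'} {i : ℕ} (hi : 2 ≤ i)
    (hσ : ∀ x : K', Q.1 x ≤ 1 → Q.1 (σ x - x) ≤ exp (-(i : ℤ))) {y : K'}
    (hy : Q.1 y ≤ exp (-(i : ℤ))) : Q.1 (σ y - y) ≤ exp (-((i + 1 : ℕ) : ℤ)) := by
  obtain ⟨t, ht⟩ := exists_uniformizer Q
  have ht0 : t ≠ 0 := by
    rintro rfl
    rw [map_zero] at ht
    exact WithZero.exp_ne_zero ht.symm
  have hσ1 : ∀ x : K', Q.1 x ≤ 1 → Q.1 (σ x - x) ≤ exp (-(1 : ℤ)) :=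
    fun x hx => (hσ x hx).trans (exp_neg_le_exp_neg_one (by omega))
  have htle : Q.1 t ≤ 1 := by rw [ht]; exact exp_neg_one_lt_one.le
  set z := y / t with hz
  have hyz : y = z * t := by rw [hz]; field_simp
  have hQz : Q.1 z ≤ exp (-((i : ℤ) - 1)) := by
    rw [hz, map_div₀, ht, div_eq_mul_inv, ← exp_neg, neg_neg]
    calc Q.1 y * exp 1 ≤ exp (-(i : ℤ)) * exp 1 := mul_le_mul_left hy _
      _ = exp (-((i : ℤ) - 1)) := by rw [← exp_add]; congr 1; ring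
  have hQz1 : Q.1 z ≤ 1 := hQz.trans (by rw [← exp_zero, exp_le_exp]; omega)
  have : σ y - y = (σ z - z) * σ t + z * (σ t - t) := by
    rw [hyz, map_mul]; ring
  rw [this]
  refine (Q.1.map_add _ _).trans (max_le ?_ ?_)
  · rw [map_mul, val_map_eq_of_sub_le hσ1, ht]
    calc Q.1 (σ z - z) * exp (-1) ≤ exp (-(i : ℤ)) * exp (-1) := mul_le_mul_left (hσ z hQz1) _
      _ = exp (-((i + 1 : ℕ) : ℤ)) := by rw [← exp_add]; congr 1; push_cast; ring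
  · rw [map_mul]
    calc Q.1 z * Q.1 (σ t - t) ≤ exp (-((i : ℤ) - 1)) * exp (-(i : ℤ)) :=
          mul_le_mul' hQz (hσ t htle)
      _ = exp (-((i : ℤ) - 1) + -(i : ℤ)) := by rw [← exp_add]
      _ ≤ exp (-((i + 1 : ℕ) : ℤ)) := by rw [exp_le_exp]; push_cast; omega

/-- Additivity of `σ ↦ σ x - x` modulo `𝔪^{i+1}` on `G_i`, `i ≥ 2`. -/
theorem val_mul_sub_le {Q : Place k K'} {σ τ : K' ≃ₐ[K] K'} {i : ℕ} (hi : 2 ≤ i)
    (hσ : ∀ x : K', Q.1 x ≤ 1 → Q.1 (σ x - x) ≤ exp (-(i : ℤ)))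
    (hτ : ∀ x : K', Q.1 x ≤ 1 → Q.1 (τ x - x) ≤ exp (-(i : ℤ))) {x : K'} (hx : Q.1 x ≤ 1) :
    Q.1 ((σ * τ) x - x - ((σ x - x) + (τ x - x))) ≤ exp (-((i + 1 : ℕ) : ℤ)) := by
  have : (σ * τ) x - x - ((σ x - x) + (τ x - x)) = σ (τ x - x) - (τ x - x) := by
    rw [AlgEquiv.mul_apply, map_sub]; ring
  rw [this]
  exact val_sub_le_of_val_le hi hσ (hτ x hx)

/-- `σ^n x - x ≡ n (σ x - x)` modulo `𝔪^{i+1}` for `σ ∈ G_i`, `i ≥ 2`. -/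
theorem val_pow_sub_le {Q : Place k K'} {σ : K' ≃ₐ[K] K'} {i : ℕ} (hi : 2 ≤ i)
    (hσ : ∀ x : K', Q.1 x ≤ 1 → Q.1 (σ x - x) ≤ exp (-(i : ℤ))) {x : K'} (hx : Q.1 x ≤ 1) (n : ℕ) :
    Q.1 ((σ ^ n) x - x - (n : K') * (σ x - x)) ≤ exp (-((i + 1 : ℕ) : ℤ)) := by
  have hmem : σ ∈ ramGroup Q (exp (-(i : ℤ))) (exp_neg_le_exp_neg_one (by omega)) := hσ
  induction n with
  | zero => simp
  | succ n ih =>
    have hn : ∀ x : K', Q.1 x ≤ 1 → Q.1 ((σ ^ n) x - x) ≤ exp (-(i : ℤ)) :=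
      mem_ramGroup.mp (Subgroup.pow_mem _ hmem n)
    have h1 := val_mul_sub_le hi hn hσ hx
    have : (σ ^ (n + 1)) x - x - ((n + 1 : ℕ) : K') * (σ x - x) =
        ((σ ^ n * σ) x - x - (((σ ^ n) x - x) + (σ x - x))) +
          ((σ ^ n) x - x - (n : K') * (σ x - x)) := by
      rw [pow_succ]; push_cast; ring
    rw [this]
    exact (Q.1.map_add _ _).trans (max_le h1 ih)

end Groth.Agent.Lib.Helper24.FFExt
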