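import Groth.Agent.Lib.Helper24.FFExt.ExpSep
import Groth.Agent.Lib.Helper24.FFExt.Weak
import Groth.Agent.Lib.Helper18.Tate.WeilDiff2
import Groth.Agent.Lib.Helper18.FF.RiemannRoch

/-! # The Riemann–Hurwitz formula -/

set_option autoImplicit false
set_option linter.style.haveILetI false

namespace Groth.Agent.Lib.Helper24.FFExt

open FunFld LocRes LaurentSeries WithZero IntermediateField Polynomial
  Groth.Agent.Lib.Helper18.FF Groth.Agent.Lib.Helper18.Tate

universe u v w

section prelim

variable {k : Type u} {K : Type v} {F : Type w} [Field k] [Field K] [Field F] [Algebra k K]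
  [Algebra k F]

/-- The coefficient field of an expansion at a place of a function field is finite over `k`. -/
theorem finiteDimensional_of_isExpansionAt (hK : IsFunctionField k K) (P : Place k K)
    (φ : K →ₐ[k] F⸨X⸩) (hφ : IsExpansionAt P.1 φ) : FiniteDimensional k F := by
  letI : Algebra k (IsLocalRing.ResidueField P.O) := IsLocalRing.ResidueField.algebra P.O
  haveI hfin : FiniteDimensional k (IsLocalRing.ResidueField P.O) :=
    finiteDimensional_residueField hK P
  set f := constCoeffHom P φ hφ with hf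
  have hker : ∀ a ∈ IsLocalRing.maximalIdeal P.O, f.toRingHom a = 0 := by
    intro a ha
    exact (constCoeffHom_eq_zero_iff P φ hφ a).mpr
      ((Valuation.mem_maximalIdeal_iff (v := P.1)).mp ha)
  let g₀ : IsLocalRing.ResidueField P.O →+* F :=
    Ideal.Quotient.lift (IsLocalRing.maximalIdeal P.O) f.toRingHom hker
  have hg₀ : ∀ a : P.O, g₀ (IsLocalRing.residue P.O a) = f a := fun a => rfl
  let g : IsLocalRing.ResidueField P.O →ₐ[k] F :=
    { g₀ with
      commutes' := fun c => by
        show g₀ (IsLocalRing.residue P.O (algebraMap k P.O c)) = _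
        rw [hg₀]; exact f.commutes c }
  have hsurj : Function.Surjective g := by
    intro a
    obtain ⟨z, hz1, hza⟩ := hφ.2.1 a
    exact ⟨IsLocalRing.residue P.O ⟨z, hz1⟩, hza⟩
  exact Module.Finite.of_surjective (hM := hfin) g.toLinearMap hsurj

end prelim

section kaehler

variable {k k' : Type u} {K K' : Type v} [Field k] [Field k'] [Field K] [Field K']
  [Algebra k k'] [Algebra k K] [Algebra K K'] [Algebra k' K'] [Algebra k K']
  [IsScalarTower k k' K'] [IsScalarTower k K K']

/-- `dim Ω_{K'/k'} = 1` for a separable extension `K'/K` of a field with `dim Ω_{K/k} = 1`, as soon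
as `Ω_{K'/k'} ≠ 0`. -/
theorem finrank_kaehler_constField [Algebra.IsSeparable K K']
    (hdim : Module.finrank K (Ω[K⁄k]) = 1) {x' : K'}
    (hx' : KaehlerDifferential.D k' K' x' ≠ 0) : Module.finrank K' (Ω[K'⁄k']) = 1 := by
  have h1 : Module.finrank K' (Ω[K'⁄k]) = 1 := finrank_kaehler_of_isSeparable (L := K') hdim
  haveI : Module.Finite K' (Ω[K'⁄k]) := Module.finite_of_finrank_pos (by rw [h1]; norm_num)
  have hsurj : Function.Surjective (KaehlerDifferential.map k k' K' K') :=
    KaehlerDifferential.map_surjective k k' K'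
  have hle : Module.finrank K' (Ω[K'⁄k']) ≤ 1 := by
    rw [← h1]
    exact LinearMap.finrank_le_finrank_of_surjective hsurj
  haveI : Module.Finite K' (Ω[K'⁄k']) := Module.Finite.of_surjective _ hsurj
  have hpos : 0 < Module.finrank K' (Ω[K'⁄k']) :=
    Module.finrank_pos_iff_exists_ne_zero.mpr ⟨_, hx'⟩
  omega

end kaehler

section main

variable {k k' : Type u} {K K' : Type v} [Field k] [Field k'] [Field K] [Field K']
  [Algebra k k'] [Algebra k K] [Algebra K K'] [Algebra k' K'] [Algebra k K']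
  [IsScalarTower k k' K'] [IsScalarTower k K K'] [FiniteDimensional k k'] [FiniteDimensional K K']
  [Algebra.IsSeparable K K']

theorem riemann_hurwitz (hK : IsFunctionField k K) (hg : IsGeometric k K)
    (hK' : IsFunctionField k' K')
    (F : Place k K → Type w) [∀ P, Field (F P)] [∀ P, Algebra k (F P)]
    (φ : ∀ P, K →ₐ[k] LaurentSeries (F P)) (hφ : ∀ P, IsExpansionAt P.1 (φ P))
    (F' : Place k' K' → Type w) [∀ Q, Field (F' Q)] [∀ Q, Algebra k' (F' Q)]
    (ψ : ∀ Q, K' →ₐ[k'] LaurentSeries (F' Q)) (hψ : ∀ Q, IsExpansionAt Q.1 (ψ Q))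
    (below : Place k' K' → Place k K) (e : Place k' K' → ℕ)
    (he : ∀ Q (z : K), Q.1 (algebraMap K K' z) = (below Q).1 z ^ e Q)
    (x : K) (hx : ∀ P, vDiff (φ P) 1 x ≠ 0)
    (hx' : ∀ Q, vDiff (ψ Q) 1 (algebraMap K K' x) ≠ 0) :
    (Function.support fun Q => diffExp (φ (below Q)) (ψ Q) (e Q) x).Finite ∧
    (Module.finrank k k' : ℤ) * (2 * (genus k' K' : ℤ) - 2) =
      (Module.finrank K K' : ℤ) * (2 * (genus k K : ℤ) - 2) +
      (Module.finrank k k' : ℤ) *
        ∑ᶠ Q, diffExp (φ (below Q)) (ψ Q) (e Q) x * (Q.deg : ℤ) := by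
  classical
  haveI : ∀ P, FiniteDimensional k (F P) := fun P =>
    finiteDimensional_of_isExpansionAt hK P (φ P) (hφ P)
  haveI : ∀ Q, FiniteDimensional k' (F' Q) := fun Q =>
    finiteDimensional_of_isExpansionAt hK' Q (ψ Q) (hψ Q)
  have hdim := finrank_kaehler hK hg
  have htr : ∀ P, ∃ b : F P, Algebra.trace k (F P) b ≠ 0 := by
    intro P
    haveI : Algebra.IsSeparable k (F P) := isSeparable_of_isExpansionAt hK hg P (φ P) (hφ P)
    obtain ⟨b, hb⟩ := Algebra.trace_surjective k (F P) 1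
    exact ⟨b, by rw [hb]; exact one_ne_zero⟩
  set x' := algebraMap K K' x with hx'def
  obtain ⟨Q₁⟩ := exists_place hK'
  have hDx' : KaehlerDifferential.D k' K' x' ≠ 0 := by
    intro h0
    have := hx' Q₁
    rw [vDiff_one, D_exp_eq_zero_of_D_eq_zero (ψ Q₁) h0, map_zero] at this
    exact this rfl
  have hdim' := finrank_kaehler_constField hdim hDx'
  have htr' : ∀ Q, ∃ b : F' Q, Algebra.trace k' (F' Q) b ≠ 0 := by
    intro Q
    haveI : Algebra.IsSeparable k' (F' Q) := isSeparable_of_isExpansionAt' hdim' Q (ψ Q) (hψ Q)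
    obtain ⟨b, hb⟩ := Algebra.trace_surjective k' (F' Q) 1
    exact ⟨b, by rw [hb]; exact one_ne_zero⟩
  -- canonical divisors
  have hfin := finite_support_ordDiff' F φ hK hφ 1 x hx htr
  have hfin' := finite_support_ordDiff' F' ψ hK' hψ 1 x' hx' htr'
  obtain ⟨W, hWdef⟩ : ∃ W : Divisor k K, W = Finsupp.ofSupportFinite _ hfin := ⟨_, rfl⟩
  have hWP : ∀ P, W P = ordDiff (φ P) 1 x := fun P => by rw [hWdef]; rfl
  have hW := deg_canonical hK (isCanonical_of_ordDiff F φ hK hφ 1 x hx hfin htr W hWP)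
  obtain ⟨W', hW'def⟩ : ∃ W' : Divisor k' K', W' = Finsupp.ofSupportFinite _ hfin' := ⟨_, rfl⟩
  have hW'P : ∀ Q, W' Q = ordDiff (ψ Q) 1 x' := fun Q => by rw [hW'def]; rfl
  have hW' := deg_canonical hK' (isCanonical_of_ordDiff F' ψ hK' hψ 1 x' hx' hfin' htr' W' hW'P)
  -- places over `k`
  have hover : ∀ Q, IsOverWith (ofAlg k' Q : Place k K') (below Q) (e Q) := fun Q z => he Q z
  have hdegQ : ∀ Q : Place k' K', ((ofAlg k' Q : Place k K').deg : ℤ) =
      (Module.finrank k k' : ℤ) * (Q.deg : ℤ) := by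
    intro Q
    have := deg_eq_mul_deg_toAlg k' (ofAlg k' Q : Place k K')
    rw [toAlg_ofAlg] at this
    exact_mod_cast this
  have hinj : Function.Injective (ofAlg k' : Place k' K' → Place k K') :=
    Function.LeftInverse.injective (toAlg_ofAlg k')
  set δ : Place k' K' → ℤ := fun Q => diffExp (φ (below Q)) (ψ Q) (e Q) x with hδ
  have hδQ : ∀ Q, W' Q = (e Q : ℤ) * W (below Q) + δ Q := by
    intro Q
    rw [hW'P, hWP]
    simp only [hδ, diffExp]
    ring
  have hS' : {Q : Place k' K' | W (below Q) ≠ 0}.Finite := by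
    have hsub : {Q : Place k' K' | W (below Q) ≠ 0} ⊆
        (ofAlg k' : Place k' K' → Place k K') ⁻¹'
          (⋃ P ∈ W.support, {Q₀ : Place k K' | IsOver Q₀ P}) := by
      intro Q hQ
      simp only [Set.mem_preimage, Set.mem_iUnion, Set.mem_setOf_eq]
      exact ⟨below Q, Finsupp.mem_support_iff.mpr hQ, ⟨e Q, hover Q⟩⟩
    refine Set.Finite.subset (Set.Finite.preimage hinj.injOn ?_) hsub
    exact Set.Finite.biUnion W.support.finite_toSet fun P _ => finite_isOver hK P
  have hδsupp : Function.support δ ⊆ (Function.support fun Q => ordDiff (ψ Q) 1 x') ∪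
      {Q : Place k' K' | W (below Q) ≠ 0} := by
    intro Q hQ
    by_contra hcon
    rw [Set.mem_union, not_or] at hcon
    apply hQ
    have h1 : W' Q = 0 := by
      rw [hW'P]
      by_contra h
      exact hcon.1 h
    have h2 : W (below Q) = 0 := by
      by_contra h
      exact hcon.2 h
    have := hδQ Q
    rw [h1, h2, mul_zero, zero_add] at this
    exact this.symm
  have hδfin : (Function.support δ).Finite := (hfin'.union hS').subset hδsupp
  refine ⟨hδfin, ?_⟩
  set T : Finset (Place k' K') := hfin'.toFinset ∪ hS'.toFinset with hT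
  have hW'T : W'.support ⊆ T := by
    intro Q hQ
    rw [hT, Finset.mem_union, Set.Finite.mem_toFinset]
    left
    rw [Function.mem_support, ← hW'P]
    exact Finsupp.mem_support_iff.mp hQ
  have hδT : (Function.support fun Q => δ Q * (Q.deg : ℤ)) ⊆ T := by
    intro Q hQ
    have h1 : δ Q ≠ 0 := fun h0 => hQ (by simp [h0])
    have := hδsupp h1
    rw [hT, Finset.coe_union, Set.Finite.coe_toFinset, Set.Finite.coe_toFinset]
    exact this
  rw [finsum_eq_sum_of_support_subset _ hδT, ← hW', ← hW,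
    deg_eq_sum_of_support_subset W' T hW'T]
  -- the main sum
  set N : ℤ := (Module.finrank k k' : ℤ) with hN
  set n : ℤ := (Module.finrank K K' : ℤ) with hn
  have hmain : ∑ Q ∈ T, W (below Q) * ((e Q : ℤ) * ((ofAlg k' Q : Place k K').deg : ℤ)) =
      n * W.deg := by
    have h1 : ∑ Q ∈ T, W (below Q) * ((e Q : ℤ) * ((ofAlg k' Q : Place k K').deg : ℤ)) =
        ∑ Q ∈ hS'.toFinset, W (below Q) * ((e Q : ℤ) * ((ofAlg k' Q : Place k K').deg : ℤ)) := by
      refine (Finset.sum_subset Finset.subset_union_right ?_).symm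
      intro Q _ hQ
      rw [Set.Finite.mem_toFinset, Set.mem_setOf_eq, not_not] at hQ
      rw [hQ, zero_mul]
    rw [h1, ← Finset.sum_fiberwise_of_maps_to (s := hS'.toFinset) (t := W.support)
      (g := below) (fun Q hQ => by
        rw [Set.Finite.mem_toFinset] at hQ
        exact Finsupp.mem_support_iff.mpr hQ)]
    rw [deg_eq_sum_of_support_subset W W.support subset_rfl, Finset.mul_sum]
    refine Finset.sum_congr rfl fun P hP => ?_
    have hPne : W P ≠ 0 := Finsupp.mem_support_iff.mp hP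
    have hsum := sum_ramIdx_mul_deg (K' := K') hK P (finite_isOver (K' := K') hK P).toFinset
      (fun Q => by rw [Set.Finite.mem_toFinset]; rfl)
    have h2 : ∑ Q ∈ hS'.toFinset with below Q = P,
        W (below Q) * ((e Q : ℤ) * ((ofAlg k' Q : Place k K').deg : ℤ)) =
        W P * ∑ Q₀ ∈ (finite_isOver (K' := K') hK P).toFinset,
          ((ramIdx Q₀ P : ℤ) * (Q₀.deg : ℤ)) := by
      rw [Finset.mul_sum]
      refine Finset.sum_bij (fun Q _ => (ofAlg k' Q : Place k K')) ?_ ?_ ?_ ?_
      · intro Q hQ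
        rw [Finset.mem_filter] at hQ
        rw [Set.Finite.mem_toFinset, Set.mem_setOf_eq, ← hQ.2]
        exact ⟨e Q, hover Q⟩
      · intro Q₁ _ Q₂ _ h
        exact hinj h
      · intro Q₀ hQ₀
        rw [Set.Finite.mem_toFinset, Set.mem_setOf_eq] at hQ₀
        have hb : below (toAlg k' Q₀) = P :=
          isOver_unique (Q := Q₀) ⟨e (toAlg k' Q₀), hover (toAlg k' Q₀)⟩ hQ₀
        refine ⟨toAlg k' Q₀, ?_, ofAlg_toAlg k' Q₀⟩
        rw [Finset.mem_filter, Set.Finite.mem_toFinset, Set.mem_setOf_eq, hb]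
        exact ⟨hPne, rfl⟩
      · intro Q hQ
        rw [Finset.mem_filter] at hQ
        rw [← hQ.2, isOverWith_ramIdx_eq (hover Q)]
    rw [h2]
    have : ∑ Q₀ ∈ (finite_isOver (K' := K') hK P).toFinset,
        ((ramIdx Q₀ P : ℤ) * (Q₀.deg : ℤ)) = n * (P.deg : ℤ) := by
      rw [hn]
      exact_mod_cast hsum
    rw [this]
    ring
  have hsplit : N * ∑ Q ∈ T, W' Q * (Q.deg : ℤ) =
      ∑ Q ∈ T, W (below Q) * ((e Q : ℤ) * ((ofAlg k' Q : Place k K').deg : ℤ)) +
        N * ∑ Q ∈ T, δ Q * (Q.deg : ℤ) := by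
    rw [Finset.mul_sum, Finset.mul_sum, ← Finset.sum_add_distrib]
    refine Finset.sum_congr rfl fun Q _ => ?_
    rw [hδQ Q, hdegQ Q]
    ring
  rw [hsplit, hmain]

end main

end Groth.Agent.Lib.Helper24.FFExt
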