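import Groth.Agent.Lib.Helper24.FFExt.PlaneGen
import Groth.Agent.Lib.Helper24.FFExt.Ramified
import Groth.Agent.Lib.Helper24.FFExt.Geometric
import Groth.Agent.Lib.Helper18.FF.Approx2
import Groth.Agent.Lib.Helper18.FF.Adele3
import Groth.Agent.Lib.Helper18.FF.Weights
import Groth.Agent.Lib.Helper18.FF.RatPlaces2

/-! # A plane model whose span `⟨1, x, y⟩` contains a local parameter at every place (helper24) -/

set_option autoImplicit false

namespace Groth.Agent.Lib.Helper24.FFExt

open FunFld IntermediateField WithZero Groth.Agent.Lib.Helper18.FF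

universe u v

variable {k : Type u} {K : Type v} [Field k] [Field K] [Algebra k K]

/-- A generator can be found in a generating subspace `V` outside a subspace `W'` not containing `V`. -/
theorem exists_generator_mem_not_mem [Infinite k] (V W' : Submodule k K)
    (hV : IntermediateField.adjoin k (V : Set K) = ⊤) (hVW : ¬ V ≤ W') {x : K}
    [FiniteDimensional k⟮x⟯ K] [Algebra.IsSeparable k⟮x⟯ K] :
    ∃ y ∈ V, y ∉ W' ∧ IntermediateField.adjoin k ({x, y} : Set K) = ⊤ := by
  classical
  haveI : Finite (IntermediateField k⟮x⟯ K) :=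
    Field.finite_intermediateField_of_exists_primitive_element k⟮x⟯ K
      (Field.exists_primitive_element k⟮x⟯ K)
  by_contra hcon
  push Not at hcon
  have hne : ∀ y ∈ V, y ∉ W' → IntermediateField.adjoin k⟮x⟯ ({y} : Set K) ≠ ⊤ := by
    intro y hy hyW htop
    apply hcon y hy hyW
    have h1 := IntermediateField.adjoin_adjoin_left k ({x} : Set K) ({y} : Set K)
    rw [htop, IntermediateField.restrictScalars_top] at h1
    rw [h1, Set.singleton_union]
  let ι := Option {M : IntermediateField k⟮x⟯ K // M ≠ ⊤}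
  let p : ι → Subspace k V := fun i =>
    match i with
    | none => Submodule.comap V.subtype W'
    | some M => Submodule.comap V.subtype (M.1.restrictScalars k).toSubalgebra.toSubmodule
  have hcov : ⋃ i, (p i : Set V) = Set.univ := by
    apply Set.eq_univ_of_forall
    intro y
    rw [Set.mem_iUnion]
    by_cases hyW : y.1 ∈ W'
    · exact ⟨none, hyW⟩
    · refine ⟨some ⟨IntermediateField.adjoin k⟮x⟯ ({y.1} : Set K), hne y.1 y.2 hyW⟩, ?_⟩
      show y.1 ∈ IntermediateField.adjoin k⟮x⟯ ({y.1} : Set K)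
      exact IntermediateField.mem_adjoin_simple_self _ _
  obtain ⟨i, hi⟩ := Subspace.exists_eq_top_of_iUnion_eq_univ hcov
  rcases i with _ | M
  · apply hVW
    intro y hy
    have : (⟨y, hy⟩ : V) ∈ p none := hi ▸ Submodule.mem_top
    exact this
  · apply M.2
    have hWM : (V : Set K) ⊆ (M.1.restrictScalars k : Set K) := by
      intro y hy
      have : (⟨y, hy⟩ : V) ∈ p (some M) := hi ▸ Submodule.mem_top
      exact this
    have hle : IntermediateField.adjoin k (V : Set K) ≤ M.1.restrictScalars k :=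
      IntermediateField.adjoin_le_iff.mpr hWM
    rw [hV] at hle
    apply IntermediateField.restrictScalars_injective k
    rw [IntermediateField.restrictScalars_top]
    exact top_le_iff.mp hle

theorem adjoin_gen_eq_top (x : K) :
    IntermediateField.adjoin k ({AdjoinSimple.gen k x} : Set k⟮x⟯) = ⊤ := by
  apply IntermediateField.map_injective (k⟮x⟯.val)
  rw [IntermediateField.adjoin_map, Set.image_singleton, ← AlgHom.fieldRange_eq_map,
    IntermediateField.fieldRange_val]
  rfl

/-- In `k(x)`, a place at which `x - a` vanishes has `x - a` as a local parameter. -/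
theorem val_gen_sub_const_eq (hK : IsFunctionField k K) {x : K} (hx : Transcendental k x)
    (P₀ : Place k k⟮x⟯) (a : k)
    (h : P₀.1 (AdjoinSimple.gen k x - algebraMap k k⟮x⟯ a) < 1) :
    P₀.1 (AdjoinSimple.gen k x - algebraMap k k⟮x⟯ a) = exp (-1 : ℤ) := by
  classical
  have hK₀ : IsFunctionField k k⟮x⟯ :=
    isFunctionField_intermediateField hK _ ⟨x, mem_adjoin_simple_self k x, hx⟩
  set t₀ : k⟮x⟯ := AdjoinSimple.gen k x - algebraMap k k⟮x⟯ a with ht₀
  have hgen : Transcendental k (AdjoinSimple.gen k x) :=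
    (transcendental_algebraMap_iff (algebraMap k⟮x⟯ K).injective).mp hx
  have ht0 : t₀ ≠ 0 := by
    intro h0
    apply hgen
    rw [ht₀, sub_eq_zero] at h0
    rw [h0]
    exact isAlgebraic_algebraMap a
  have htr : Transcendental k t₀ := Groth.Agent.Lib.Helper18.FF.transcendental_of_val_ne_one hK₀ P₀ ht0 h.ne
  have htop : IntermediateField.adjoin k ({t₀} : Set k⟮x⟯) = ⊤ := by
    rw [eq_top_iff, ← adjoin_gen_eq_top x, IntermediateField.adjoin_le_iff]
    rintro _ rfl
    have h1 : t₀ ∈ IntermediateField.adjoin k ({t₀} : Set k⟮x⟯) :=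
      IntermediateField.mem_adjoin_simple_self k t₀
    have h2 : algebraMap k k⟮x⟯ a ∈ IntermediateField.adjoin k ({t₀} : Set k⟮x⟯) :=
      IntermediateField.algebraMap_mem _ a
    have := add_mem h1 h2
    rwa [ht₀, sub_add_cancel] at this
  have hfin : FiniteDimensional (IntermediateField.adjoin k ({t₀} : Set k⟮x⟯)) k⟮x⟯ := by
    rw [htop]
    exact Module.Finite.of_surjective
      (Algebra.linearMap (⊤ : IntermediateField k k⟮x⟯) k⟮x⟯)
      (fun z => ⟨⟨z, IntermediateField.mem_top⟩, rfl⟩)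
  have hfz := finite_zeros_weak htr hfin
  have hS : ∀ Q : Place k k⟮x⟯, Q ∈ hfz.toFinset ↔ Q.1 t₀ < 1 := fun Q => hfz.mem_toFinset
  have hsum := sum_zeros_weak htr hfin hfz.toFinset hS
  rw [htop, IntermediateField.finrank_top] at hsum
  have hmem : P₀ ∈ hfz.toFinset := (hS P₀).mpr h
  have hnonneg : ∀ Q ∈ hfz.toFinset, 0 ≤ Q.ord t₀ * (Q.deg : ℤ) := by
    intro Q hQ
    have : 0 < Q.ord t₀ := (val_lt_one_iff_ord_pos Q ht0).mp ((hS Q).mp hQ)
    positivity
  have hle := Finset.single_le_sum hnonneg hmem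
  rw [hsum] at hle
  have hord : 0 < P₀.ord t₀ := (val_lt_one_iff_ord_pos P₀ ht0).mp h
  have hdeg : 0 < P₀.deg := deg_pos hK₀ P₀
  have hord1 : P₀.ord t₀ = 1 := by
    have hdeg' : (1 : ℤ) ≤ (P₀.deg : ℤ) := by exact_mod_cast hdeg
    have h3 : P₀.ord t₀ * 1 ≤ P₀.ord t₀ * (P₀.deg : ℤ) := mul_le_mul_of_nonneg_left hdeg' hord.le
    rw [Nat.cast_one] at hle
    omega
  rw [val_eq_exp_neg_ord P₀ ht0, hord1]

/-- Elements of value at most `exp n` at all places of `S`. -/
def smallAt (S : Finset (Place k K)) (n : ℤ) : Submodule k K where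
  carrier := {z | ∀ Q ∈ S, Q.1 z ≤ exp n}
  add_mem' {a b} ha hb Q hQ := (Q.1.map_add a b).trans (max_le (ha Q hQ) (hb Q hQ))
  zero_mem' Q _ := by rw [map_zero]; exact zero_le'
  smul_mem' c a ha Q hQ := (val_smul_le Q c a).trans (ha Q hQ)

theorem mem_smallAt {S : Finset (Place k K)} {n : ℤ} {z : K} :
    z ∈ smallAt S n ↔ ∀ Q ∈ S, Q.1 z ≤ exp n := Iff.rfl

theorem adjoin_smallAt_eq_top (S : Finset (Place k K)) (hS : S.Nonempty) (n : ℤ) :
    IntermediateField.adjoin k ((smallAt S n : Submodule k K) : Set K) = ⊤ := by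
  rw [eq_top_iff]
  rintro z -
  rcases eq_or_ne z 0 with rfl | hz
  · exact zero_mem _
  obtain ⟨w₀, hw₀⟩ := exists_approx_eq S (fun _ => (0 : K)) (fun Q => n - |log (Q.1 z)|)
  simp only [sub_zero] at hw₀
  obtain ⟨Q₀, hQ₀⟩ := hS
  have hw0 : w₀ ≠ 0 := by
    rintro rfl
    have := hw₀ Q₀ hQ₀
    rw [map_zero] at this
    exact exp_ne_zero this.symm
  have h1 : w₀ ∈ smallAt S n := by
    intro Q hQ
    rw [hw₀ Q hQ, exp_le_exp]
    have := abs_nonneg (log (Q.1 z))
    omega
  have h2 : w₀ * z ∈ smallAt S n := by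
    intro Q hQ
    have hQz : Q.1 z ≠ 0 := (Valuation.ne_zero_iff _).mpr hz
    rw [map_mul, hw₀ Q hQ, ← exp_log hQz, ← exp_add, exp_le_exp]
    rw [log_exp]
    have := le_abs_self (log (Q.1 z))
    omega
  have h3 : z = (w₀ * z) / w₀ := by field_simp
  rw [h3]
  exact div_mem (IntermediateField.subset_adjoin _ _ h2) (IntermediateField.subset_adjoin _ _ h1)

/-- **S11051.** Over an algebraically closed constant field, for a separating `x` there is `y` with
`K = k(x, y)` such that `⟨1, x, y⟩` contains a local parameter at every place. -/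
theorem exists_generator_span_contains_uniformizers [IsAlgClosed k] (hK : IsFunctionField k K) (x : K)
    (hsep : Algebra.IsSeparable (IntermediateField.adjoin k ({x} : Set K)) K) :
    ∃ y : K, IntermediateField.adjoin k ({x, y} : Set K) = ⊤ ∧
      ∀ P : Place k K, ∃ f ∈ Submodule.span k ({1, x, y} : Set K), P.1 f = exp (-1 : ℤ) := by
  classical
  have hx : Transcendental k x := by
    intro halg
    obtain ⟨t, ht, -⟩ := hK.1
    haveI : Algebra.IsAlgebraic k k⟮x⟯ := IntermediateField.isAlgebraic_adjoin_simple halg.isIntegral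
    haveI : Algebra.IsAlgebraic k⟮x⟯ K := Algebra.IsSeparable.isAlgebraic _ _
    haveI : Algebra.IsAlgebraic k K := Algebra.IsAlgebraic.trans k k⟮x⟯ K
    exact ht (Algebra.IsAlgebraic.isAlgebraic t)
  haveI hfd : FiniteDimensional k⟮x⟯ K := finiteDimensional_adjoin_of_transcendental hK hx
  have hK₀ : IsFunctionField k k⟮x⟯ :=
    isFunctionField_intermediateField hK _ ⟨x, mem_adjoin_simple_self k x, hx⟩
  have hram := finite_ramified_separable (K := k⟮x⟯) (K' := K) hK₀
  have hpol := finite_poles' hK x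
  set S : Finset (Place k K) := (hram.union hpol).toFinset with hSdef
  have hS : ∀ Q, Q ∉ S → Function.Surjective (Q.1.comap (algebraMap k⟮x⟯ K)) ∧ Q.1 x ≤ 1 := by
    intro Q hQ
    rw [hSdef, Set.Finite.mem_toFinset, Set.mem_union, not_or] at hQ
    exact ⟨not_not.mp hQ.1, not_not.mp hQ.2⟩
  have hgood : ∀ Q, Q ∉ S → ∀ y : K,
      ∃ f ∈ Submodule.span k ({1, x, y} : Set K), Q.1 f = exp (-1 : ℤ) := by
    intro Q hQ y
    obtain ⟨hsurj, hQx⟩ := hS Q hQ
    obtain ⟨a, ha⟩ := exists_const_sub_lt_one hK (deg_eq_one_of_isAlgClosed hK Q) hQx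
    let P₀ : Place k k⟮x⟯ := ⟨Q.1.comap (algebraMap k⟮x⟯ K), fun c => by
        rw [Valuation.comap_apply, ← IsScalarTower.algebraMap_apply]; exact Q.2.1 c, hsurj⟩
    have h1 : P₀.1 (AdjoinSimple.gen k x - algebraMap k k⟮x⟯ a) = Q.1 (x - algebraMap k K a) := by
      show Q.1 (algebraMap k⟮x⟯ K _) = _
      rw [map_sub, AdjoinSimple.algebraMap_gen, ← IsScalarTower.algebraMap_apply]
    have h2 := val_gen_sub_const_eq hK hx P₀ a (by rw [h1]; exact ha)
    rw [h1] at h2
    refine ⟨x - algebraMap k K a, ?_, h2⟩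
    have hx_mem : x ∈ Submodule.span k ({1, x, y} : Set K) := Submodule.subset_span (by simp)
    have h1_mem : (1 : K) ∈ Submodule.span k ({1, x, y} : Set K) := Submodule.subset_span (by simp)
    rw [Algebra.algebraMap_eq_smul_one]
    exact Submodule.sub_mem _ hx_mem (Submodule.smul_mem _ a h1_mem)
  rcases S.eq_empty_or_nonempty with hSe | hSne
  · obtain ⟨y, -, hy⟩ := exists_generator_mem (⊤ : Submodule k K) (by
      rw [Submodule.top_coe, IntermediateField.adjoin_univ]) (x := x)
    exact ⟨y, hy, fun P => hgood P (by rw [hSe]; exact Finset.notMem_empty P) y⟩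
  · obtain ⟨u, hu⟩ := exists_approx_eq S (fun _ => (0 : K)) (fun _ => (-1 : ℤ))
    simp only [sub_zero] at hu
    set W := smallAt S (-2) with hW
    set V := W ⊔ Submodule.span k ({u} : Set K) with hVdef
    have hV : IntermediateField.adjoin k (V : Set K) = ⊤ := by
      rw [eq_top_iff, ← adjoin_smallAt_eq_top S hSne (-2)]
      apply IntermediateField.adjoin.mono
      intro z hz
      exact (le_sup_left : W ≤ V) hz
    have huV : u ∈ V := (le_sup_right : Submodule.span k ({u} : Set K) ≤ V)
      (Submodule.mem_span_singleton_self u)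
    have hVW : ¬ V ≤ W := by
      intro hle
      obtain ⟨Q₀, hQ₀⟩ := hSne
      have := hle huV Q₀ hQ₀
      rw [hu Q₀ hQ₀, exp_le_exp] at this
      omega
    obtain ⟨y, hyV, hyW, hy⟩ := exists_generator_mem_not_mem V W hV hVW (x := x)
    refine ⟨y, hy, fun P => ?_⟩
    by_cases hP : P ∈ S
    · refine ⟨y, Submodule.subset_span (by simp), ?_⟩
      obtain ⟨w, hw, v, hv, rfl⟩ := Submodule.mem_sup.mp hyV
      obtain ⟨c, rfl⟩ := Submodule.mem_span_singleton.mp hv
      have hc : c ≠ 0 := by
        rintro rfl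
        apply hyW
        rw [zero_smul, add_zero]
        exact hw
      have h1 : P.1 (c • u) = exp (-1 : ℤ) := by rw [val_smul P hc, hu P hP]
      have h2 : P.1 w < P.1 (c • u) := by
        rw [h1]
        refine lt_of_le_of_lt (hw P hP) ?_
        rw [exp_lt_exp]; norm_num
      rw [Valuation.map_add_eq_of_lt_right P.1 h2, h1]
    · exact hgood P hP y

end Groth.Agent.Lib.Helper24.FFExt
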