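import Groth.Agent.Lib.Helper24.FFExt.SepResidue
import Groth.Agent.Lib.Helper24.FFExt.UnifSpan
import Groth.Agent.Lib.Helper24.FFExt.Separating
import Groth.Agent.Lib.Helper18.FF.Exists
import Mathlib.FieldTheory.Normal.Closure
import Mathlib.FieldTheory.IsAlgClosed.AlgebraicClosure

/-! # Infinitely many places with separable residue field (helper24) -/

set_option autoImplicit false
set_option linter.style.haveILetI false

namespace Groth.Agent.Lib.Helper24.FFExt

open FunFld IntermediateField WithZero Groth.Agent.Lib.Helper18.FF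

universe u v

variable {k : Type u} {K : Type v} [Field k] [Field K] [Algebra k K]

/-- In `k(x)`, a place at which `x - a` vanishes has degree one. -/
theorem deg_eq_one_of_gen_sub_const (hK : IsFunctionField k K) {x : K} (hx : Transcendental k x)
    (P₀ : Place k k⟮x⟯) (a : k)
    (h : P₀.1 (AdjoinSimple.gen k x - algebraMap k k⟮x⟯ a) < 1) : P₀.deg = 1 := by
  classical
  have hK₀ : IsFunctionField k k⟮x⟯ :=
    isFunctionField_intermediateField hK _ ⟨x, mem_adjoin_simple_self k x, hx⟩
  set t₀ : k⟮x⟯ := AdjoinSimple.gen k x - algebraMap k k⟮x⟯ a with ht₀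
  have hgen : Transcendental k (AdjoinSimple.gen k x) :=
    (transcendental_algebraMap_iff (algebraMap k⟮x⟯ K).injective).mp hx
  have ht0 : t₀ ≠ 0 := by
    intro h0
    apply hgen
    rw [ht₀, sub_eq_zero] at h0
    rw [h0]
    exact isAlgebraic_algebraMap a
  have htr : Transcendental k t₀ :=
    Groth.Agent.Lib.Helper18.FF.transcendental_of_val_ne_one hK₀ P₀ ht0 h.ne
  have htop : IntermediateField.adjoin k ({t₀} : Set k⟮x⟯) = ⊤ := by
    rw [eq_top_iff, ← adjoin_gen_eq_top x, IntermediateField.adjoin_le_iff]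
    rintro _ rfl
    have h1 : t₀ ∈ IntermediateField.adjoin k ({t₀} : Set k⟮x⟯) :=
      IntermediateField.mem_adjoin_simple_self k t₀
    have h2 : algebraMap k k⟮x⟯ a ∈ IntermediateField.adjoin k ({t₀} : Set k⟮x⟯) :=
      IntermediateField.algebraMap_mem _ a
    have := add_mem h1 h2
    rwa [ht₀, sub_add_cancel] at this
  have hfin : FiniteDimensional (IntermediateField.adjoin k ({t₀} : Set k⟮x⟯)) k⟮x⟯ := by
    rw [htop]
    exact Module.Finite.of_surjective
      (Algebra.linearMap (⊤ : IntermediateField k k⟮x⟯) k⟮x⟯)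
      (fun z => ⟨⟨z, IntermediateField.mem_top⟩, rfl⟩)
  have hfz := finite_zeros_weak htr hfin
  have hS : ∀ Q : Place k k⟮x⟯, Q ∈ hfz.toFinset ↔ Q.1 t₀ < 1 := fun Q => hfz.mem_toFinset
  have hsum := sum_zeros_weak htr hfin hfz.toFinset hS
  rw [htop, IntermediateField.finrank_top] at hsum
  have hmem : P₀ ∈ hfz.toFinset := (hS P₀).mpr h
  have hnonneg : ∀ Q ∈ hfz.toFinset, 0 ≤ Q.ord t₀ * (Q.deg : ℤ) := by
    intro Q hQ
    have : 0 < Q.ord t₀ := (val_lt_one_iff_ord_pos Q ht0).mp ((hS Q).mp hQ)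
    positivity
  have hle := Finset.single_le_sum hnonneg hmem
  rw [hsum] at hle
  have hord : 0 < P₀.ord t₀ := (val_lt_one_iff_ord_pos P₀ ht0).mp h
  have hdeg : 0 < P₀.deg := deg_pos hK₀ P₀
  have hdeg' : (1 : ℤ) ≤ (P₀.deg : ℤ) := by exact_mod_cast hdeg
  have h3 : 1 * (P₀.deg : ℤ) ≤ P₀.ord t₀ * (P₀.deg : ℤ) :=
    mul_le_mul_of_nonneg_right (by omega) (by omega)
  rw [Nat.cast_one] at hle
  have h4 : (P₀.deg : ℤ) = 1 := by omega
  exact_mod_cast h4

/-- **Euclid**: a function field of one variable has infinitely many places. -/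
theorem infinite_places_all (hK : IsFunctionField k K) : Infinite (Place k K) := by
  classical
  by_contra hfin
  rw [not_infinite_iff_finite] at hfin
  letI : Fintype (Place k K) := Fintype.ofFinite _
  obtain ⟨x, hx, -⟩ := hK.1
  have hxr : x ∉ Set.range (algebraMap k K) := by
    rintro ⟨c, rfl⟩
    exact hx (isAlgebraic_algebraMap c)
  obtain ⟨P₁, -⟩ := exists_zero hK hxr
  obtain ⟨u, hu⟩ := exists_uniformizer P₁
  obtain ⟨z, hz⟩ := exists_approx (Finset.univ : Finset (Place k K))
    (fun P => if P = P₁ then u else 0) (fun P => if P = P₁ then exp (-1 : ℤ) else 1)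
    (fun P _ => by split_ifs <;> simp)
  have hz1 : P₁.1 z = exp (-1 : ℤ) := by
    have h1 := hz P₁ (Finset.mem_univ _)
    rw [if_pos rfl, if_pos rfl] at h1
    have h2 : z = (z - u) + u := by ring
    rw [h2, Valuation.map_add_eq_of_lt_right _ (by rwa [hu]), hu]
  have hzlt : ∀ P : Place k K, P.1 z < 1 := by
    intro P
    by_cases hP : P = P₁
    · rw [hP, hz1]; exact exp_neg_one_lt_one
    · have h1 := hz P (Finset.mem_univ _)
      rwa [if_neg hP, if_neg hP, sub_zero] at h1
  have hw : ∀ P : Place k K, P.1 (1 + z) = 1 := fun P => (P.1).map_one_add_of_lt (hzlt P)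
  have hconst : 1 + z ∈ Set.range (algebraMap k K) := by
    by_contra hnc
    obtain ⟨P, hP⟩ := exists_zero hK hnc
    rw [hw P] at hP
    exact lt_irrefl _ hP
  obtain ⟨c, hc⟩ := hconst
  have hzc : z = algebraMap k K (c - 1) := by rw [map_sub, map_one, hc]; ring
  have hz0 : z ≠ 0 := by
    intro h0
    rw [h0, map_zero] at hz1
    exact exp_ne_zero hz1.symm
  have hc1 : c - 1 ≠ 0 := by
    intro h0
    rw [h0, map_zero] at hzc
    exact hz0 hzc
  have := hzlt P₁
  rw [hzc, val_algebraMap P₁ hc1] at this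
  exact lt_irrefl _ this

end Groth.Agent.Lib.Helper24.FFExt
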