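import Groth.Agent.Lib.Helper24.FFExt.SepInf

/-! # Infinitely many places with separable residue field, II (helper24) -/

set_option autoImplicit false
set_option linter.style.haveILetI false

namespace Groth.Agent.Lib.Helper24.FFExt

open FunFld IntermediateField WithZero Groth.Agent.Lib.Helper18.FF

universe u v

variable {k : Type u} {K : Type v} [Field k] [Field K] [Algebra k K]

/-- A place of degree one has residue field separable over `k`. -/
theorem isSeparable_residue_of_deg_eq_one {P : Place k K} (hP : P.deg = 1) :
    Algebra.IsSeparable k (IsLocalRing.ResidueField P.O) := by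
  have hbot : (⊥ : Subalgebra k (IsLocalRing.ResidueField P.O)) = ⊤ :=
    Subalgebra.bot_eq_top_of_finrank_eq_one hP
  refine ⟨fun x => ?_⟩
  have hx : x ∈ (⊥ : Subalgebra k (IsLocalRing.ResidueField P.O)) := by rw [hbot]; trivial
  obtain ⟨y, rfl⟩ := Algebra.mem_bot.mp hx
  exact isSeparable_algebraMap y

section Tower

variable {K' : Type*} [Field K'] [Algebra K K'] [Algebra k K'] [IsScalarTower k K K']

/-- Separability of the residue field descends along a place extension. -/
theorem isSeparable_residue_of_isOver {Q : Place k K'} {P : Place k K} (h : IsOver Q P)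
    (hQ : Algebra.IsSeparable k (IsLocalRing.ResidueField Q.O)) :
    Algebra.IsSeparable k (IsLocalRing.ResidueField P.O) := by
  letI alg : Algebra (IsLocalRing.ResidueField P.O) (IsLocalRing.ResidueField Q.O) :=
    (IsLocalRing.ResidueField.map (overRingHom h)).toAlgebra
  haveI := isScalarTower_residue h
  exact Algebra.isSeparable_tower_bot_of_isSeparable k (IsLocalRing.ResidueField P.O)
    (IsLocalRing.ResidueField Q.O)

/-- Separability of the residue field ascends along a place extension with separable residue
extension. -/
theorem isSeparable_residue_trans {Q : Place k K'} {P : Place k K} (h : IsOver Q P)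
    (hP : Algebra.IsSeparable k (IsLocalRing.ResidueField P.O))
    (hQP : letI := (IsLocalRing.ResidueField.map (overRingHom h)).toAlgebra
      Algebra.IsSeparable (IsLocalRing.ResidueField P.O) (IsLocalRing.ResidueField Q.O)) :
    Algebra.IsSeparable k (IsLocalRing.ResidueField Q.O) := by
  letI alg : Algebra (IsLocalRing.ResidueField P.O) (IsLocalRing.ResidueField Q.O) :=
    (IsLocalRing.ResidueField.map (overRingHom h)).toAlgebra
  haveI := isScalarTower_residue h
  haveI := hP
  haveI := hQP
  exact Algebra.IsSeparable.trans k (IsLocalRing.ResidueField P.O) (IsLocalRing.ResidueField Q.O)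

end Tower

/-- **A geometric function field has infinitely many places with separable residue field.** -/
theorem infinite_separable_places (hK : IsFunctionField k K) (hg : IsGeometric k K) :
    {P : Place k K | Algebra.IsSeparable k (IsLocalRing.ResidueField P.O)}.Infinite := by
  classical
  by_cases hfink : Finite k
  · haveI := hfink
    have hall : {P : Place k K | Algebra.IsSeparable k (IsLocalRing.ResidueField P.O)} =
        Set.univ := by
      ext P
      simp only [Set.mem_setOf_eq, Set.mem_univ, iff_true]
      have hfd := finiteDimensional_residueField hK P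
      haveI : Algebra.IsAlgebraic k (IsLocalRing.ResidueField P.O) :=
        @Algebra.IsAlgebraic.of_finite k _ _ _ _ _ hfd
      exact Algebra.IsAlgebraic.isSeparable_of_perfectField
    rw [hall]
    haveI := infinite_places_all hK
    exact Set.infinite_univ
  · haveI : Infinite k := not_finite_iff_infinite.mp hfink
    obtain ⟨t, ht, hfinK, hsep⟩ := exists_separating hK hg
    haveI := hfinK
    haveI := hsep
    set K₀ : IntermediateField k K := k⟮t⟯ with hK₀def
    have hK₀ : IsFunctionField k K₀ :=
      isFunctionField_intermediateField hK _ ⟨t, mem_adjoin_simple_self k t, ht⟩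
    haveI : IsAlgClosure K₀ (AlgebraicClosure K) :=
      ⟨inferInstance, Algebra.IsAlgebraic.trans K₀ K _⟩
    haveI : Normal K₀ (AlgebraicClosure K) := IsAlgClosure.normal _ _
    set E := normalClosure K₀ K (AlgebraicClosure K) with hE
    haveI : Algebra.IsSeparable K₀ E := by
      rw [hE, normalClosure_def]
      haveI : ∀ f : K →ₐ[K₀] AlgebraicClosure K, Algebra.IsSeparable K₀ f.fieldRange := fun f =>
        AlgEquiv.Algebra.isSeparable (AlgEquiv.ofInjectiveField f)
      exact IntermediateField.isSeparable_iSup _ _
    haveI : IsGalois K₀ E := ⟨⟩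
    letI : Algebra k E := ((algebraMap K₀ E).comp (algebraMap k K₀)).toAlgebra
    haveI : IsScalarTower k K₀ E := IsScalarTower.of_algebraMap_eq fun _ => rfl
    haveI : IsScalarTower k K E := IsScalarTower.of_algebraMap_eq fun c => by
      show algebraMap K₀ E (algebraMap k K₀ c) = algebraMap K E (algebraMap k K c)
      rw [IsScalarTower.algebraMap_apply k K₀ K, ← IsScalarTower.algebraMap_apply K₀ K E]
    haveI : FiniteDimensional K E := FiniteDimensional.right K₀ K E
    have hbad := finite_inertia_ne_one (K := K₀) (K' := E) hK₀
    have hnc : ∀ a : k, t - algebraMap k K a ∉ Set.range (algebraMap k K) := by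
      rintro a ⟨c, hc⟩
      apply ht
      have : t = algebraMap k K (c + a) := by rw [map_add, hc]; ring
      rw [this]
      exact isAlgebraic_algebraMap _
    choose Pz hPz using fun a => exists_zero hK (hnc a)
    choose Rz hRz using fun a => exists_place_over (K' := E) hK (Pz a)
    have hinj : Function.Injective Pz := by
      intro a b hab
      by_contra hne
      have h1 := hPz a
      have h2 := hPz b
      rw [hab] at h1
      have h3 : (Pz b).1 ((t - algebraMap k K a) - (t - algebraMap k K b)) < 1 :=
        (Valuation.map_sub _ _ _).trans_lt (max_lt h1 h2)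
      have h4 : (t - algebraMap k K a) - (t - algebraMap k K b) = algebraMap k K (b - a) := by
        rw [map_sub]; ring
      rw [h4, val_algebraMap (Pz b) (sub_ne_zero.mpr (Ne.symm hne))] at h3
      exact lt_irrefl _ h3
    have hRinj : Function.Injective Rz := by
      intro a b hab
      apply hinj
      have h1 := hRz a
      have h2 := hRz b
      rw [← hab] at h2
      exact isOver_unique h1 h2
    have hgood : {a : k | Nat.card (((Rz a).O).inertiaSubgroup K₀) = 1}.Infinite := by
      have hfinbad : {a : k | Nat.card (((Rz a).O).inertiaSubgroup K₀) ≠ 1}.Finite :=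
        hbad.preimage hRinj.injOn
      have hcompl : {a : k | Nat.card (((Rz a).O).inertiaSubgroup K₀) = 1} =
          {a : k | Nat.card (((Rz a).O).inertiaSubgroup K₀) ≠ 1}ᶜ := by
        ext a; simp
      rw [hcompl]
      exact hfinbad.infinite_compl
    refine (hgood.image hinj.injOn).mono ?_
    rintro _ ⟨a, ha, rfl⟩
    show Algebra.IsSeparable k (IsLocalRing.ResidueField (Pz a).O)
    obtain ⟨P₀, hP₀⟩ := exists_isOver (K := K₀) (K' := E) hK₀ (Rz a)
    have he := isOver_isOverWith_ramIdx hP₀
    obtain ⟨-, hsepR⟩ := isSeparable_residue_of_card_inertia_eq_one hK₀ he ha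
    -- `P₀` is the zero of `t - a` in `k(t)`, of degree one
    have hR : (Rz a).1 (algebraMap K E (t - algebraMap k K a)) < 1 :=
      (isOver_lt_one_iff (hRz a) _).mpr (hPz a)
    have hcomp : algebraMap K E (t - algebraMap k K a) =
        algebraMap K₀ E (AdjoinSimple.gen k t - algebraMap k K₀ a) := by
      have h1 : algebraMap K₀ K (AdjoinSimple.gen k t - algebraMap k K₀ a) =
          t - algebraMap k K a := by
        rw [map_sub, AdjoinSimple.algebraMap_gen, ← IsScalarTower.algebraMap_apply k K₀ K]
      rw [IsScalarTower.algebraMap_apply K₀ K E, h1]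
    rw [hcomp] at hR
    have hP₀lt : P₀.1 (AdjoinSimple.gen k t - algebraMap k K₀ a) < 1 :=
      (isOver_lt_one_iff hP₀ _).mp hR
    have hdeg : P₀.deg = 1 := deg_eq_one_of_gen_sub_const hK ht P₀ a hP₀lt
    have hsepP₀ := isSeparable_residue_of_deg_eq_one hdeg
    have hsepRk := isSeparable_residue_trans hP₀ hsepP₀ hsepR
    exact isSeparable_residue_of_isOver (hRz a) hsepRk

end Groth.Agent.Lib.Helper24.FFExt
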