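import Groth.Agent.Lib.Helper24.FFExt.Ramified

/-! # Trivial inertia forces a separable residue extension (helper24) -/

set_option autoImplicit false

namespace Groth.Agent.Lib.Helper24.FFExt

open FunFld WithZero IntermediateField Groth.Agent.Lib.Helper18.FF

open scoped Pointwise

variable {k K K' : Type*} [Field k] [Field K] [Field K'] [Algebra k K] [Algebra K K'] [Algebra k K']
  [IsScalarTower k K K']

/-- If the inertia group of `Q` is trivial, then `Q` is unramified over `P` and the residue field
extension is separable. -/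
theorem isSeparable_residue_of_card_inertia_eq_one [FiniteDimensional K K'] [IsGalois K K']
    (hK : IsFunctionField k K) {Q : Place k K'} {P : Place k K} {e : ℕ} (he : IsOverWith Q P e)
    (hI : Nat.card ((Q.O).inertiaSubgroup K) = 1) :
    e = 1 ∧ (letI := (IsLocalRing.ResidueField.map (overRingHom (isOverWith_isOver he))).toAlgebra
      Algebra.IsSeparable (IsLocalRing.ResidueField P.O) (IsLocalRing.ResidueField Q.O)) := by
  classical
  have h := isOverWith_isOver he
  letI alg : Algebra (IsLocalRing.ResidueField P.O) (IsLocalRing.ResidueField Q.O) :=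
    (IsLocalRing.ResidueField.map (overRingHom h)).toAlgebra
  set D := (Q.O).decompositionSubgroup K with hD
  set ρ : D →* RingAut (IsLocalRing.ResidueField Q.O) :=
    MulSemiringAction.toRingAut D (IsLocalRing.ResidueField Q.O) with hρ
  have hker : (Q.O).inertiaSubgroup K = ρ.ker := rfl
  have h1 : Nat.card ((Q.O).inertiaSubgroup K) * Nat.card ρ.range = Nat.card D := by
    rw [hker, ← Subgroup.index_ker]
    exact Subgroup.card_mul_index _
  haveI : Finite D := inferInstance
  haveI : Finite ρ.range := inferInstance
  letI : Fintype ρ.range := Fintype.ofFinite _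
  have hartin := FixedPoints.finrank_eq_card ρ.range (IsLocalRing.ResidueField Q.O)
  have hS : ∀ x : IsLocalRing.ResidueField P.O,
      IsLocalRing.ResidueField.map (overRingHom h) x ∈
        FixedPoints.subfield ρ.range (IsLocalRing.ResidueField Q.O) := by
    intro y
    obtain ⟨c, rfl⟩ := IsLocalRing.residue_surjective y
    rintro ⟨τ, σ, rfl⟩
    show σ • (IsLocalRing.ResidueField.map (overRingHom h) (IsLocalRing.residue P.O c)) = _
    rw [IsLocalRing.ResidueField.map_residue, ← IsLocalRing.ResidueField.residue_smul]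
    congr 1
    apply Subtype.ext
    exact σ.1.commutes c.1
  let i0 : IsLocalRing.ResidueField P.O →+*
      FixedPoints.subfield ρ.range (IsLocalRing.ResidueField Q.O) :=
    (IsLocalRing.ResidueField.map (overRingHom h)).codRestrict _ hS
  letI algFix : Algebra (IsLocalRing.ResidueField P.O)
      (FixedPoints.subfield ρ.range (IsLocalRing.ResidueField Q.O)) := i0.toAlgebra
  haveI : IsScalarTower (IsLocalRing.ResidueField P.O)
      (FixedPoints.subfield ρ.range (IsLocalRing.ResidueField Q.O))
      (IsLocalRing.ResidueField Q.O) := IsScalarTower.of_algebraMap_eq fun _ => rfl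
  have hmul := Module.finrank_mul_finrank (IsLocalRing.ResidueField P.O)
      (FixedPoints.subfield ρ.range (IsLocalRing.ResidueField Q.O))
      (IsLocalRing.ResidueField Q.O)
  have hdm := deg_mul_finrank_residue h
  have hcd := card_decomposition_mul_deg hK he
  have hQpos : 0 < Q.deg := ((IsFunctionField.weakFF hK).of_finite (K' := K')).deg_pos Q
  have hPpos := deg_pos hK P
  rw [hartin, ← Nat.card_eq_fintype_card] at hmul
  set f := Module.finrank (IsLocalRing.ResidueField P.O) (IsLocalRing.ResidueField Q.O) with hf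
  have hfpos : 0 < f := by
    rcases Nat.eq_zero_or_pos f with h0 | h0
    · rw [h0, mul_zero] at hdm; omega
    · exact h0
  set d := Module.finrank (IsLocalRing.ResidueField P.O)
      (FixedPoints.subfield ρ.range (IsLocalRing.ResidueField Q.O)) with hd
  have hdpos : 0 < d := by
    rcases Nat.eq_zero_or_pos d with h0 | h0
    · rw [h0, zero_mul] at hmul; omega
    · exact h0
  have h2 : Nat.card ((Q.O).inertiaSubgroup K) * Nat.card ρ.range = e * f := by
    have : Nat.card ((Q.O).inertiaSubgroup K) * Nat.card ρ.range * P.deg = e * f * P.deg := by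
      rw [h1, hcd, ← hdm]; ring
    exact Nat.eq_of_mul_eq_mul_right hPpos this
  rw [hI, one_mul] at h2
  have hepos := isOverWith_pos he
  -- `d * |range| = f` and `|range| = e * f`
  have hde : d * e = 1 := by
    have h3 : d * (e * f) = f := by rw [← h2]; exact hmul
    have h4 : (d * e) * f = 1 * f := by rw [one_mul, mul_assoc]; exact h3
    exact Nat.eq_of_mul_eq_mul_right hfpos h4
  have he1 : e = 1 := Nat.eq_one_of_mul_eq_one_left hde
  have hd1 : d = 1 := Nat.eq_one_of_mul_eq_one_right hde
  refine ⟨he1, ?_⟩
  -- `F_P → Fix` is surjective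
  have hsurj : Function.Surjective (algebraMap (IsLocalRing.ResidueField P.O)
      (FixedPoints.subfield ρ.range (IsLocalRing.ResidueField Q.O))) := by
    have hbot : (⊥ : Subalgebra (IsLocalRing.ResidueField P.O)
        (FixedPoints.subfield ρ.range (IsLocalRing.ResidueField Q.O))) = ⊤ :=
      Subalgebra.bot_eq_top_of_finrank_eq_one (by rw [← hd, hd1])
    intro x
    have hx : x ∈ (⊥ : Subalgebra (IsLocalRing.ResidueField P.O)
        (FixedPoints.subfield ρ.range (IsLocalRing.ResidueField Q.O))) := by
      rw [hbot]; trivial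
    exact Algebra.mem_bot.mp hx
  haveI hsep1 : Algebra.IsSeparable (IsLocalRing.ResidueField P.O)
      (FixedPoints.subfield ρ.range (IsLocalRing.ResidueField Q.O)) := by
    refine ⟨fun x => ?_⟩
    obtain ⟨y, rfl⟩ := hsurj x
    exact isSeparable_algebraMap y
  haveI hsep2 : Algebra.IsSeparable
      (FixedPoints.subfield ρ.range (IsLocalRing.ResidueField Q.O))
      (IsLocalRing.ResidueField Q.O) := FixedPoints.isSeparable _ _
  exact Algebra.IsSeparable.trans (IsLocalRing.ResidueField P.O)
    (FixedPoints.subfield ρ.range (IsLocalRing.ResidueField Q.O)) (IsLocalRing.ResidueField Q.O)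

end Groth.Agent.Lib.Helper24.FFExt

namespace Groth.Agent.Lib.Helper24.FFExt

open FunFld WithZero IntermediateField Groth.Agent.Lib.Helper18.FF

open scoped Pointwise

variable {k K K' : Type*} [Field k] [Field K] [Field K'] [Algebra k K] [Algebra K K'] [Algebra k K']
  [IsScalarTower k K K']

/-- In a finite Galois extension almost all places have trivial inertia group. -/
theorem finite_inertia_ne_one [FiniteDimensional K K'] [IsGalois K K'] (hK : IsFunctionField k K) :
    {Q : Place k K' | Nat.card ((Q.O).inertiaSubgroup K) ≠ 1}.Finite := by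
  classical
  have hW' : WeakFF k K' := (IsFunctionField.weakFF hK).of_finite
  obtain ⟨y, hy⟩ := Field.exists_primitive_element K K'
  have hne : ∀ σ : K' ≃ₐ[K] K', σ ≠ 1 → σ y - y ≠ 0 := by
    intro σ hσ h0
    apply hσ
    have hy' : σ y = y := sub_eq_zero.mp h0
    ext z
    have hz : z ∈ K⟮y⟯ := by rw [hy]; trivial
    rw [AlgEquiv.one_apply]
    induction hz using IntermediateField.adjoin_induction with
    | mem x hx => rw [Set.mem_singleton_iff.mp hx]; exact hy'
    | algebraMap x => exact σ.commutes x
    | add x y _ _ hx hy => rw [map_add, hx, hy]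
    | inv x _ hx => rw [map_inv₀, hx]
    | mul x y _ _ hx hy => rw [map_mul, hx, hy]
  set S : Set (Place k K') := {Q | ¬ Q.1 y ≤ 1} ∪
    ⋃ σ ∈ {σ : K' ≃ₐ[K] K' | σ ≠ 1}, {Q | Q.1 (σ y - y) < 1} with hSdef
  have hS : S.Finite := (hW'.finite_poles y).union
    (Set.Finite.biUnion (Set.toFinite _) fun σ hσ => hW'.finite_zeros (hne σ hσ))
  refine hS.subset ?_
  intro Q hQ
  by_contra hQS
  apply hQ
  have hy1 : Q.1 y ≤ 1 := by
    by_contra h; exact hQS (Or.inl h)
  have hσ1 : ∀ σ : K' ≃ₐ[K] K', σ ≠ 1 → ¬ Q.1 (σ y - y) < 1 :=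
    fun σ hσ h => hQS (Or.inr (Set.mem_biUnion (show σ ∈ {σ : K' ≃ₐ[K] K' | σ ≠ 1} from hσ) h))
  set I' := ((Q.O).inertiaSubgroup K).map ((Q.O).decompositionSubgroup K).subtype with hI'def
  have hI' : I' = ⊥ := by
    rw [eq_bot_iff]
    intro σ hσ
    rw [Subgroup.mem_bot]
    by_contra hne1
    have := (mem_inertia_iff Q σ).mp hσ y hy1
    exact hσ1 σ hne1 (lt_of_le_of_lt this exp_neg_one_lt_one)
  rw [← Subgroup.card_map_of_injective (Subgroup.subtype_injective _), ← hI'def, hI',
    Subgroup.card_bot]

end Groth.Agent.Lib.Helper24.FFExt
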