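import Groth.Agent.Lib.Helper24.FFExt.MapDivConorm
import Groth.Agent.Lib.Helper24.FFExt.Geometric

/-! # Transport of places along an isomorphism of function fields; degree of `τ(φ)` (helper24) -/

set_option autoImplicit false

namespace Groth.Agent.Lib.Helper24.FFExt

open FunFld WithZero Groth.Agent.Lib.Helper18.FF

section transport

variable {k K K₁ : Type*} [Field k] [Field K] [Field K₁] [Algebra k K] [Algebra k K₁]

/-- The place `x ↦ P₁ (e x)`. -/
def placeMap (e : K ≃ₐ[k] K₁) (P₁ : Place k K₁) : Place k K :=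
  ⟨P₁.1.comap (e : K →+* K₁), fun c => by
      rw [Valuation.comap_apply]
      have : (e : K →+* K₁) (algebraMap k K c) = algebraMap k K₁ c := e.commutes c
      rw [this]; exact P₁.2.1 c,
    fun γ => by
      obtain ⟨y, hy⟩ := P₁.2.2 γ
      refine ⟨e.symm y, ?_⟩
      rw [Valuation.comap_apply]
      have : (e : K →+* K₁) (e.symm y) = y := e.apply_symm_apply y
      rw [this, hy]⟩

theorem placeMap_val (e : K ≃ₐ[k] K₁) (P₁ : Place k K₁) (x : K) :
    (placeMap e P₁).1 x = P₁.1 (e x) := rfl

theorem placeMap_ord (e : K ≃ₐ[k] K₁) (P₁ : Place k K₁) (x : K) :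
    (placeMap e P₁).ord x = P₁.ord (e x) := rfl

theorem placeMap_symm_placeMap (e : K ≃ₐ[k] K₁) (P₁ : Place k K₁) :
    placeMap e.symm (placeMap e P₁) = P₁ := by
  apply Subtype.ext
  ext x
  show P₁.1 (e (e.symm x)) = P₁.1 x
  rw [e.apply_symm_apply]

theorem placeMap_placeMap_symm (e : K ≃ₐ[k] K₁) (P : Place k K) :
    placeMap e (placeMap e.symm P) = P := by
  apply Subtype.ext
  ext x
  show P.1 (e.symm (e x)) = P.1 x
  rw [e.symm_apply_apply]

theorem placeMap_injective (e : K ≃ₐ[k] K₁) : Function.Injective (placeMap e) :=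
  Function.LeftInverse.injective (placeMap_symm_placeMap e)

/-- The ring isomorphism of valuation rings induced by `e`. -/
def placeMapRingEquiv (e : K ≃ₐ[k] K₁) (P₁ : Place k K₁) : (placeMap e P₁).O ≃+* P₁.O where
  toFun x := ⟨e x.1, x.2⟩
  invFun y := ⟨e.symm y.1, by
    show P₁.1 (e (e.symm y.1)) ≤ 1
    rw [e.apply_symm_apply]; exact y.2⟩
  left_inv x := Subtype.ext (e.symm_apply_apply x.1)
  right_inv y := Subtype.ext (e.apply_symm_apply y.1)
  map_mul' x y := Subtype.ext (map_mul e x.1 y.1)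
  map_add' x y := Subtype.ext (map_add e x.1 y.1)

theorem deg_placeMap (e : K ≃ₐ[k] K₁) (P₁ : Place k K₁) : (placeMap e P₁).deg = P₁.deg := by
  unfold Place.deg
  refine Algebra.finrank_eq_of_equiv_equiv (RingEquiv.refl k)
    (IsLocalRing.ResidueField.mapEquiv (placeMapRingEquiv e P₁)) ?_
  ext c
  show IsLocalRing.residue _ (algebraMap k P₁.O c) =
    IsLocalRing.ResidueField.map _ (IsLocalRing.residue _ (algebraMap k (placeMap e P₁).O c))
  rw [IsLocalRing.ResidueField.map_residue]
  congr 1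
  apply Subtype.ext
  show algebraMap k K₁ c = e (algebraMap k K c)
  rw [e.commutes]

theorem mapDiv_placeMap (hK : IsFunctionField k K) (hK₁ : IsFunctionField k K₁) (e : K ≃ₐ[k] K₁)
    {ι : Type*} [Fintype ι] [Nonempty ι] (φ : ι → K) (P₁ : Place k K₁) :
    mapDiv k φ (placeMap e P₁) = mapDiv k (fun i => e (φ i)) P₁ := by
  rw [mapDiv_apply hK, mapDiv_apply hK₁]
  rfl

theorem deg_mapDiv_equiv (hK : IsFunctionField k K) (hK₁ : IsFunctionField k K₁) (e : K ≃ₐ[k] K₁)
    {ι : Type*} [Fintype ι] [Nonempty ι] (φ : ι → K) :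
    (mapDiv k (fun i => e (φ i))).deg = (mapDiv k φ).deg := by
  classical
  have h : mapDiv k φ = Finsupp.mapDomain (placeMap e) (mapDiv k (fun i => e (φ i))) := by
    ext P
    rw [← placeMap_placeMap_symm e P, Finsupp.mapDomain_apply (placeMap_injective e),
      mapDiv_placeMap hK hK₁]
  rw [h]
  unfold Divisor.deg
  rw [Finsupp.sum_mapDomain_index (by intro; simp) (by intro _ _ _; ring)]
  refine Finsupp.sum_congr fun P₁ _ => ?_
  rw [deg_placeMap]

end transport

section endo

variable {k K : Type*} [Field k] [Field K] [Algebra k K]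

theorem finiteDimensional_of_intermediate_le {F₀ F₁ : IntermediateField k K} (hle : F₀ ≤ F₁)
    [FiniteDimensional F₀ K] : FiniteDimensional F₁ K := by
  obtain ⟨s, hs⟩ := (Module.finite_def.mp (inferInstance : Module.Finite F₀ K))
  refine Module.finite_def.mpr ⟨s, ?_⟩
  rw [eq_top_iff]
  intro z hztop
  clear hztop
  have hz : z ∈ Submodule.span F₀ (s : Set K) := hs ▸ Submodule.mem_top
  induction hz using Submodule.span_induction with
  | mem y hy => exact Submodule.subset_span hy
  | zero => exact Submodule.zero_mem _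
  | add a b _ _ ha hb => exact Submodule.add_mem _ ha hb
  | smul a y _ hy => exact Submodule.smul_mem _ (⟨a.1, hle a.2⟩ : F₁) hy

/-- The degree of `τ(φ)` is `[K : τ(K)] · deg φ`. -/
theorem deg_mapDiv_comp_algHom (hK : IsFunctionField k K) (τ : K →ₐ[k] K) {ι : Type*} [Fintype ι]
    [Nonempty ι] (φ : ι → K) :
    (mapDiv k (τ ∘ φ)).deg = Module.finrank τ.fieldRange K * (mapDiv k φ).deg := by
  obtain ⟨x, hx, hfin⟩ := hK.1
  have hτx : Transcendental k (τ x) := fun h => hx ((isAlgebraic_algHom_iff τ τ.injective).mp h)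
  have hK₁ : IsFunctionField k τ.fieldRange :=
    isFunctionField_intermediateField hK τ.fieldRange ⟨τ x, ⟨x, rfl⟩, hτx⟩
  let e : K ≃ₐ[k] τ.fieldRange := AlgEquiv.ofInjectiveField τ
  haveI : FiniteDimensional τ.fieldRange K := by
    haveI := finiteDimensional_adjoin_of_transcendental hK hτx
    have hle : IntermediateField.adjoin k ({τ x} : Set K) ≤ τ.fieldRange := by
      rw [IntermediateField.adjoin_le_iff]
      rintro _ rfl
      exact ⟨x, rfl⟩
    exact finiteDimensional_of_intermediate_le hle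
  have h1 : mapDiv k (τ ∘ φ) = mapDiv k (fun i => algebraMap τ.fieldRange K (e (φ i))) := rfl
  rw [h1, mapDiv_algebraMap_eq_conorm hK₁ hK, deg_conorm hK₁, deg_mapDiv_equiv hK hK₁ e]

end endo

end Groth.Agent.Lib.Helper24.FFExt
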