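import Groth.Agent.Lib.Helper24.FFExt.Weak

/-! # Conorm for a weak base, transitivity of ramification (helper24) -/

set_option autoImplicit false

namespace Groth.Agent.Lib.Helper24.FFExt

open FunFld WithZero IntermediateField Groth.Agent.Lib.Helper18.FF

variable {k K K' : Type*} [Field k] [Field K] [Field K'] [Algebra k K] [Algebra K K'] [Algebra k K']
  [IsScalarTower k K K']

theorem WeakFF.conormP_apply [FiniteDimensional K K'] (hW : WeakFF k K) (P : Place k K)
    (Q : Place k K') : conormP K' P Q = (ramIdx Q P : ℤ) := by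
  classical
  unfold conormP
  rw [dif_pos (hW.finite_isOver P), Finsupp.finsetSum_apply]
  by_cases hQ : IsOver Q P
  · rw [Finset.sum_eq_single Q]
    · simp
    · intro Q' _ hne
      simp [hne]
    · intro hn
      exact absurd ((Set.Finite.mem_toFinset (hW.finite_isOver P)).mpr hQ) hn
  · rw [ramIdx_of_not_isOver hQ, Nat.cast_zero]
    apply Finset.sum_eq_zero
    intro Q' hQ'
    have hQ'P : IsOver Q' P := (Set.Finite.mem_toFinset (hW.finite_isOver P)).mp hQ'
    have hne : Q' ≠ Q := by rintro rfl; exact hQ hQ'P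
    simp [Finsupp.single_apply, hne]

theorem WeakFF.conorm_apply [FiniteDimensional K K'] (hW : WeakFF k K) (D : Divisor k K)
    {Q : Place k K'} {P : Place k K} (hQP : IsOver Q P) :
    conorm K' D Q = D P * (ramIdx Q P : ℤ) := by
  classical
  rw [conorm_eq_sum, Finsupp.sum, Finsupp.finsetSum_apply]
  rw [Finset.sum_eq_single P]
  · rw [Finsupp.smul_apply, hW.conormP_apply, smul_eq_mul]
  · intro P' _ hne
    rw [Finsupp.smul_apply, hW.conormP_apply, ramIdx_of_not_isOver, Nat.cast_zero, smul_zero]
    intro h
    exact hne (isOver_unique h hQP)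
  · intro hn
    rw [Finsupp.notMem_support_iff.mp hn, zero_smul]
    rfl

/-- Ramification indices multiply in towers. -/
theorem isOverWith_trans {K'' : Type*} [Field K''] [Algebra k K''] [Algebra K' K''] [Algebra K K'']
    [IsScalarTower K K' K''] {Q'' : Place k K''} {Q' : Place k K'} {P : Place k K} {e₁ e₂ : ℕ}
    (h₂ : IsOverWith Q'' Q' e₂) (h₁ : IsOverWith Q' P e₁) : IsOverWith Q'' P (e₁ * e₂) := by
  intro x
  rw [IsScalarTower.algebraMap_apply K K' K'', h₂, h₁, pow_mul]

/-- Transitivity of the conorm. -/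
theorem conorm_conorm {K'' : Type*} [Field K''] [Algebra k K''] [Algebra K' K''] [Algebra K K'']
    [IsScalarTower k K' K''] [IsScalarTower k K K''] [IsScalarTower K K' K'']
    [FiniteDimensional K K'] [FiniteDimensional K' K''] (hK : IsFunctionField k K)
    (D : Divisor k K) : conorm K'' (conorm K' D) = conorm K'' D := by
  haveI : FiniteDimensional K K'' := Module.Finite.trans K' K''
  have hW : WeakFF k K := hK.1
  have hW' : WeakFF k K' := hW.of_finite
  ext Q''
  obtain ⟨Q', hQ'⟩ := hW'.exists_isOver Q''
  obtain ⟨P, hP⟩ := hW.exists_isOver Q'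
  have h2 := isOver_isOverWith_ramIdx hQ'
  have h1 := isOver_isOverWith_ramIdx hP
  have h12 := isOverWith_trans h2 h1
  rw [hW'.conorm_apply _ hQ', hW.conorm_apply _ hP, hW.conorm_apply _ (isOverWith_isOver h12),
    isOverWith_ramIdx_eq h12]
  push_cast
  ring

end Groth.Agent.Lib.Helper24.FFExt
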